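import Mathlib
import Groth.Prelude.Def_PolLaw

/-!
# The kernel after base change to a polynomial ring
-/

set_option autoImplicit false

universe u

open scoped TensorProduct

namespace Groth.Agent.PolLawLib

variable {A : Type u} [CommRing A] {B : Type u} [CommRing B] [Algebra A B] {C : Type u} [CommRing C] [Algebra A C]
  (F : B →ₚₗ[A] C)

theorem map_ker_le_kerBC (A' : Type u) [CommRing A'] [Algebra A A'] :
    (PolLaw.ker F).map (Algebra.TensorProduct.includeRight : B →ₐ[A] A' ⊗[A] B) ≤ PolLaw.kerBC F A' := by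
  rw [Ideal.map_le_iff_le_comap]
  intro b hb R _ _ _ _ x w
  rw [show Algebra.TensorProduct.map (IsScalarTower.toAlgHom A A' R) (AlgHom.id A B)
      ((Algebra.TensorProduct.includeRight : B →ₐ[A] A' ⊗[A] B) b) = (1 : R) ⊗ₜ[A] b by simp]
  exact hb R x w

/-- The translations fixing `F` over one test algebra. -/
def fixIdeal (R : Type u) [CommRing R] [Algebra A R] : Ideal (R ⊗[A] B) where
  carrier := {z | ∀ x w : R ⊗[A] B, F.toFun' R (x + w * z) = F.toFun' R x}
  zero_mem' x w := by simp
  add_mem' {a b} ha hb x w := by rw [mul_add, ← add_assoc, hb, ha]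
  smul_mem' c {z} hz x w := by rw [smul_eq_mul, ← mul_assoc, hz]

theorem exists_sum_powers (z : Polynomial A ⊗[A] B) :
    ∃ (n : ℕ) (b : ℕ → B), z = ∑ i ∈ Finset.range n, ((Polynomial.X : Polynomial A) ^ i) ⊗ₜ[A] b i := by
  induction z using TensorProduct.induction_on with
  | zero => exact ⟨0, 0, by simp⟩
  | tmul p b =>
    refine ⟨p.natDegree + 1, fun i => p.coeff i • b, ?_⟩
    conv_lhs => rw [p.as_sum_range_C_mul_X_pow, TensorProduct.sum_tmul]
    exact Finset.sum_congr rfl fun i _ => by
      rw [← Polynomial.smul_eq_C_mul, TensorProduct.smul_tmul]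
  | add x y hx hy =>
    obtain ⟨n, b, rfl⟩ := hx
    obtain ⟨m, c, rfl⟩ := hy
    refine ⟨max n m, fun i => (if i < n then b i else 0) + (if i < m then c i else 0), ?_⟩
    simp only [TensorProduct.tmul_add, Finset.sum_add_distrib, TensorProduct.tmul_ite, TensorProduct.tmul_zero]
    congr 1
    · rw [← Finset.sum_filter]
      exact Finset.sum_congr (Finset.ext fun i => by simp; omega) fun _ _ => rfl
    · rw [← Finset.sum_filter]
      exact Finset.sum_congr (Finset.ext fun i => by simp; omega) fun _ _ => rfl

theorem fix_of_mem_kerBC_polynomial {n : ℕ} (b : Fin n → B)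
    (h : ∑ i : Fin n, ((Polynomial.X : Polynomial A) ^ (i : ℕ)) ⊗ₜ[A] b i ∈ PolLaw.kerBC F (Polynomial A))
    (i0 : Fin n) (S : Type u) [CommRing S] [Algebra A S] (x w : S ⊗[A] B) :
    F.toFun' S (x + w * ((1 : S) ⊗ₜ[A] b i0)) = F.toFun' S x := by
  classical
  let S1 := Polynomial S
  let R := Polynomial S1
  let j : S →ₐ[A] S1 := IsScalarTower.toAlgHom A S S1
  let T : Fin n → R := fun k => (Polynomial.X : R) ^ (k : ℕ)
  let v : Fin n → R ⊗[A] B := fun k => ∑ i : Fin n, (T k ^ (i : ℕ)) ⊗ₜ[A] b i
  have hv : ∀ k, v k ∈ fixIdeal F R := by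
    intro k x w
    letI : Algebra (Polynomial A) R := (Polynomial.aeval (T k)).toRingHom.toAlgebra
    haveI : IsScalarTower A (Polynomial A) R :=
      IsScalarTower.of_algebraMap_eq fun a => ((Polynomial.aeval (T k)).commutes a).symm
    have := h R x w
    rwa [map_sum, show ∑ i : Fin n, Algebra.TensorProduct.map (IsScalarTower.toAlgHom A (Polynomial A) R) (AlgHom.id A B)
        (((Polynomial.X : Polynomial A) ^ (i : ℕ)) ⊗ₜ[A] b i) = v k from Finset.sum_congr rfl fun i _ => by
      rw [Algebra.TensorProduct.map_tmul, IsScalarTower.coe_toAlgHom', map_pow]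
      exact congrArg (fun z => (z ^ (i : ℕ)) ⊗ₜ[A] b i) (Polynomial.aeval_X (T k))] at this
  let V : Matrix (Fin n) (Fin n) R := Matrix.vandermonde T
  have hdet : V.det ⊗ₜ[A] b i0 ∈ fixIdeal F R := by
    have h1 : ∑ k, (V.adjugate i0 k ⊗ₜ[A] (1 : B)) * v k = V.det ⊗ₜ[A] b i0 := by
      simp only [v, Finset.mul_sum, Algebra.TensorProduct.tmul_mul_tmul, one_mul]
      rw [Finset.sum_comm]
      have h2 : ∀ i : Fin n, ∑ k, V.adjugate i0 k * T k ^ (i : ℕ) = if i0 = i then V.det else 0 := fun i => by
        have := congrFun (congrFun (Matrix.adjugate_mul V) i0) i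
        rw [Matrix.mul_apply, Matrix.smul_apply, Matrix.one_apply, smul_eq_mul, mul_ite, mul_one, mul_zero] at this
        exact this
      simp only [← TensorProduct.sum_tmul, h2, TensorProduct.ite_tmul, Finset.sum_ite_eq, Finset.mem_univ, if_true]
    rw [← h1]
    exact Ideal.sum_mem _ fun k _ => Ideal.mul_mem_left _ _ (hv k)
  let P0 : Polynomial S := (Matrix.vandermonde fun k : Fin n => (Polynomial.X : Polynomial S) ^ (k : ℕ)).det
  have hP0 : V.det = P0.map Polynomial.C := by
    rw [show P0.map Polynomial.C = Polynomial.mapRingHom Polynomial.C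
      (Matrix.vandermonde fun k : Fin n => (Polynomial.X : Polynomial S) ^ (k : ℕ)).det from rfl, RingHom.map_det]
    congr 1
    ext i k : 2
    simp [V, T]
  have hP0m : P0.Monic := by
    simp only [P0]
    rw [Matrix.det_vandermonde]
    refine Polynomial.monic_prod_of_monic _ _ fun i _ => Polynomial.monic_prod_of_monic _ _ fun k hk => ?_
    refine Polynomial.monic_X_pow_sub ?_
    refine (Polynomial.degree_X_pow_le _).trans_lt ?_
    exact_mod_cast Finset.mem_Ioi.mp hk
  let e : S1 →ₐ[A] R := (Polynomial.aeval (Polynomial.C (Polynomial.X : S1) * V.det : R)).restrictScalars A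
  let e0 : S1 →ₐ[A] R := IsScalarTower.toAlgHom A S1 R
  let xx : S1 ⊗[A] B := j.toLinearMap.rTensor B x
  let ww : S1 ⊗[A] B := j.toLinearMap.rTensor B w
  have hmap : ∀ {R₁ R₂ : Type u} [CommRing R₁] [Algebra A R₁] [CommRing R₂] [Algebra A R₂] (g : R₁ →ₐ[A] R₂)
      (z : R₁ ⊗[A] B), g.toLinearMap.rTensor B z = Algebra.TensorProduct.map g (AlgHom.id A B) z := by
    intro R₁ R₂ _ _ _ _ g z
    induction z using TensorProduct.induction_on with
    | zero => simp
    | tmul a c => rfl
    | add a c ha hc => rw [map_add, map_add, ha, hc]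
  set G := F.toFun' S1 (xx + ww * ((Polynomial.X : S1) ⊗ₜ[A] b i0)) with hG
  have h3 : e.toLinearMap.rTensor C G = e.toLinearMap.rTensor C (F.toFun' S1 xx) := by
    rw [hG, PolynomialLaw.isCompat_apply' (f := F) e, PolynomialLaw.isCompat_apply' (f := F) e, hmap (R₁ := S1) (R₂ := R) e, hmap (R₁ := S1) (R₂ := R) e, map_add, map_mul,
      Algebra.TensorProduct.map_tmul]
    refine (fixIdeal F R).mem_carrier.mp ?_ _ _
    rw [show e (Polynomial.X : S1) = Polynomial.C (Polynomial.X : S1) * V.det from Polynomial.aeval_X _, AlgHom.id_apply,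
      show (Polynomial.C (Polynomial.X : S1) * V.det) ⊗ₜ[A] b i0 =
        ((Polynomial.C (Polynomial.X : S1) : R) ⊗ₜ[A] (1 : B)) * (V.det ⊗ₜ[A] b i0) by
        rw [Algebra.TensorProduct.tmul_mul_tmul, one_mul]]
    exact Ideal.mul_mem_left _ _ hdet
  have h4 : G = F.toFun' S1 xx := by
    have hinj : Function.Injective (e.toLinearMap.rTensor C) := by
      let N := P0.natDegree
      let L : ℕ → S1 →ₗ[S] S1 := fun m => Polynomial.lsum fun k => if m = k * N then Polynomial.monomial k else 0
      let r : R →ₗ[A] S1 := (Polynomial.lsum (R := S) (A := S1) fun m => L m).restrictScalars A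
      have hre : r ∘ₗ e.toLinearMap = LinearMap.id := by
        refine LinearMap.ext fun p => ?_
        induction p using Polynomial.induction_on' with
        | add p q hp hq => rw [map_add, map_add, hp, hq]
        | monomial k s =>
          show r (e (Polynomial.monomial k s)) = Polynomial.monomial k s
          have he : e (Polynomial.monomial k s) = Polynomial.C (Polynomial.monomial k s : S1) * (P0 ^ k).map Polynomial.C := by
            have heC : e (Polynomial.C s) = Polynomial.C (Polynomial.C s) := Polynomial.aeval_C _ _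
            have heX : e (Polynomial.X : S1) = Polynomial.C (Polynomial.X : S1) * V.det := Polynomial.aeval_X _
            rw [← Polynomial.C_mul_X_pow_eq_monomial, map_mul, map_pow, heC, heX, hP0, mul_pow, Polynomial.map_pow,
              ← mul_assoc, ← Polynomial.C_pow, ← Polynomial.C_mul]
          rw [he]
          show (Polynomial.C (Polynomial.monomial k s : S1) * (P0 ^ k).map Polynomial.C).sum (fun m q => L m q) = _
          rw [Polynomial.sum_over_range' _ (fun m => map_zero (L m)) (k * N + 1) (Nat.lt_succ_of_le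
            ((Polynomial.natDegree_C_mul_le _ _).trans (Polynomial.natDegree_map_le.trans (Polynomial.natDegree_pow_le))))]
          rw [Finset.sum_eq_single (k * N)]
          · rw [Polynomial.coeff_C_mul, Polynomial.coeff_map,
              show (P0 ^ k).coeff (k * N) = 1 by
                rw [← (hP0m.natDegree_pow k)]; exact (hP0m.pow k).coeff_natDegree, map_one, mul_one]
            rw [Polynomial.lsum_apply (R := S) (A := S), Polynomial.sum_monomial_index]
            swap
            · exact map_zero _
            show (if k * N = k * N then (Polynomial.monomial k : S →ₗ[S] S1) else 0) s = _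
            rw [if_pos rfl]
          · intro m _ hm
            rw [Polynomial.coeff_C_mul, Polynomial.coeff_map, Polynomial.monomial_mul_C]
            rw [Polynomial.lsum_apply (R := S) (A := S), Polynomial.sum_monomial_index]
            swap
            · exact map_zero _
            show (if m = k * N then (Polynomial.monomial k : S →ₗ[S] S1) else 0) _ = _
            rw [if_neg hm]
            rfl
          · simp
      intro z z' hzz
      have := congrArg (r.rTensor C) hzz
      rwa [← LinearMap.rTensor_comp_apply, ← LinearMap.rTensor_comp_apply, hre, LinearMap.rTensor_id] at this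
    exact hinj h3
  -- specialise `X = 1`
  let s1 : S1 →ₐ[A] S := (Polynomial.aeval (1 : S)).restrictScalars A
  have hs1 : ∀ z : S ⊗[A] B, s1.toLinearMap.rTensor B (j.toLinearMap.rTensor B z) = z := fun z => by
    rw [← LinearMap.rTensor_comp_apply, ← AlgHom.comp_toLinearMap,
      show s1.comp j = AlgHom.id A S from AlgHom.ext fun s => by simp [s1, j]]
    simp
  have h9 := congrArg (s1.toLinearMap.rTensor C) h4
  rw [hG, PolynomialLaw.isCompat_apply' (f := F) s1, PolynomialLaw.isCompat_apply' (f := F) s1, hs1] at h9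
  rw [hmap, map_add, map_mul, ← hmap, ← hmap, hs1, hs1, Algebra.TensorProduct.map_tmul] at h9
  rw [show s1 (Polynomial.X : S1) = 1 from Polynomial.aeval_X 1] at h9
  simpa using h9

theorem mem_ker_of_mem_kerBC_polynomial {n : ℕ} (b : Fin n → B)
    (h : ∑ i : Fin n, ((Polynomial.X : Polynomial A) ^ (i : ℕ)) ⊗ₜ[A] b i ∈ PolLaw.kerBC F (Polynomial A))
    (i0 : Fin n) : b i0 ∈ PolLaw.ker F := by
  intro S _ _ x w
  letI : CommRing S := { (inferInstance : CommSemiring S), Algebra.semiringToRing A (A := S) with }
  exact fix_of_mem_kerBC_polynomial F b h i0 S x w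

theorem map_ker_eq_kerBC_polynomial :
    (PolLaw.ker F).map (Algebra.TensorProduct.includeRight : B →ₐ[A] Polynomial A ⊗[A] B) =
      PolLaw.kerBC F (Polynomial A) := by
  refine le_antisymm (map_ker_le_kerBC F _) fun z hz => ?_
  obtain ⟨n, b, rfl⟩ := exists_sum_powers z
  rw [Finset.sum_range] at hz ⊢
  refine Ideal.sum_mem _ fun i _ => ?_
  rw [show ((Polynomial.X : Polynomial A) ^ (i : ℕ)) ⊗ₜ[A] b i = (((Polynomial.X : Polynomial A) ^ (i : ℕ)) ⊗ₜ[A] (1 : B)) *
    (Algebra.TensorProduct.includeRight : B →ₐ[A] Polynomial A ⊗[A] B) (b i) by simp]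
  exact Ideal.mul_mem_left _ _ (Ideal.mem_map_of_mem _ (mem_ker_of_mem_kerBC_polynomial F (fun i : Fin n => b i) hz i))

end Groth.Agent.PolLawLib
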