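import Mathlib
import Groth.Prelude.Def_PolLaw

/-!
# Homogeneous laws on a polynomial algebra through multisymmetric polynomials

A law `F : A[σ] → C`, homogeneous of degree `d`, is `y ↦ Φ (∏_l y(x_l))` for a linear form `Φ` on
`A[Fin d × σ]`; when `F` is multiplicative `Φ` is multiplicative on the symmetric polynomials.
-/

set_option autoImplicit false

universe u

open scoped TensorProduct
open MvPolynomial

namespace Groth.Agent.PolLawLib

variable {A : Type u} [CommRing A] {σ : Type u} {N : Type u} [CommRing N] [Algebra A N] {d : ℕ}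

section combinatorics

/-- The exponent with `l`-th block `c l`. -/
noncomputable def join (c : Fin d → σ →₀ ℕ) : Fin d × σ →₀ ℕ :=
  ∑ l, Finsupp.mapDomain (Prod.mk l) (c l)

/-- The blocks of an exponent. -/
noncomputable def split (e : Fin d × σ →₀ ℕ) (l : Fin d) : σ →₀ ℕ :=
  Finsupp.comapDomain (Prod.mk l) e (Prod.mk_right_injective l).injOn

theorem split_apply (e : Fin d × σ →₀ ℕ) (l : Fin d) (s : σ) : split e l s = e (l, s) :=
  Finsupp.comapDomain_apply _ _ _ _

theorem join_apply (c : Fin d → σ →₀ ℕ) (l : Fin d) (s : σ) : join c (l, s) = c l s := by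
  rw [join, Finsupp.finsetSum_apply, Finset.sum_eq_single l]
  · rw [Finsupp.mapDomain_apply (Prod.mk_right_injective l)]
  · intro k _ hk
    rw [Finsupp.mapDomain_notin_range]
    rintro ⟨s', hs'⟩
    exact hk (congrArg Prod.fst hs')
  · intro h; exact absurd (Finset.mem_univ l) h

theorem split_join (c : Fin d → σ →₀ ℕ) : split (join c) = c :=
  funext fun l => Finsupp.ext fun s => by rw [split_apply, join_apply]

theorem join_split (e : Fin d × σ →₀ ℕ) : join (split e) = e :=
  Finsupp.ext fun ⟨l, s⟩ => by rw [join_apply, split_apply]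

/-- The multiset of the blocks. -/
noncomputable def kap (c : Fin d → σ →₀ ℕ) : (σ →₀ ℕ) →₀ ℕ :=
  ∑ l, Finsupp.single (c l) 1

open Classical in
theorem kap_apply (c : Fin d → σ →₀ ℕ) (m : σ →₀ ℕ) :
    kap c m = (Finset.univ.filter fun l => c l = m).card := by
  rw [kap, Finsupp.finsetSum_apply, Finset.card_filter]
  exact Finset.sum_congr rfl fun l _ => by rw [Finsupp.single_apply]

theorem degree_kap (c : Fin d → σ →₀ ℕ) : (kap c).degree = d := by
  rw [kap, map_sum]; simp

theorem mem_support_kap (c : Fin d → σ →₀ ℕ) (m : σ →₀ ℕ) : m ∈ (kap c).support ↔ ∃ l, c l = m := by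
  classical
  rw [Finsupp.mem_support_iff, kap_apply, Finset.card_ne_zero]
  simp [Finset.filter_nonempty_iff]

theorem exists_kap_eq (κ : (σ →₀ ℕ) →₀ ℕ) (h : κ.degree = d) : ∃ c : Fin d → σ →₀ ℕ, kap c = κ := by
  classical
  have hcard : (Finsupp.toMultiset κ).toList.length = d := by
    rw [Multiset.length_toList, Finsupp.card_toMultiset, ← h, Finsupp.degree_apply]; rfl
  refine ⟨fun l => (Finsupp.toMultiset κ).toList.get (l.cast hcard.symm), ?_⟩
  refine Finsupp.orderIsoMultiset.injective ?_
  show Finsupp.toMultiset _ = Finsupp.toMultiset _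
  rw [kap, map_sum]
  simp only [Finsupp.toMultiset_single, one_smul, Multiset.singleton_add, Finset.sum_multiset_singleton]
  conv_rhs => rw [← Multiset.coe_toList (Finsupp.toMultiset κ)]
  rw [Finset.sum_eq_multiset_sum]
  show (Multiset.map ((fun a => ({a} : Multiset (σ →₀ ℕ))) ∘ fun x : Fin d => (Finsupp.toMultiset κ).toList.get (x.cast hcard.symm)) _).sum = _
  rw [← Multiset.map_map, Multiset.sum_map_singleton,
    Fin.univ_val_map, Multiset.coe_eq_coe]
  refine List.Perm.of_eq (List.ext_getElem (by simp [hcard]) fun i h1 h2 => by simp)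

/-- A chosen tuple for each multiset. -/
noncomputable def rep (κ : (σ →₀ ℕ) →₀ ℕ) : Fin d → σ →₀ ℕ :=
  haveI : Nonempty (Fin d → σ →₀ ℕ) := ⟨0⟩
  Function.invFun kap κ

theorem kap_rep {κ : (σ →₀ ℕ) →₀ ℕ} (h : ∃ c : Fin d → σ →₀ ℕ, kap c = κ) : kap (rep (d := d) κ) = κ :=
  haveI : Nonempty (Fin d → σ →₀ ℕ) := ⟨0⟩
  Function.invFun_eq h

theorem exists_perm {c c' : Fin d → σ →₀ ℕ} (h : kap c = kap c') : ∃ π : Equiv.Perm (Fin d), ∀ l, c' (π l) = c l := by
  classical
  have hcard : ∀ m, Fintype.card {l // c l = m} = Fintype.card {l // c' l = m} := fun m => by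
    rw [Fintype.card_subtype, Fintype.card_subtype, ← kap_apply, ← kap_apply, h]
  refine ⟨(Equiv.sigmaFiberEquiv c).symm.trans
    ((Equiv.sigmaCongrRight fun m => Fintype.equivOfCardEq (hcard m)).trans (Equiv.sigmaFiberEquiv c')), fun l => ?_⟩
  exact ((Fintype.equivOfCardEq (hcard (c l))) ⟨l, rfl⟩).2

open Classical in
/-- The orbit sum of a multiset, with coefficients in `R`. -/
noncomputable def orb (R : Type u) [CommSemiring R] (d : ℕ) (κ : (σ →₀ ℕ) →₀ ℕ) : MvPolynomial (Fin d × σ) R :=
  ∑ c ∈ (Fintype.piFinset fun _ : Fin d => κ.support).filter (fun c => kap c = κ), monomial (join c) 1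

open Classical in
theorem coeff_orb (R : Type u) [CommSemiring R] (κ : (σ →₀ ℕ) →₀ ℕ) (e : Fin d × σ →₀ ℕ) :
    (orb R d κ).coeff e = if kap (split e) = κ then 1 else 0 := by
  rw [orb, coeff_sum]
  by_cases h : kap (split e) = κ
  · rw [if_pos h, Finset.sum_eq_single (split e)]
    · rw [coeff_monomial, join_split, if_pos rfl]
    · intro c _ hc
      rw [coeff_monomial, if_neg fun h' => hc (by rw [← h', split_join])]
    · intro h'
      refine absurd (Finset.mem_filter.mpr ⟨Fintype.mem_piFinset.mpr fun l => ?_, h⟩) h'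
      rw [← h, mem_support_kap]; exact ⟨l, rfl⟩
  · rw [if_neg h]
    refine Finset.sum_eq_zero fun c hc => ?_
    rw [coeff_monomial, if_neg fun h' => h ?_]
    rw [← h', split_join]; exact (Finset.mem_filter.mp hc).2

theorem map_orb {R R' : Type u} [CommSemiring R] [CommSemiring R'] (f : R →+* R') (κ : (σ →₀ ℕ) →₀ ℕ) :
    MvPolynomial.map f (orb R d κ) = orb R' d κ := by
  classical
  ext e
  rw [coeff_map, coeff_orb, coeff_orb, apply_ite f, map_one, map_zero]

end combinatorics

/-- The symmetric polynomials in `d` blocks of variables. -/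
def IsSym {S : Type u} [CommSemiring S] (z : MvPolynomial (Fin d × σ) S) : Prop :=
  ∀ π : Equiv.Perm (Fin d), rename (fun p => (π p.1, p.2)) z = z

theorem IsSym.coeff_eq {S : Type u} [CommSemiring S] {z : MvPolynomial (Fin d × σ) S} (hz : IsSym z)
    {c c' : Fin d → σ →₀ ℕ} (h : kap c = kap c') : z.coeff (join c) = z.coeff (join c') := by
  obtain ⟨π, hπ⟩ := exists_perm h
  have hinj : Function.Injective fun p : Fin d × σ => (π p.1, p.2) := fun p q h => by
    simp only [Prod.mk.injEq] at h; exact Prod.ext (π.injective h.1) h.2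
  have : Finsupp.mapDomain (fun p : Fin d × σ => (π p.1, p.2)) (join c) = join c' := by
    refine Finsupp.ext fun ⟨l, s⟩ => ?_
    obtain ⟨k, rfl⟩ := π.surjective l
    rw [show ((π k, s) : Fin d × σ) = (fun p : Fin d × σ => (π p.1, p.2)) (k, s) from rfl,
      Finsupp.mapDomain_apply hinj, join_apply, join_apply, hπ]
  conv_rhs => rw [← hz π, ← this, coeff_rename_mapDomain _ hinj]

open Classical in
theorem IsSym.eq_sum {S : Type u} [CommSemiring S] {z : MvPolynomial (Fin d × σ) S} (hz : IsSym z) :
    z = ∑ κ ∈ z.support.image (fun e => kap (split e)), C (z.coeff (join (rep κ))) * orb S d κ := by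
  ext e
  rw [coeff_sum]
  simp only [coeff_C_mul, coeff_orb, mul_ite, mul_one, mul_zero]
  rw [Finset.sum_ite_eq]
  have he : z.coeff e = z.coeff (join (rep (d := d) (kap (split e)))) := by
    conv_lhs => rw [← join_split e]
    exact hz.coeff_eq (kap_rep ⟨_, rfl⟩).symm
  by_cases h : kap (split e) ∈ z.support.image (fun e => kap (split e))
  · rw [if_pos h, he]
  · rw [if_neg h]
    by_contra hne
    exact h (Finset.mem_image.mpr ⟨e, mem_support_iff.mpr hne, rfl⟩)

section IsSym

variable {S : Type u} [CommSemiring S]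

theorem isSym_one : IsSym (1 : MvPolynomial (Fin d × σ) S) := fun π => map_one _

theorem isSym_C (s : S) : IsSym (C s : MvPolynomial (Fin d × σ) S) := fun π => rename_C _ _

theorem IsSym.mul {z w : MvPolynomial (Fin d × σ) S} (hz : IsSym z) (hw : IsSym w) : IsSym (z * w) :=
  fun π => by rw [map_mul, hz π, hw π]

theorem IsSym.add {z w : MvPolynomial (Fin d × σ) S} (hz : IsSym z) (hw : IsSym w) : IsSym (z + w) :=
  fun π => by rw [map_add, hz π, hw π]

/-- `∏_l y(x_l)`. -/
noncomputable def blockProd (d : ℕ) (y : MvPolynomial σ S) : MvPolynomial (Fin d × σ) S :=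
  ∏ l, rename (Prod.mk l) y

theorem isSym_blockProd (y : MvPolynomial σ S) : IsSym (blockProd d y) := fun π => by
  rw [blockProd, map_prod]
  simp only [rename_rename, Function.comp_def]
  exact Fintype.prod_equiv π _ _ fun l => rfl

theorem blockProd_mul (y y' : MvPolynomial σ S) : blockProd d (y * y') = blockProd d y * blockProd d y' := by
  simp [blockProd, Finset.prod_mul_distrib]

theorem blockProd_one : blockProd d (1 : MvPolynomial σ S) = 1 := by simp [blockProd]

theorem map_blockProd {S' : Type u} [CommSemiring S'] (f : S →+* S') (y : MvPolynomial σ S) :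
    MvPolynomial.map f (blockProd d y) = blockProd d (MvPolynomial.map f y) := by
  simp [blockProd, map_prod, map_rename]

open Classical in
theorem blockProd_sum (T : Finset (σ →₀ ℕ)) (s : (σ →₀ ℕ) → S) :
    blockProd d (∑ m ∈ T, monomial m (s m)) =
      ∑ c ∈ Fintype.piFinset fun _ : Fin d => T, monomial (join c) (∏ l, s (c l)) := by
  simp only [blockProd, map_sum, rename_monomial]
  rw [Finset.prod_univ_sum]
  refine Finset.sum_congr rfl fun c _ => ?_
  rw [join, monomial_sum_prod]

end IsSym

section law

variable (F : PolLaw.MulLaw A (MvPolynomial σ A) N d)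

/-- The law read on polynomials with coefficients in the test algebra. -/
noncomputable def lawP (S : Type u) [CommRing S] [Algebra A S] (y : MvPolynomial σ S) : S ⊗[A] N :=
  F.law.toFun' S ((algebraTensorAlgEquiv A S).symm y)

theorem lawP_compat {S S' : Type u} [CommRing S] [Algebra A S] [CommRing S'] [Algebra A S'] (h : S →ₐ[A] S')
    (y : MvPolynomial σ S) : h.toLinearMap.rTensor N (lawP F S y) = lawP F S' (MvPolynomial.map h.toRingHom y) := by
  rw [lawP, lawP, PolynomialLaw.isCompat_apply' (f := F.law) h]
  congr 1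
  induction y using MvPolynomial.induction_on' with
  | monomial m a => rw [map_monomial, algebraTensorAlgEquiv_symm_monomial, algebraTensorAlgEquiv_symm_monomial]; rfl
  | add p q hp hq => rw [map_add, map_add, hp, hq, map_add, map_add]

theorem lawP_one (S : Type u) [CommRing S] [Algebra A S] : lawP F S 1 = 1 := by
  rw [lawP, map_one]; exact (F.mult S).1

theorem lawP_mul (S : Type u) [CommRing S] [Algebra A S] (y y' : MvPolynomial σ S) :
    lawP F S (y * y') = lawP F S y * lawP F S y' := by
  simp only [lawP, map_mul]; exact (F.mult S).2 _ _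

theorem lawP_smul (S : Type u) [CommRing S] [Algebra A S] (s : S) (y : MvPolynomial σ S) :
    lawP F S (s • y) = s ^ d • lawP F S y := by
  simp only [lawP, map_smul]; exact F.homog S s _

/-- The coefficient of a monomial in `A[M] ⊗ C`. -/
noncomputable def coefA {M : Type u} (κ : M →₀ ℕ) : MvPolynomial M A ⊗[A] N →ₗ[A] N :=
  (TensorProduct.lid A N).toLinearMap ∘ₗ (lcoeff A κ).rTensor N

theorem coefA_tmul {M : Type u} (κ : M →₀ ℕ) (p : MvPolynomial M A) (c : N) :
    coefA κ (p ⊗ₜ[A] c) = p.coeff κ • c := by
  simp [coefA]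

theorem coefA_ext {M : Type u} {z z' : MvPolynomial M A ⊗[A] N} (h : ∀ κ, coefA κ z = coefA κ z') : z = z' := by
  classical
  apply (TensorProduct.equivFinsuppOfBasisLeft (basisMonomials M A) (N := N)).injective
  refine Finsupp.ext fun κ => ?_
  have key : ∀ w : MvPolynomial M A ⊗[A] N,
      TensorProduct.equivFinsuppOfBasisLeft (basisMonomials M A) w κ = coefA κ w := by
    intro w
    induction w using TensorProduct.induction_on with
    | zero => simp
    | tmul p c => rw [TensorProduct.equivFinsuppOfBasisLeft_apply_tmul_apply, coefA_tmul]; rfl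
    | add a b ha hb => rw [map_add, map_add, Finsupp.add_apply, ha, hb]
  rw [key, key, h κ]

/-- The generic element supported on `T`. -/
noncomputable def gen (T : Finset (σ →₀ ℕ)) : MvPolynomial σ (MvPolynomial (σ →₀ ℕ) A) :=
  ∑ m ∈ T, monomial m (X m)

/-- The coefficient of `F` at a multiset of monomials. -/
noncomputable def lawCoeff (κ : (σ →₀ ℕ) →₀ ℕ) : N :=
  coefA κ (lawP F (MvPolynomial (σ →₀ ℕ) A) (gen κ.support))

open Classical in
/-- The substitution killing the variables outside `U`. -/
noncomputable def cut {M : Type u} (U : Finset M) : MvPolynomial M A →ₐ[A] MvPolynomial M A :=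
  aeval fun m => if m ∈ U then X m else 0

open Classical in
theorem cut_monomial {M : Type u} (U : Finset M) (e : M →₀ ℕ) :
    cut (A := A) U (monomial e 1) = if e.support ⊆ U then monomial e 1 else 0 := by
  rw [cut, aeval_monomial, map_one, one_mul]
  split_ifs with h
  · rw [monomial_eq, map_one, one_mul]
    refine Finsupp.prod_congr fun m hm => ?_
    rw [if_pos (h hm)]
  · obtain ⟨m, hm, hmU⟩ := Finset.not_subset.mp h
    refine Finset.prod_eq_zero hm ?_
    show (if m ∈ U then (X m : MvPolynomial M A) else 0) ^ e m = 0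
    rw [if_neg hmU, zero_pow (Finsupp.mem_support_iff.mp hm)]

open Classical in
theorem coeff_cut {M : Type u} (U : Finset M) (p : MvPolynomial M A) (κ : M →₀ ℕ) :
    (cut U p).coeff κ = if κ.support ⊆ U then p.coeff κ else 0 := by
  induction p using MvPolynomial.induction_on' with
  | monomial e a =>
    rw [show monomial e a = C a * monomial e 1 by rw [C_mul_monomial, mul_one], map_mul, algHom_C, cut_monomial,
      MvPolynomial.algebraMap_eq]
    simp only [coeff_C_mul, coeff_monomial, apply_ite (coeff κ), coeff_zero]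
    split_ifs <;> simp_all
  | add p q hp hq =>
    rw [map_add, coeff_add, coeff_add, hp, hq]
    split_ifs <;> simp

open Classical in
theorem map_cut_gen (U T : Finset (σ →₀ ℕ)) :
    MvPolynomial.map (cut (A := A) U).toRingHom (gen T) = gen (T ∩ U) := by
  simp only [gen, map_sum, map_monomial]
  rw [← Finset.sum_filter_add_sum_filter_not T (fun m => m ∈ U), Finset.filter_mem_eq_inter,
    Finset.sum_eq_zero (s := T.filter fun m => m ∉ U) fun m hm => ?_, add_zero]
  · refine Finset.sum_congr rfl fun m hm => ?_
    simp [cut, (Finset.mem_inter.mp hm).2]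
  · simp [cut, (Finset.mem_filter.mp hm).2]

open Classical in
theorem coefA_rTensor_cut {M : Type u} (U : Finset M) (κ : M →₀ ℕ) (z : MvPolynomial M A ⊗[A] N) :
    coefA κ ((cut U).toLinearMap.rTensor N z) = if κ.support ⊆ U then coefA κ z else 0 := by
  induction z using TensorProduct.induction_on with
  | zero => simp
  | tmul p c =>
    rw [LinearMap.rTensor_tmul, coefA_tmul, coefA_tmul, AlgHom.toLinearMap_apply, coeff_cut]
    split_ifs <;> simp
  | add a b ha hb => rw [map_add, map_add, ha, hb]; split_ifs <;> simp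

theorem coeff_eq_zero_of_homog (T : Finset (σ →₀ ℕ)) (κ : (σ →₀ ℕ) →₀ ℕ) (hκ : κ.degree ≠ d) :
    coefA κ (lawP F (MvPolynomial (σ →₀ ℕ) A) (gen T)) = 0 := by
  classical
  let S0 := MvPolynomial (σ →₀ ℕ) A
  let h : S0 →ₐ[A] Polynomial S0 := aeval fun m => Polynomial.C (X m) * Polynomial.X
  let j : S0 →ₐ[A] Polynomial S0 := IsScalarTower.toAlgHom A S0 (Polynomial S0)
  have hgen : MvPolynomial.map h.toRingHom (gen T) = (Polynomial.X : Polynomial S0) • MvPolynomial.map j.toRingHom (gen T) := by
    simp only [gen, map_sum, map_monomial, Finset.smul_sum, smul_monomial]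
    refine Finset.sum_congr rfl fun m _ => ?_
    congr 1
    show h (X m) = (Polynomial.X : Polynomial S0) * j (X m)
    rw [show h (X m) = Polynomial.C (X m) * Polynomial.X from aeval_X _ m, mul_comm]
    rfl
  let L : Polynomial S0 →ₗ[A] A := (lcoeff A κ) ∘ₗ ((Polynomial.lcoeff S0 d).restrictScalars A)
  have hLh : ∀ p, L (h p) = if κ.degree = d then p.coeff κ else 0 := by
    intro p
    induction p using MvPolynomial.induction_on' with
    | monomial e a =>
      have he : h (monomial e a) = Polynomial.monomial e.degree (monomial e a : S0) := by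
        rw [show monomial e a = C a * e.prod fun m k => (X m : S0) ^ k from monomial_eq, map_mul, map_finsuppProd,
          ← Polynomial.C_mul_X_pow_eq_monomial, algHom_C]
        have hX : ∀ m, h (X m) = Polynomial.C (X m) * Polynomial.X := fun m => aeval_X _ m
        simp only [map_pow, hX, mul_pow]
        rw [Finsupp.prod_mul, map_mul, map_finsuppProd]
        simp only [map_pow]
        rw [show (e.prod fun _ k => (Polynomial.X : Polynomial S0) ^ k) = Polynomial.X ^ e.degree from
          Finset.prod_pow_eq_pow_sum _ _ _]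
        rw [mul_assoc]
        rfl
      show (Polynomial.coeff (h (monomial e a)) d : S0).coeff κ = _
      rw [he, Polynomial.coeff_monomial, coeff_monomial]
      by_cases hek : e = κ
      · subst hek; simp [hκ]
      · split_ifs <;> simp [coeff_monomial, hek]
    | add p q hp hq =>
      rw [map_add, map_add, hp, hq, coeff_add]
      split_ifs <;> simp
  have h1 := congrArg ((TensorProduct.lid A N).toLinearMap ∘ₗ L.rTensor N) ((lawP_compat F h (gen T)).trans
    ((congrArg (lawP F (Polynomial S0)) hgen).trans (lawP_smul F _ _ _)))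
  rw [← lawP_compat F j] at h1
  generalize lawP F S0 (gen T) = z at h1 ⊢
  have h2 : ∀ z : S0 ⊗[A] N, ((TensorProduct.lid A N).toLinearMap ∘ₗ L.rTensor N) (h.toLinearMap.rTensor N z) = 0 := by
    intro z
    induction z using TensorProduct.induction_on with
    | zero => simp
    | tmul p c => simp [hLh, hκ]
    | add a b ha hb => rw [map_add, map_add, ha, hb, add_zero]
  have h3 : ∀ z : S0 ⊗[A] N, ((TensorProduct.lid A N).toLinearMap ∘ₗ L.rTensor N)
      ((Polynomial.X : Polynomial S0) ^ d • j.toLinearMap.rTensor N z) = coefA κ z := by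
    intro z
    induction z using TensorProduct.induction_on with
    | zero => simp
    | tmul p c =>
      rw [LinearMap.rTensor_tmul, TensorProduct.smul_tmul', coefA_tmul]
      show (L ((Polynomial.X : Polynomial S0) ^ d • (Polynomial.C p))) • c = _
      simp [L, smul_eq_mul]
    | add a b ha hb => rw [map_add, smul_add, map_add, ha, hb, map_add]
  rw [h2, h3] at h1
  exact h1.symm

open Classical in
/-- The linear form on `A[Fin d × σ]` attached to `F`. -/
noncomputable def phi (e : Fin d × σ →₀ ℕ) : N :=
  if rep (kap (split e)) = split e then lawCoeff F (kap (split e)) else 0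

/-- Its extension to `S[Fin d × σ] → S ⊗ C`. -/
noncomputable def Phi (S : Type u) [CommRing S] [Algebra A S] : MvPolynomial (Fin d × σ) S →ₗ[S] S ⊗[A] N :=
  (basisMonomials (Fin d × σ) S).constr S fun e => (1 : S) ⊗ₜ[A] phi F e

theorem Phi_monomial (S : Type u) [CommRing S] [Algebra A S] (e : Fin d × σ →₀ ℕ) (s : S) :
    Phi F S (monomial e s) = s ⊗ₜ[A] phi F e := by
  rw [show monomial e s = s • (basisMonomials (Fin d × σ) S) e by simp [coe_basisMonomials, smul_monomial], map_smul,
    Phi, Module.Basis.constr_basis, TensorProduct.smul_tmul', smul_eq_mul, mul_one]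

theorem Phi_compat {S S' : Type u} [CommRing S] [Algebra A S] [CommRing S'] [Algebra A S'] (h : S →ₐ[A] S')
    (z : MvPolynomial (Fin d × σ) S) :
    h.toLinearMap.rTensor N (Phi F S z) = Phi F S' (MvPolynomial.map h.toRingHom z) := by
  induction z using MvPolynomial.induction_on' with
  | monomial e a => rw [map_monomial, Phi_monomial, Phi_monomial]; rfl
  | add p q hp hq => rw [map_add, map_add, hp, hq, map_add, map_add]

theorem lawP_gen (T : Finset (σ →₀ ℕ)) :
    lawP F (MvPolynomial (σ →₀ ℕ) A) (gen T) = Phi F _ (blockProd d (gen T)) := by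
  classical
  refine coefA_ext fun κ => ?_
  rw [gen, blockProd_sum, map_sum, map_sum]
  simp only [Phi_monomial, coefA_tmul]
  have hprod : ∀ c : Fin d → σ →₀ ℕ, (∏ l, (X (c l) : MvPolynomial (σ →₀ ℕ) A)) = monomial (kap c) 1 := fun c => by
    rw [kap, monomial_sum_one]; rfl
  simp only [hprod, coeff_monomial, ite_smul, one_smul, zero_smul]
  by_cases hκ : κ.degree = d ∧ κ.support ⊆ T
  · obtain ⟨hdeg, hsub⟩ := hκ
    have hrep := kap_rep (exists_kap_eq (d := d) κ hdeg)
    rw [Finset.sum_eq_single (rep κ)]
    · rw [if_pos hrep, phi, split_join, hrep, if_pos rfl, lawCoeff]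
      have := congrArg (coefA κ) (lawP_compat F (cut κ.support) (gen T))
      rw [coefA_rTensor_cut, if_pos (subset_refl _), map_cut_gen,
        show T ∩ κ.support = κ.support from Finset.inter_eq_right.mpr hsub] at this
      exact this
    · intro c _ hc
      by_cases h : kap c = κ
      · rw [if_pos h, phi, split_join, h, if_neg (Ne.symm hc)]
      · rw [if_neg h]
    · intro h
      refine absurd (Fintype.mem_piFinset.mpr fun l => hsub ?_) h
      conv_lhs => rw [← hrep]
      exact (mem_support_kap _ _).mpr ⟨l, rfl⟩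
  · rw [Finset.sum_eq_zero fun c hc => if_neg (α := N) fun (h : kap c = κ) => hκ ⟨by rw [← h]; exact degree_kap c, fun m hm => by
      rw [← h] at hm
      obtain ⟨l, rfl⟩ := (mem_support_kap c m).mp hm
      exact Fintype.mem_piFinset.mp hc l⟩]
    by_cases hdeg : κ.degree = d
    · have := congrArg (coefA κ) (lawP_compat F (cut T) (gen T))
      rw [coefA_rTensor_cut, if_neg fun h => hκ ⟨hdeg, h⟩, map_cut_gen, Finset.inter_self] at this
      exact this.symm
    · exact coeff_eq_zero_of_homog F T κ hdeg

/-- **`F` is `Φ` composed with the product over the blocks.** -/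
theorem lawP_eq (S : Type u) [CommRing S] [Algebra A S] (y : MvPolynomial σ S) :
    lawP F S y = Phi F S (blockProd d y) := by
  classical
  let h : MvPolynomial (σ →₀ ℕ) A →ₐ[A] S := aeval fun m => y.coeff m
  have hy : MvPolynomial.map h.toRingHom (gen y.support) = y := by
    simp only [gen, map_sum, map_monomial]
    conv_rhs => rw [as_sum y]
    exact Finset.sum_congr rfl fun m _ => by simp [h]
  rw [← hy, ← lawP_compat, lawP_gen, Phi_compat, map_blockProd]

theorem Phi_C (S : Type u) [CommRing S] [Algebra A S] (s : S) :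
    Phi F S (MvPolynomial.C s) = s ⊗ₜ[A] (1 : N) := by
  rw [show (MvPolynomial.C s : MvPolynomial (Fin d × σ) S) = s • blockProd d (1 : MvPolynomial σ S) by
    rw [blockProd_one, smul_eq_C_mul, mul_one], map_smul, ← lawP_eq, lawP_one, Algebra.TensorProduct.one_def,
    TensorProduct.smul_tmul', smul_eq_mul, mul_one]

theorem Phi_one (S : Type u) [CommRing S] [Algebra A S] : Phi F S 1 = 1 := by
  rw [← MvPolynomial.C_1, Phi_C, Algebra.TensorProduct.one_def]

/-- The two factors in independent variables. -/
noncomputable def genL (T : Finset (σ →₀ ℕ)) : MvPolynomial σ (MvPolynomial ((σ →₀ ℕ) ⊕ (σ →₀ ℕ)) A) :=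
  ∑ m ∈ T, monomial m (X (Sum.inl m))

/-- The second factor. -/
noncomputable def genR (T : Finset (σ →₀ ℕ)) : MvPolynomial σ (MvPolynomial ((σ →₀ ℕ) ⊕ (σ →₀ ℕ)) A) :=
  ∑ m ∈ T, monomial m (X (Sum.inr m))

theorem coeff_rename_mul {M : Type u} (κ ν : M →₀ ℕ) (p q : MvPolynomial M A) :
    (rename (Sum.inl : M → M ⊕ M) p * rename (Sum.inr : M → M ⊕ M) q).coeff
        (κ.mapDomain Sum.inl + ν.mapDomain Sum.inr) = p.coeff κ * q.coeff ν := by
  classical
  induction p using MvPolynomial.induction_on' with
  | monomial e a =>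
    induction q using MvPolynomial.induction_on' with
    | monomial f b =>
      rw [rename_monomial, rename_monomial, monomial_mul, coeff_monomial, coeff_monomial, coeff_monomial]
      by_cases h : e = κ ∧ f = ν
      · obtain ⟨rfl, rfl⟩ := h; simp
      · rw [if_neg]
        · split_ifs with h1 h2
          · exact absurd ⟨h1, h2⟩ h
          all_goals simp
        · intro hh
          refine h ⟨Finsupp.ext fun m => ?_, Finsupp.ext fun m => ?_⟩
          · have := congrArg (fun g : M ⊕ M →₀ ℕ => g (Sum.inl m)) hh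
            simpa [Finsupp.mapDomain_apply Sum.inl_injective, Finsupp.mapDomain_notin_range] using this
          · have := congrArg (fun g : M ⊕ M →₀ ℕ => g (Sum.inr m)) hh
            simpa [Finsupp.mapDomain_apply Sum.inr_injective, Finsupp.mapDomain_notin_range] using this
    | add q q' hq hq' => simp only [map_add, mul_add, coeff_add, hq, hq', mul_add]
  | add p p' hp hp' => simp only [map_add, add_mul, coeff_add, hp, hp', add_mul]

theorem Phi_orb (κ : (σ →₀ ℕ) →₀ ℕ) :
    TensorProduct.lid A N (Phi F A (orb A d κ)) = coefA κ (Phi F _ (blockProd d (gen κ.support))) := by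
  classical
  rw [gen, blockProd_sum, map_sum, map_sum, orb, map_sum, map_sum]
  simp only [Phi_monomial, coefA_tmul, TensorProduct.lid_tmul, one_smul]
  have hprod : ∀ c : Fin d → σ →₀ ℕ, (∏ l, (X (c l) : MvPolynomial (σ →₀ ℕ) A)) = monomial (kap c) 1 := fun c => by
    rw [kap, monomial_sum_one]; rfl
  simp only [hprod, coeff_monomial, ite_smul, one_smul, zero_smul]
  rw [Finset.sum_filter]

theorem Phi_orb_mul (κ ν : (σ →₀ ℕ) →₀ ℕ) :
    TensorProduct.lid A N (Phi F A (orb A d κ * orb A d ν)) =
      TensorProduct.lid A N (Phi F A (orb A d κ)) * TensorProduct.lid A N (Phi F A (orb A d ν)) := by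
  classical
  let M := (σ →₀ ℕ)
  let il : MvPolynomial M A →ₐ[A] MvPolynomial (M ⊕ M) A := rename Sum.inl
  let ir : MvPolynomial M A →ₐ[A] MvPolynomial (M ⊕ M) A := rename Sum.inr
  let K : M ⊕ M →₀ ℕ := κ.mapDomain Sum.inl + ν.mapDomain Sum.inr
  have hl : ∀ T, MvPolynomial.map il.toRingHom (gen T) = genL (A := A) T := fun T => by
    simp [gen, genL, il]
  have hr : ∀ T, MvPolynomial.map ir.toRingHom (gen T) = genR (A := A) T := fun T => by
    simp [gen, genR, ir]
  have hmul : ∀ z w : MvPolynomial M A ⊗[A] N,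
      coefA K (il.toLinearMap.rTensor N z * ir.toLinearMap.rTensor N w) = coefA κ z * coefA ν w := by
    intro z w
    induction z using TensorProduct.induction_on with
    | zero => simp
    | tmul p c =>
      induction w using TensorProduct.induction_on with
      | zero => simp
      | tmul q c' =>
        rw [LinearMap.rTensor_tmul, LinearMap.rTensor_tmul, Algebra.TensorProduct.tmul_mul_tmul, coefA_tmul,
          coefA_tmul, coefA_tmul, smul_mul_smul_comm]
        congr 1
        exact coeff_rename_mul κ ν p q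
      | add a b ha hb => rw [map_add, mul_add, map_add, ha, hb, map_add, mul_add]
    | add a b ha hb => rw [map_add, add_mul, map_add, ha, hb, map_add, add_mul]
  have h1 := congrArg (coefA K) (lawP_mul F _ (genL (A := A) κ.support) (genR (A := A) ν.support))
  conv_rhs at h1 => rw [← hl, ← hr, ← lawP_compat, ← lawP_compat, hmul, lawP_gen, lawP_gen, ← Phi_orb, ← Phi_orb]
  rw [← h1, lawP_eq, blockProd_mul]
  rw [genL, genR, blockProd_sum, blockProd_sum, Finset.sum_mul_sum, map_sum, map_sum]
  simp only [map_sum, monomial_mul, Phi_monomial, coefA_tmul]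
  rw [orb, orb, Finset.sum_mul_sum]
  simp only [map_sum, monomial_mul, Phi_monomial, TensorProduct.lid_tmul, mul_one, one_smul]
  rw [Finset.sum_filter]
  refine Finset.sum_congr rfl fun c _ => ?_
  have hkey : ∀ e : Fin d → σ →₀ ℕ, ((∏ l, (X (Sum.inl (c l)) : MvPolynomial (M ⊕ M) A)) * ∏ l, X (Sum.inr (e l))).coeff K
      = if kap c = κ ∧ kap e = ν then (1 : A) else 0 := by
    intro e
    have h2 : (∏ l, (X (Sum.inl (c l)) : MvPolynomial (M ⊕ M) A)) = rename Sum.inl (monomial (kap c) 1) := by
      rw [kap, monomial_sum_one, map_prod]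
      exact Finset.prod_congr rfl fun l _ => (rename_X _ _).symm
    have h3 : (∏ l, (X (Sum.inr (e l)) : MvPolynomial (M ⊕ M) A)) = rename Sum.inr (monomial (kap e) 1) := by
      rw [kap, monomial_sum_one, map_prod]
      exact Finset.prod_congr rfl fun l _ => (rename_X _ _).symm
    rw [h2, h3, coeff_rename_mul, coeff_monomial, coeff_monomial]
    split_ifs with h4 h5 h6 <;> simp_all
  simp only [hkey, ite_smul, one_smul, zero_smul]
  by_cases hc : kap c = κ
  · rw [if_pos hc, Finset.sum_filter]
    exact Finset.sum_congr rfl fun e _ => by simp [hc]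
  · rw [if_neg hc]
    exact (Finset.sum_eq_zero fun e _ => by simp [hc]).symm

theorem Phi_map_algebraMap (S : Type u) [CommRing S] [Algebra A S] (z : MvPolynomial (Fin d × σ) A) :
    Phi F S (MvPolynomial.map (algebraMap A S) z) = (1 : S) ⊗ₜ[A] TensorProduct.lid A N (Phi F A z) := by
  rw [show MvPolynomial.map (algebraMap A S) z = MvPolynomial.map (Algebra.ofId A S).toRingHom z from rfl, ← Phi_compat]
  obtain ⟨c, hc⟩ := (TensorProduct.lid A N).symm.surjective (Phi F A z)
  rw [← hc]
  simp [TensorProduct.lid_symm_apply]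

/-- **`Φ` is multiplicative on symmetric polynomials.** -/
theorem Phi_mul {S : Type u} [CommRing S] [Algebra A S] {z w : MvPolynomial (Fin d × σ) S} (hz : IsSym z)
    (hw : IsSym w) : Phi F S (z * w) = Phi F S z * Phi F S w := by
  classical
  have horb : ∀ κ : (σ →₀ ℕ) →₀ ℕ, orb S d κ = MvPolynomial.map (algebraMap A S) (orb A d κ) := fun κ => (map_orb _ κ).symm
  rw [hz.eq_sum, hw.eq_sum, Finset.sum_mul_sum, map_sum, map_sum, map_sum, Finset.sum_mul_sum]
  refine Finset.sum_congr rfl fun κ _ => ?_
  rw [map_sum]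
  refine Finset.sum_congr rfl fun ν _ => ?_
  rw [horb, horb, mul_mul_mul_comm, ← map_mul, ← map_mul, ← smul_eq_C_mul, ← smul_eq_C_mul, ← smul_eq_C_mul,
    map_smul, map_smul, map_smul, Phi_map_algebraMap, Phi_map_algebraMap, Phi_map_algebraMap, Phi_orb_mul,
    smul_mul_smul_comm, Algebra.TensorProduct.tmul_mul_tmul, mul_one]

end law

end Groth.Agent.PolLawLib
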