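import Mathlib
import Groth.Agent.PolLawLib.Multisym

/-!
# Cayley–Hamilton and kernels for multiplicative laws
-/

set_option autoImplicit false

universe u

open scoped TensorProduct
open MvPolynomial

namespace Groth.Agent.PolLawLib

section Sym

variable {σ : Type u} {d : ℕ}

/-- The subalgebra of symmetric polynomials. -/
noncomputable def symAlg (S : Type u) [CommRing S] (σ : Type u) (d : ℕ) : Subalgebra S (MvPolynomial (Fin d × σ) S) where
  carrier := {z | IsSym z}
  mul_mem' hz hw := hz.mul hw
  one_mem' := isSym_one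
  add_mem' hz hw := hz.add hw
  zero_mem' := fun π => map_zero _
  algebraMap_mem' s := fun π => (rename (fun p : Fin d × σ => (π p.1, p.2))).commutes s

theorem rename_block {S : Type u} [CommSemiring S] (π : Equiv.Perm (Fin d)) (y : MvPolynomial σ S) (l : Fin d) :
    rename (fun p : Fin d × σ => (π p.1, p.2)) (rename (Prod.mk l) y) = rename (Prod.mk (π l)) y := by
  rw [rename_rename]; rfl

/-- `∏_l (p(x_l) - T)`. -/
noncomputable def cpoly {S : Type u} [CommRing S] (d : ℕ) (p : MvPolynomial σ S) :
    Polynomial (MvPolynomial (Fin d × σ) S) :=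
  ∏ l, (Polynomial.C (rename (Prod.mk l) p) - Polynomial.X)

theorem isSym_coeff_cpoly {S : Type u} [CommRing S] (p : MvPolynomial σ S) (k : ℕ) :
    IsSym ((cpoly d p).coeff k) := by
  intro π
  have h : (cpoly d p).map (rename fun q : Fin d × σ => (π q.1, q.2)).toRingHom = cpoly d p := by
    rw [cpoly, Polynomial.map_prod]
    exact Fintype.prod_equiv π _ _ fun l => by
      rw [Polynomial.map_sub, Polynomial.map_C, Polynomial.map_X]
      exact congrArg (fun z => Polynomial.C z - Polynomial.X) (rename_block π p l)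
  conv_rhs => rw [← h, Polynomial.coeff_map]
  rfl

theorem cpoly_eval_self {S : Type u} [CommRing S] (p : MvPolynomial σ S) (l : Fin d) :
    (cpoly d p).eval (rename (Prod.mk l) p) = 0 := by
  rw [cpoly, Polynomial.eval_prod]
  exact Finset.prod_eq_zero (Finset.mem_univ l) (by simp)

theorem natDegree_cpoly_le {S : Type u} [CommRing S] (p : MvPolynomial σ S) : (cpoly d p).natDegree ≤ d := by
  refine (Polynomial.natDegree_prod_le _ _).trans ?_
  refine (Finset.sum_le_sum (g := fun _ => 1) fun l _ => ?_).trans (by simp)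
  exact (Polynomial.natDegree_sub_le _ _).trans (max_le (by simp) Polynomial.natDegree_X_le)

theorem coeff_cpoly_top {S : Type u} [CommRing S] (p : MvPolynomial σ S) : (cpoly d p).coeff d = (-1) ^ d := by
  have := Polynomial.coeff_prod_of_natDegree_le (Finset.univ : Finset (Fin d))
    (fun l => Polynomial.C (rename (Prod.mk l) p) - Polynomial.X) 1
    (fun l _ => (Polynomial.natDegree_sub_le _ _).trans (max_le (by simp) Polynomial.natDegree_X_le))
  simpa [cpoly, Polynomial.coeff_C] using this

theorem map_cpoly {S S' : Type u} [CommRing S] [CommRing S'] (f : S →+* S') (p : MvPolynomial σ S) :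
    (cpoly d p).map (MvPolynomial.map f) = cpoly d (MvPolynomial.map f p) := by
  simp [cpoly, Polynomial.map_prod, map_rename]

end Sym

variable {A : Type u} [CommRing A] {B : Type u} [CommRing B] [Algebra A B] {d : ℕ}

/-- Polynomials in the elements of `B` onto `S ⊗ B`. -/
noncomputable def prB (B : Type u) [CommRing B] [Algebra A B] (S : Type u) [CommRing S] [Algebra A S] :
    MvPolynomial B S →ₐ[S] S ⊗[A] B :=
  aeval fun b => (1 : S) ⊗ₜ[A] b

theorem prB_monomial (S : Type u) [CommRing S] [Algebra A S] (m : B →₀ ℕ) (s : S) :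
    prB (A := A) B S (monomial m s) = s ⊗ₜ[A] m.prod (fun b k => b ^ k) := by
  rw [prB, aeval_monomial]
  have : (m.prod fun b k => ((1 : S) ⊗ₜ[A] b) ^ k) = (1 : S) ⊗ₜ[A] m.prod (fun b k => b ^ k) := by
    simp only [Algebra.TensorProduct.tmul_pow, one_pow]
    rw [show (1 : S) ⊗ₜ[A] m.prod (fun b k => b ^ k) = Algebra.TensorProduct.includeRight (m.prod fun b k => b ^ k) from rfl,
      map_finsuppProd]
    rfl
  rw [this, Algebra.TensorProduct.algebraMap_apply, Algebra.TensorProduct.tmul_mul_tmul, one_mul, mul_one]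
  rfl

theorem prB_surjective (S : Type u) [CommRing S] [Algebra A S] : Function.Surjective (prB (A := A) B S) := by
  intro z
  induction z using TensorProduct.induction_on with
  | zero => exact ⟨0, map_zero _⟩
  | tmul s b => exact ⟨monomial (Finsupp.single b 1) s, by rw [prB_monomial]; simp⟩
  | add x y hx hy => obtain ⟨p, rfl⟩ := hx; obtain ⟨q, rfl⟩ := hy; exact ⟨p + q, map_add _ _ _⟩

theorem prB_map {S S' : Type u} [CommRing S] [Algebra A S] [CommRing S'] [Algebra A S'] (h : S →ₐ[A] S')
    (p : MvPolynomial B S) :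
    prB (A := A) B S' (MvPolynomial.map h.toRingHom p) =
      Algebra.TensorProduct.map h (AlgHom.id A B) (prB (A := A) B S p) := by
  induction p using MvPolynomial.induction_on' with
  | monomial m s => rw [map_monomial, prB_monomial, prB_monomial, Algebra.TensorProduct.map_tmul]; rfl
  | add p q hp hq => rw [map_add, map_add, hp, hq, map_add, map_add]

variable {N : Type u} [CommRing N] [Algebra A N] (F : PolLaw.MulLaw A B N d)

/-- The law read on polynomials in the elements of `B`. -/
noncomputable def polyLaw : PolLaw.MulLaw A (MvPolynomial B A) N d :=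
  F.precomp (aeval (id : B → B))

theorem toFun_prB (S : Type u) [CommRing S] [Algebra A S] (y : MvPolynomial B S) :
    F.law.toFun' S (prB (A := A) B S y) = Phi (polyLaw F) S (blockProd d y) := by
  rw [← lawP_eq]
  show _ = F.law.toFun' S ((aeval (id : B → B) : MvPolynomial B A →ₐ[A] B).toLinearMap.lTensor S
    ((algebraTensorAlgEquiv A S).symm y))
  congr 1
  induction y using MvPolynomial.induction_on' with
  | monomial m s =>
    rw [prB_monomial, algebraTensorAlgEquiv_symm_monomial, LinearMap.lTensor_tmul]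
    simp [aeval_monomial]
  | add p q hp hq => rw [map_add, map_add, map_add, hp, hq]

/-- `Φ` as an algebra map on symmetric polynomials. -/
noncomputable def phiHom (S : Type u) [CommRing S] [Algebra A S] :
    symAlg S B d →ₐ[S] S ⊗[A] N where
  toFun z := Phi (polyLaw F) S z.1
  map_one' := Phi_one _ _
  map_mul' z w := Phi_mul _ z.2 w.2
  map_zero' := map_zero _
  map_add' z w := map_add _ _ _
  commutes' s := (Phi_C _ _ s).trans (by rw [Algebra.TensorProduct.algebraMap_apply]; rfl)

section scalar

variable (G : PolLaw.MulLaw A B A d)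

/-- The value of `Φ` in the coefficient ring, for laws with values in `A`. -/
noncomputable def psi (S : Type u) [CommRing S] [Algebra A S] : symAlg S B d →ₐ[S] S :=
  (Algebra.TensorProduct.rid A S S).toAlgHom.comp (phiHom G S)

theorem phiHom_eq (S : Type u) [CommRing S] [Algebra A S] (z : symAlg S B d) :
    phiHom G S z = psi G S z ⊗ₜ[A] (1 : A) := by
  rw [psi, AlgHom.comp_apply]
  obtain ⟨s, hs⟩ := (Algebra.TensorProduct.rid A S S).symm.surjective (phiHom G S z)
  rw [← hs]
  simp

theorem psi_map {S S' : Type u} [CommRing S] [Algebra A S] [CommRing S'] [Algebra A S'] (h : S →ₐ[A] S')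
    (z : symAlg S B d) (hz : IsSym (MvPolynomial.map h.toRingHom z.1)) :
    h (psi G S z) = psi G S' ⟨_, hz⟩ := by
  have h1 := Phi_compat (polyLaw G) h z.1
  rw [show Phi (polyLaw G) S z.1 = phiHom G S z from rfl, phiHom_eq,
    show Phi (polyLaw G) S' _ = phiHom G S' ⟨_, hz⟩ from rfl, phiHom_eq, LinearMap.rTensor_tmul] at h1
  have := congrArg (Algebra.TensorProduct.rid A S' S') h1
  simpa using this

/-- The characteristic polynomial of the class of `p`. -/
noncomputable def chi {S : Type u} [CommRing S] [Algebra A S] (p : MvPolynomial B S) : Polynomial S :=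
  ∑ k ∈ Finset.range (d + 1), Polynomial.monomial k (psi G S ⟨(cpoly d p).coeff k, isSym_coeff_cpoly p k⟩)

theorem coeff_chi {S : Type u} [CommRing S] [Algebra A S] (p : MvPolynomial B S) (k : ℕ) :
    (chi G p).coeff k = psi G S ⟨(cpoly d p).coeff k, isSym_coeff_cpoly p k⟩ := by
  rw [chi, Polynomial.finsetSum_coeff]
  simp only [Polynomial.coeff_monomial]
  rw [Finset.sum_ite_eq']
  split_ifs with h
  · rfl
  · have h0 : (cpoly d p).coeff k = 0 := Polynomial.coeff_eq_zero_of_natDegree_lt
      (lt_of_le_of_lt (natDegree_cpoly_le p) (by simp at h; omega))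
    rw [show (⟨(cpoly d p).coeff k, isSym_coeff_cpoly p k⟩ : symAlg S B d) = 0 from Subtype.ext h0, map_zero]

theorem map_chi {S S' : Type u} [CommRing S] [Algebra A S] [CommRing S'] [Algebra A S'] (h : S →ₐ[A] S')
    (p : MvPolynomial B S) : (chi G p).map h.toRingHom = chi G (MvPolynomial.map h.toRingHom p) := by
  ext k
  rw [Polynomial.coeff_map, coeff_chi, coeff_chi]
  have hmap : MvPolynomial.map h.toRingHom ((cpoly d p).coeff k) = (cpoly d (MvPolynomial.map h.toRingHom p)).coeff k := by
    rw [← map_cpoly, Polynomial.coeff_map]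
  show h (psi G S _) = _
  rw [psi_map G h _ (hmap.symm ▸ isSym_coeff_cpoly _ k)]
  exact congrArg _ (Subtype.ext hmap)

theorem natDegree_chi_le {S : Type u} [CommRing S] [Algebra A S] (p : MvPolynomial B S) :
    (chi G p).natDegree ≤ d := by
  refine Polynomial.natDegree_sum_le_of_forall_le _ _ fun k hk => (Polynomial.natDegree_monomial_le _).trans ?_
  simp at hk; omega

theorem coeff_chi_top {S : Type u} [CommRing S] [Algebra A S] (p : MvPolynomial B S) :
    (chi G p).coeff d = (-1) ^ d := by
  rw [coeff_chi, show (⟨(cpoly d p).coeff d, isSym_coeff_cpoly p d⟩ : symAlg S B d) = (-1) ^ d from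
    Subtype.ext (by show (cpoly d p).coeff d = _; rw [coeff_cpoly_top]; simp), map_pow, map_neg, map_one]

theorem monic_chi {S : Type u} [CommRing S] [Algebra A S] (p : MvPolynomial B S) :
    ((-1 : S) ^ d • chi G p).Monic := by
  refine Polynomial.monic_of_natDegree_le_of_coeff_eq_one d
    ((Polynomial.natDegree_smul_le _ _).trans (natDegree_chi_le G p)) ?_
  rw [Polynomial.coeff_smul, coeff_chi_top, smul_eq_mul, ← mul_pow]
  simp

/-- `χ` computes the law at `z - T`. -/
theorem toFun_sub_X {S : Type u} [CommRing S] [Algebra A S] (p : MvPolynomial B S) :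
    G.law.toFun' (Polynomial S)
      (prB (A := A) B (Polynomial S) (MvPolynomial.map Polynomial.C p - MvPolynomial.C Polynomial.X)) =
      chi G p ⊗ₜ[A] (1 : A) := by
  classical
  rw [toFun_prB]
  let e : Polynomial (MvPolynomial (Fin d × B) S) →+* MvPolynomial (Fin d × B) (Polynomial S) :=
    Polynomial.eval₂RingHom (MvPolynomial.map Polynomial.C) (MvPolynomial.C Polynomial.X)
  have h1 : blockProd d (MvPolynomial.map Polynomial.C p - MvPolynomial.C Polynomial.X) = e (cpoly d p) := by
    rw [blockProd, cpoly, map_prod]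
    exact Finset.prod_congr rfl fun l _ => by simp [e, map_rename]
  have h2 : e (cpoly d p) = ∑ k ∈ Finset.range (d + 1),
      (Polynomial.X : Polynomial S) ^ k • MvPolynomial.map Polynomial.C ((cpoly d p).coeff k) := by
    conv_lhs => rw [(cpoly d p).as_sum_range' (d + 1) (Nat.lt_succ_iff.mpr (natDegree_cpoly_le p))]
    rw [map_sum]
    exact Finset.sum_congr rfl fun k _ => by simp [e, smul_eq_C_mul, mul_comm]
  rw [h1, h2, map_sum, chi, TensorProduct.sum_tmul]
  refine Finset.sum_congr rfl fun k _ => ?_
  let j : S →ₐ[A] Polynomial S := IsScalarTower.toAlgHom A S (Polynomial S)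
  rw [map_smul, show MvPolynomial.map Polynomial.C ((cpoly d p).coeff k) = MvPolynomial.map j.toRingHom ((cpoly d p).coeff k) from rfl,
    ← Phi_compat, show Phi (polyLaw G) S ((cpoly d p).coeff k) = phiHom G S ⟨_, isSym_coeff_cpoly p k⟩ from rfl,
    phiHom_eq, LinearMap.rTensor_tmul, TensorProduct.smul_tmul', ← Polynomial.C_mul_X_pow_eq_monomial, smul_eq_mul,
    mul_comm]
  rfl

/-- **Cayley–Hamilton**, one test algebra at a time. -/
theorem cayley_hamilton {S : Type u} [CommRing S] [Algebra A S] (p y v : MvPolynomial B S) :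
    Phi (polyLaw G) S (blockProd d (y + v * Polynomial.aeval p (chi G p))) =
      Phi (polyLaw G) S (blockProd d y) := by
  classical
  let Q := MvPolynomial (Fin d × B) S
  let H0 : MvPolynomial (Fin (d + 1)) Q := ∏ l, (MvPolynomial.C (rename (Prod.mk l) y) +
    MvPolynomial.C (rename (Prod.mk l) v) * ∑ k : Fin (d + 1), X k * MvPolynomial.C (rename (Prod.mk l) p ^ (k : ℕ)))
  have hsym : ∀ e, H0.coeff e ∈ Set.range (symAlg S B d).val := by
    intro e
    refine ⟨⟨H0.coeff e, fun π => ?_⟩, rfl⟩
    have h : MvPolynomial.map (rename fun q : Fin d × B => (π q.1, q.2)).toRingHom H0 = H0 := by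
      simp only [H0, map_prod, map_add, map_mul, map_sum, map_C, map_X, map_pow, AlgHom.toRingHom_eq_coe,
        RingHom.coe_coe, rename_block]
      exact Fintype.prod_equiv π _ _ fun l => rfl
    conv_rhs => rw [← h, coeff_map]
    rfl
  obtain ⟨H, hH⟩ := MvPolynomial.mem_range_map_iff_coeffs_subset.mpr
    (show (H0.coeffs : Set Q) ⊆ Set.range (symAlg S B d).val.toRingHom from fun c hc => by
      obtain ⟨e, -, rfl⟩ := mem_coeffs_iff.mp hc
      exact hsym e)
  have heval : ∀ T : Fin (d + 1) → symAlg S B d, (eval T H).1 = ∏ l, (rename (Prod.mk l) y +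
      rename (Prod.mk l) v * ∑ k, (T k).1 * rename (Prod.mk l) p ^ (k : ℕ)) := by
    intro T
    have h1 : ((symAlg S B d).val.toRingHom) (eval T H) = eval (fun k => (T k).1) (MvPolynomial.map (symAlg S B d).val.toRingHom H) := by
      rw [eval_map]
      exact (eval₂_comp_left (symAlg S B d).val.toRingHom (RingHom.id _) T H)
    rw [show (eval T H).1 = (symAlg S B d).val.toRingHom (eval T H) from rfl, h1, hH]
    simp [H0]
  let a : Fin (d + 1) → symAlg S B d := fun k => algebraMap S _ ((chi G p).coeff k)
  let c : Fin (d + 1) → symAlg S B d := fun k => ⟨(cpoly d p).coeff k, isSym_coeff_cpoly p k⟩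
  have hac : phiHom G S (eval a H) = phiHom G S (eval c H) := by
    rw [show phiHom G S (eval a H) = (phiHom G S).toRingHom (eval a H) from rfl,
      show phiHom G S (eval c H) = (phiHom G S).toRingHom (eval c H) from rfl]
    show (phiHom G S).toRingHom (eval₂ (RingHom.id _) a H) = (phiHom G S).toRingHom (eval₂ (RingHom.id _) c H)
    rw [eval₂_comp_left (phiHom G S).toRingHom, eval₂_comp_left (phiHom G S).toRingHom]
    congr 1
    funext k
    show phiHom G S (a k) = phiHom G S (c k)
    rw [AlgHom.commutes, phiHom_eq, ← coeff_chi]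
    rfl
  have ha : (eval a H).1 = blockProd d (y + v * Polynomial.aeval p (chi G p)) := by
    rw [heval, blockProd]
    refine Finset.prod_congr rfl fun l _ => ?_
    rw [map_add, map_mul, Polynomial.aeval_eq_sum_range' (Nat.lt_succ_iff.mpr (natDegree_chi_le G p)), map_sum,
      Finset.sum_range (fun k => rename (Prod.mk l) ((chi G p).coeff k • p ^ k))]
    congr 2
    refine Finset.sum_congr rfl fun k _ => ?_
    rw [map_smul, map_pow, Algebra.smul_def]
    rfl
  have hc : (eval c H).1 = blockProd d y := by
    rw [heval, blockProd]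
    refine Finset.prod_congr rfl fun l _ => ?_
    have := cpoly_eval_self p l
    rw [Polynomial.eval_eq_sum_range' (Nat.lt_succ_iff.mpr (natDegree_cpoly_le p)),
      Finset.sum_range (fun k => (cpoly d p).coeff k * rename (Prod.mk l) p ^ k)] at this
    show _ + _ * ∑ k : Fin (d + 1), (cpoly d p).coeff (k : ℕ) * rename (Prod.mk l) p ^ (k : ℕ) = _
    rw [this, mul_zero, add_zero]
  rw [← ha, ← hc]
  exact hac

theorem aeval_chi_mem_kerBC {A' : Type u} [CommRing A'] [Algebra A A'] (p : MvPolynomial B A') :
    Polynomial.aeval (prB (A := A) B A' p) (chi G p) ∈ PolLaw.kerBC G.law A' := by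
  intro R _ _ _ _ x w
  letI : CommRing R := { (inferInstance : CommSemiring R), Algebra.semiringToRing A (A := R) with }
  obtain ⟨y, rfl⟩ := prB_surjective (A := A) (B := B) R x
  obtain ⟨v, rfl⟩ := prB_surjective (A := A) (B := B) R w
  let h := IsScalarTower.toAlgHom A A' R
  have : Algebra.TensorProduct.map h (AlgHom.id A B) (Polynomial.aeval (prB (A := A) B A' p) (chi G p)) =
      prB (A := A) B R (Polynomial.aeval (MvPolynomial.map h.toRingHom p) (chi G (MvPolynomial.map h.toRingHom p))) := by
    rw [← Polynomial.aeval_algHom_apply (prB (A := A) B R), prB_map, ← map_chi]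
    rw [Polynomial.aeval_def, Polynomial.aeval_def,
      show Algebra.TensorProduct.map h (AlgHom.id A B) _ = (Algebra.TensorProduct.map h (AlgHom.id A B)).toRingHom _ from rfl,
      Polynomial.hom_eval₂, Polynomial.eval₂_map]
    congr 1
  rw [this, ← map_mul, ← map_add, toFun_prB, toFun_prB, cayley_hamilton]

theorem aeval_chi_mem_ker (b : B) : Polynomial.aeval b (chi G (S := A) (X b)) ∈ PolLaw.ker G.law := by
  intro S _ _ x w
  have h := aeval_chi_mem_kerBC G (A' := A) (X b)
  rw [show prB (A := A) B A (X b) = (Algebra.TensorProduct.includeRight : B →ₐ[A] A ⊗[A] B) b from aeval_X _ b,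
    Polynomial.aeval_algHom_apply] at h
  have := h S x w
  rwa [show Algebra.TensorProduct.map (IsScalarTower.toAlgHom A A S) (AlgHom.id A B)
      ((Algebra.TensorProduct.includeRight : B →ₐ[A] A ⊗[A] B) (Polynomial.aeval b (chi G (S := A) (X b)))) =
      (1 : S) ⊗ₜ[A] Polynomial.aeval b (chi G (S := A) (X b)) by simp] at this

theorem chi_eq_rid (b : B) :
    chi G (S := A) (X b) = TensorProduct.rid A (Polynomial A)
      (G.law.toFun' (Polynomial A) ((1 : Polynomial A) ⊗ₜ[A] b - Polynomial.X ⊗ₜ[A] (1 : B))) := by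
  have h := toFun_sub_X G (S := A) (X b)
  rw [map_X, map_sub, prB, aeval_X, algHom_C, Algebra.TensorProduct.algebraMap_apply] at h
  rw [show (1 : Polynomial A) ⊗ₜ[A] b - Polynomial.X ⊗ₜ[A] (1 : B) =
    (1 : Polynomial A) ⊗ₜ[A] b - (algebraMap (Polynomial A) (Polynomial A)) Polynomial.X ⊗ₜ[A] (1 : B) from rfl, h,
    TensorProduct.rid_tmul, one_smul]

theorem isIntegral_image : Algebra.IsIntegral A (PolLaw.image G.law) := by
  refine ⟨fun z => ?_⟩
  obtain ⟨b, rfl⟩ := Ideal.Quotient.mk_surjective z
  refine ⟨(-1 : A) ^ d • chi G (S := A) (X b), monic_chi G _, ?_⟩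
  rw [← Polynomial.aeval_def, map_smul, show (Ideal.Quotient.mk (PolLaw.ker G.law)) b =
      Ideal.Quotient.mkₐ A (PolLaw.ker G.law) b from rfl, Polynomial.aeval_algHom_apply,
    show Ideal.Quotient.mkₐ A (PolLaw.ker G.law) (Polynomial.aeval b (chi G (S := A) (X b))) = 0 from
      Ideal.Quotient.eq_zero_iff_mem.mpr (aeval_chi_mem_ker G b), smul_zero]

theorem chi_eq_of_mem_ker {b : B} (hb : b ∈ PolLaw.ker G.law) :
    chi G (S := A) (X b) = (-Polynomial.X) ^ d := by
  rw [chi_eq_rid]
  have h1 := hb (Polynomial A) (-(Polynomial.X ⊗ₜ[A] (1 : B))) 1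
  rw [one_mul, neg_add_eq_sub] at h1
  rw [h1, show -(Polynomial.X ⊗ₜ[A] (1 : B)) = (-Polynomial.X : Polynomial A) • (1 : Polynomial A ⊗[A] B) by
    rw [Algebra.TensorProduct.one_def, TensorProduct.smul_tmul', smul_eq_mul, mul_one, TensorProduct.neg_tmul],
    G.homog _ _ _, (G.mult _).1, Algebra.TensorProduct.one_def, TensorProduct.smul_tmul', smul_eq_mul, mul_one,
    TensorProduct.rid_tmul, one_smul]

end scalar

end Groth.Agent.PolLawLib
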