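import Mathlib
import Groth.Agent.PolLawLib.Kernel

/-!
# Consequences of the universal property of `Γ^d`
-/

set_option autoImplicit false

universe u

open scoped TensorProduct
open MvPolynomial

namespace Groth.Agent.PolLawLib

section generalities

variable {A : Type u} [CommRing A] {S S' : Type u} [CommSemiring S] [Algebra A S] [CommSemiring S'] [Algebra A S']
  (B : Type u) [CommRing B] [Algebra A B]

theorem rTensor_eq_map (h : S →ₐ[A] S') (z : S ⊗[A] B) :
    h.toLinearMap.rTensor B z = Algebra.TensorProduct.map h (AlgHom.id A B) z := by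
  induction z using TensorProduct.induction_on with
  | zero => simp
  | tmul a b => rfl
  | add a b ha hb => simp only [map_add, ha, hb]

end generalities

section corestriction

variable {A : Type u} [CommRing A] {B : Type u} [CommRing B] [Algebra A B] {C : Type u} [CommRing C] [Algebra A C]
  {d : ℕ} (F : PolLaw.MulLaw A B C d) (C₀ : Subalgebra A C)
  (hC₀ : ∀ (σ : Type u) (r : MvPolynomial σ A ⊗[A] B),
    F.law.toFun' (MvPolynomial σ A) r ∈ LinearMap.range (C₀.val.toLinearMap.lTensor (MvPolynomial σ A)))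

theorem lTensor_val_injective (σ : Type u) :
    Function.Injective (C₀.val.toLinearMap.lTensor (MvPolynomial σ A)) :=
  Module.Flat.lTensor_preserves_injective_linearMap _ Subtype.val_injective

/-- The value over a polynomial ring, seen in the subalgebra. -/
noncomputable def pre (σ : Type u) (r : MvPolynomial σ A ⊗[A] B) : MvPolynomial σ A ⊗[A] C₀ :=
  (hC₀ σ r).choose

theorem pre_spec (σ : Type u) (r : MvPolynomial σ A ⊗[A] B) :
    C₀.val.toLinearMap.lTensor (MvPolynomial σ A) (pre F C₀ hC₀ σ r) = F.law.toFun' (MvPolynomial σ A) r :=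
  (hC₀ σ r).choose_spec

theorem pre_natural {σ τ : Type u} (h : MvPolynomial σ A →ₐ[A] MvPolynomial τ A) (r : MvPolynomial σ A ⊗[A] B) :
    h.toLinearMap.rTensor C₀ (pre F C₀ hC₀ σ r) = pre F C₀ hC₀ τ (h.toLinearMap.rTensor B r) := by
  apply lTensor_val_injective C₀ τ
  rw [pre_spec, ← PolynomialLaw.isCompat_apply' (f := F.law) h, ← pre_spec F C₀ hC₀ σ r, ← LinearMap.comp_apply,
    ← LinearMap.comp_apply (f := h.toLinearMap.rTensor C), LinearMap.lTensor_comp_rTensor,
    LinearMap.rTensor_comp_lTensor]

theorem pre_mul (σ : Type u) (x y : MvPolynomial σ A ⊗[A] B) :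
    pre F C₀ hC₀ σ (x * y) = pre F C₀ hC₀ σ x * pre F C₀ hC₀ σ y := by
  apply lTensor_val_injective C₀ σ
  rw [pre_spec, (F.mult _).2, ← pre_spec F C₀ hC₀ σ x, ← pre_spec F C₀ hC₀ σ y, PolLaw.lTensor_algHom_apply,
    PolLaw.lTensor_algHom_apply, PolLaw.lTensor_algHom_apply, map_mul]

theorem pre_one (σ : Type u) : pre F C₀ hC₀ σ 1 = 1 := by
  apply lTensor_val_injective C₀ σ
  rw [pre_spec, (F.mult _).1, PolLaw.lTensor_algHom_apply, map_one]

theorem pre_smul (σ : Type u) (s : MvPolynomial σ A) (x : MvPolynomial σ A ⊗[A] B) :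
    pre F C₀ hC₀ σ (s • x) = s ^ d • pre F C₀ hC₀ σ x := by
  apply lTensor_val_injective C₀ σ
  rw [pre_spec, F.homog, ← pre_spec F C₀ hC₀ σ x, PolLaw.lTensor_algHom_apply, PolLaw.lTensor_algHom_apply, map_smul]

variable {S : Type u} [CommRing S] [Algebra A S]

theorem pre_ker {σ : Type u} (g : MvPolynomial σ A →ₐ[A] S) (r : MvPolynomial σ A ⊗[A] B)
    (z : LinearMap.ker g.toLinearMap ⊗[A] B) :
    g.toLinearMap.rTensor C₀ (pre F C₀ hC₀ σ (r + (LinearMap.ker g.toLinearMap).subtype.rTensor B z)) =
      g.toLinearMap.rTensor C₀ (pre F C₀ hC₀ σ r) := by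
  induction z using TensorProduct.induction_on generalizing r with
  | zero => simp
  | add a b ha hb => rw [map_add, ← add_assoc, hb, ha]
  | tmul k b =>
    let τ := σ ⊕ PUnit.{u+1}
    let j : MvPolynomial σ A →ₐ[A] MvPolynomial τ A := rename Sum.inl
    let e1 : MvPolynomial τ A →ₐ[A] MvPolynomial σ A := aeval (Sum.elim X fun _ => k.1)
    let e0 : MvPolynomial τ A →ₐ[A] MvPolynomial σ A := aeval (Sum.elim X fun _ => 0)
    let r' : MvPolynomial τ A ⊗[A] B := j.toLinearMap.rTensor B r + (X (Sum.inr PUnit.unit)) ⊗ₜ[A] b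
    have hje1 : e1.comp j = AlgHom.id A _ := by ext; simp [e1, j, τ]
    have hje0 : e0.comp j = AlgHom.id A _ := by ext; simp [e0, j, τ]
    have h1 : e1.toLinearMap.rTensor B r' = r + k.1 ⊗ₜ[A] b := by
      rw [map_add, ← LinearMap.rTensor_comp_apply, ← AlgHom.comp_toLinearMap, hje1, LinearMap.rTensor_tmul]
      simp [e1, τ]
    have h0 : e0.toLinearMap.rTensor B r' = r := by
      rw [map_add, ← LinearMap.rTensor_comp_apply, ← AlgHom.comp_toLinearMap, hje0, LinearMap.rTensor_tmul]
      simp [e0, τ]
    have hg : g.comp e1 = g.comp e0 := by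
      refine MvPolynomial.algHom_ext fun i => ?_
      rcases i with s | s
      · simp [e1, e0]
      · simp [e1, e0]; exact LinearMap.mem_ker.mp k.2
    rw [LinearMap.rTensor_tmul, Submodule.subtype_apply, ← h1, ← pre_natural,
      ← LinearMap.rTensor_comp_apply, ← AlgHom.comp_toLinearMap, hg, AlgHom.comp_toLinearMap,
      LinearMap.rTensor_comp_apply, pre_natural, h0]

theorem pre_eq_of_eq {σ : Type u} (g : MvPolynomial σ A →ₐ[A] S) (hg : Function.Surjective g)
    (r r' : MvPolynomial σ A ⊗[A] B) (h : g.toLinearMap.rTensor B r = g.toLinearMap.rTensor B r') :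
    g.toLinearMap.rTensor C₀ (pre F C₀ hC₀ σ r) = g.toLinearMap.rTensor C₀ (pre F C₀ hC₀ σ r') := by
  have hex : Function.Exact (LinearMap.ker g.toLinearMap).subtype g.toLinearMap := fun x =>
    ⟨fun hx => ⟨⟨x, hx⟩, rfl⟩, fun ⟨y, hy⟩ => by rw [← hy]; exact y.2⟩
  obtain ⟨z, hz⟩ := ((rTensor_exact B hex hg) (r' - r)).mp (by rw [map_sub, h, sub_self])
  rw [← pre_ker F C₀ hC₀ g r z, hz, add_sub_cancel]

/-- The canonical presentation of a test algebra. -/
noncomputable def presS (S : Type u) [CommRing S] [Algebra A S] : MvPolynomial S A →ₐ[A] S :=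
  aeval id

theorem presS_surjective (S : Type u) [CommRing S] [Algebra A S] : Function.Surjective (presS (A := A) S) :=
  fun s => ⟨X s, aeval_X _ _⟩

theorem presS_rTensor_surjective (S : Type u) [CommRing S] [Algebra A S] :
    Function.Surjective ((presS (A := A) S).toLinearMap.rTensor B) :=
  LinearMap.rTensor_surjective _ (presS_surjective S)

/-- The value in the subalgebra. -/
noncomputable def coVal (S : Type u) [CommRing S] [Algebra A S] (x : S ⊗[A] B) : S ⊗[A] C₀ :=
  (presS (A := A) S).toLinearMap.rTensor C₀ (pre F C₀ hC₀ S (presS_rTensor_surjective (B := B) S x).choose)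

theorem coVal_eq (r : MvPolynomial S A ⊗[A] B) :
    coVal F C₀ hC₀ S ((presS (A := A) S).toLinearMap.rTensor B r) =
      (presS (A := A) S).toLinearMap.rTensor C₀ (pre F C₀ hC₀ S r) :=
  pre_eq_of_eq F C₀ hC₀ (presS S) (presS_surjective S) _ _ (presS_rTensor_surjective (B := B) S _).choose_spec

theorem lTensor_coVal (x : S ⊗[A] B) : C₀.val.toLinearMap.lTensor S (coVal F C₀ hC₀ S x) = F.law.toFun' S x := by
  obtain ⟨r, rfl⟩ := presS_rTensor_surjective (B := B) S x
  rw [coVal_eq, ← LinearMap.comp_apply, LinearMap.lTensor_comp_rTensor, ← LinearMap.rTensor_comp_lTensor,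
    LinearMap.comp_apply, pre_spec, PolynomialLaw.isCompat_apply' (f := F.law)]

theorem coVal_compat {S' : Type u} [CommRing S'] [Algebra A S'] (φ : S →ₐ[A] S') (x : S ⊗[A] B) :
    φ.toLinearMap.rTensor C₀ (coVal F C₀ hC₀ S x) = coVal F C₀ hC₀ S' (φ.toLinearMap.rTensor B x) := by
  obtain ⟨r, rfl⟩ := presS_rTensor_surjective (B := B) S x
  let ρ : MvPolynomial S A →ₐ[A] MvPolynomial S' A := rename φ
  have hρ : φ.comp (presS S) = (presS S').comp ρ := MvPolynomial.algHom_ext fun s => by simp [presS, ρ]
  rw [coVal_eq, ← LinearMap.rTensor_comp_apply, ← AlgHom.comp_toLinearMap, hρ, AlgHom.comp_toLinearMap,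
    LinearMap.rTensor_comp_apply, pre_natural,
    show φ.toLinearMap.rTensor B ((presS (A := A) S).toLinearMap.rTensor B r) =
      (presS (A := A) S').toLinearMap.rTensor B (ρ.toLinearMap.rTensor B r) by
      rw [← LinearMap.rTensor_comp_apply, ← AlgHom.comp_toLinearMap, hρ, AlgHom.comp_toLinearMap,
        LinearMap.rTensor_comp_apply], coVal_eq]

/-- The law with values in the subalgebra. -/
noncomputable def coLaw : PolLaw.MulLaw A B C₀ d where
  law :=
    { toFun' := fun S _ _ x =>
        letI : CommRing S := { (inferInstance : CommSemiring S), Algebra.semiringToRing A (A := S) with }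
        coVal F C₀ hC₀ S x
      isCompat' := fun {S} _ _ {S'} _ _ φ => by
        letI : CommRing S := { (inferInstance : CommSemiring S), Algebra.semiringToRing A (A := S) with }
        letI : CommRing S' := { (inferInstance : CommSemiring S'), Algebra.semiringToRing A (A := S') with }
        funext x
        exact coVal_compat F C₀ hC₀ φ x }
  homog S _ _ s x := by
    letI : CommRing S := { (inferInstance : CommSemiring S), Algebra.semiringToRing A (A := S) with }
    show coVal F C₀ hC₀ S (s • x) = s ^ d • coVal F C₀ hC₀ S x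
    obtain ⟨r, rfl⟩ := presS_rTensor_surjective (A := A) (B := B) S x
    have hsm : ∀ (M : Type u) [AddCommGroup M] [Module A M] (t : MvPolynomial S A) (z : MvPolynomial S A ⊗[A] M),
        (presS (A := A) S).toLinearMap.rTensor M (t • z) = presS (A := A) S t • (presS (A := A) S).toLinearMap.rTensor M z := by
      intro M _ _ t z
      induction z using TensorProduct.induction_on with
      | zero => simp
      | tmul a m => simp [TensorProduct.smul_tmul']
      | add a b ha hb => simp only [smul_add, map_add, ha, hb]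
    rw [show s • (presS (A := A) S).toLinearMap.rTensor B r = (presS (A := A) S).toLinearMap.rTensor B ((X s : MvPolynomial S A) • r) by
      rw [hsm]; simp [presS], coVal_eq, coVal_eq, pre_smul, hsm]
    simp [presS]
  mult S _ _ := by
    letI : CommRing S := { (inferInstance : CommSemiring S), Algebra.semiringToRing A (A := S) with }
    refine ⟨?_, fun x y => ?_⟩
    · show coVal F C₀ hC₀ S 1 = 1
      rw [show (1 : S ⊗[A] B) = (presS (A := A) S).toLinearMap.rTensor B 1 by rw [rTensor_eq_map, map_one],
        coVal_eq, pre_one, rTensor_eq_map, map_one]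
    · show coVal F C₀ hC₀ S (x * y) = coVal F C₀ hC₀ S x * coVal F C₀ hC₀ S y
      obtain ⟨r, rfl⟩ := presS_rTensor_surjective (A := A) (B := B) S x
      obtain ⟨r', rfl⟩ := presS_rTensor_surjective (A := A) (B := B) S y
      rw [coVal_eq, coVal_eq, rTensor_eq_map B, rTensor_eq_map B, ← map_mul, ← rTensor_eq_map B, coVal_eq, pre_mul,
        rTensor_eq_map C₀, rTensor_eq_map C₀, rTensor_eq_map C₀, map_mul]

theorem postcomp_coLaw : PolLaw.postcomp C₀.val.toLinearMap (coLaw F C₀ hC₀).law = F.law := by
  ext S _ _ x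
  letI : CommRing S := { (inferInstance : CommSemiring S), Algebra.semiringToRing A (A := S) with }
  exact lTensor_coVal F C₀ hC₀ x

include hC₀ in
/-- A subalgebra containing all values of the universal law is everything. -/
theorem eq_top_of_isGammaD (hγ : PolLaw.IsGammaD F) : C₀ = ⊤ := by
  obtain ⟨f, hf, -⟩ := hγ C₀ (coLaw F C₀ hC₀)
  have h : C₀.val.comp f = AlgHom.id A C := by
    refine (hγ C F).unique ?_ ?_
    · ext S _ _ x
      have h2 : f.toLinearMap.lTensor S (F.law.toFun' S x) = (coLaw F C₀ hC₀).law.toFun' S x :=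
        congrFun (congrArg (fun G => PolynomialLaw.toFun' G S) hf) x
      have h3 : C₀.val.toLinearMap.lTensor S ((coLaw F C₀ hC₀).law.toFun' S x) = F.law.toFun' S x :=
        congrFun (congrArg (fun G => PolynomialLaw.toFun' G S) (postcomp_coLaw F C₀ hC₀)) x
      show (C₀.val.comp f).toLinearMap.lTensor S (F.law.toFun' S x) = F.law.toFun' S x
      rw [AlgHom.comp_toLinearMap, LinearMap.lTensor_comp_apply, h2, h3]
    · ext S _ _ x
      show (AlgHom.id A C).toLinearMap.lTensor S (F.law.toFun' S x) = F.law.toFun' S x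
      rw [AlgHom.toLinearMap_id, LinearMap.lTensor_id, LinearMap.id_apply]
  exact eq_top_iff.mpr fun c _ => by
    have := DFunLike.congr_fun h c
    simp only [AlgHom.comp_apply, AlgHom.id_apply] at this
    rw [← this]; exact (f c).2

end corestriction

end Groth.Agent.PolLawLib
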