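import Mathlib
import Groth.Agent.PolLawLib.Gamma
import Groth.Agent.PolLawLib.BaseChange

/-!
# The generic test for membership in the kernel of a law
-/

set_option autoImplicit false

universe u

open scoped TensorProduct
open MvPolynomial

namespace Groth.Agent.PolLawLib

variable {A : Type u} [CommRing A] {B : Type u} [CommRing B] [Algebra A B] {C : Type u} [CommRing C] [Algebra A C]

theorem mem_ker_of_isDirectLimit {ι : Type u} [Preorder ι] [IsDirected ι (fun i j => i ≤ j)] [Nonempty ι]
    (Bi : ι → Type u) [∀ i, CommRing (Bi i)] [∀ i, Algebra A (Bi i)]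
    (t : ∀ i j : ι, i ≤ j → (Bi i →ₐ[A] Bi j)) (φ : ∀ i : ι, Bi i →ₐ[A] B)
    (hcomp : ∀ (i j : ι) (h : i ≤ j), (φ j).comp (t i j h) = φ i)
    (hsurj : ∀ b : B, ∃ (i : ι) (x : Bi i), φ i x = b)
    {d : ℕ} (F : PolLaw.MulLaw A B C d) (b : B) :
    b ∈ PolLaw.ker F.law ↔ ∃ (i : ι) (x : Bi i), φ i x = b ∧
      ∀ (j : ι) (h : i ≤ j), t i j h x ∈ PolLaw.ker (F.precomp (φ j)).law := by
  constructor
  · intro hb
    obtain ⟨i, x, hx⟩ := hsurj b
    refine ⟨i, x, hx, fun j h S _ _ y w => ?_⟩
    show F.law.toFun' S ((φ j).toLinearMap.lTensor S (y + w * (1 : S) ⊗ₜ[A] t i j h x)) =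
      F.law.toFun' S ((φ j).toLinearMap.lTensor S y)
    rw [PolLaw.lTensor_algHom_apply, PolLaw.lTensor_algHom_apply, map_add, map_mul, Algebra.TensorProduct.map_tmul,
      ← AlgHom.comp_apply (φ₁ := φ j), hcomp, hx]
    exact hb S _ _
  · rintro ⟨i, x, hx, hall⟩ S _ _ y w
    have hlift : ∀ z : S ⊗[A] B, ∃ (j : ι) (_ : i ≤ j) (z' : S ⊗[A] Bi j), (φ j).toLinearMap.lTensor S z' = z := by
      intro z
      induction z using TensorProduct.induction_on with
      | zero => exact ⟨i, le_refl i, 0, map_zero _⟩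
      | tmul s c =>
        obtain ⟨k, c', rfl⟩ := hsurj c
        obtain ⟨j, hij, hkj⟩ := directed_of (fun i j => i ≤ j) i k
        exact ⟨j, hij, s ⊗ₜ[A] t k j hkj c', by rw [LinearMap.lTensor_tmul, AlgHom.toLinearMap_apply, ← AlgHom.comp_apply, hcomp]⟩
      | add a c ha hc =>
        obtain ⟨j, hij, a', rfl⟩ := ha
        obtain ⟨k, hik, c', rfl⟩ := hc
        obtain ⟨l, hjl, hkl⟩ := directed_of (fun i j => i ≤ j) j k
        refine ⟨l, hij.trans hjl, (t j l hjl).toLinearMap.lTensor S a' + (t k l hkl).toLinearMap.lTensor S c', ?_⟩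
        rw [map_add, ← LinearMap.lTensor_comp_apply, ← LinearMap.lTensor_comp_apply, ← AlgHom.comp_toLinearMap,
          ← AlgHom.comp_toLinearMap, hcomp, hcomp]
    obtain ⟨j, hij, y', rfl⟩ := hlift y
    obtain ⟨k, hik, w', rfl⟩ := hlift w
    obtain ⟨l, hjl, hkl⟩ := directed_of (fun i j => i ≤ j) j k
    have h := hall l (hij.trans hjl) S ((t j l hjl).toLinearMap.lTensor S y') ((t k l hkl).toLinearMap.lTensor S w')
    change F.law.toFun' S ((φ l).toLinearMap.lTensor S _) = F.law.toFun' S ((φ l).toLinearMap.lTensor S _) at h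
    simp only [PolLaw.lTensor_algHom_apply, map_add, map_mul, Algebra.TensorProduct.map_tmul] at h
    simp only [← PolLaw.lTensor_algHom_apply] at h
    rw [← LinearMap.lTensor_comp_apply, ← LinearMap.lTensor_comp_apply, ← AlgHom.comp_toLinearMap,
      ← AlgHom.comp_toLinearMap, hcomp, hcomp, ← AlgHom.comp_apply (φ₁ := φ l), hcomp, hx] at h
    exact h

section generic

variable (F : B →ₚₗ[A] C) (A' : Type u) [CommRing A'] [Algebra A A'] {n : ℕ} (g : Fin n → B)

/-- The test ring of the generic identity. -/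
abbrev GR (A' : Type u) [CommRing A'] (n : ℕ) : Type u := MvPolynomial (ULift.{u} (Fin n ⊕ Fin n)) A'

/-- The generic point. -/
noncomputable def gx : GR A' n ⊗[A] B := ∑ i, (X ⟨Sum.inl i⟩ : GR A' n) ⊗ₜ[A] g i

/-- The generic direction. -/
noncomputable def gw : GR A' n ⊗[A] B := ∑ i, (X ⟨Sum.inr i⟩ : GR A' n) ⊗ₜ[A] g i

/-- The generic defect. -/
noncomputable def defect (b' : A' ⊗[A] B) : GR A' n ⊗[A] C :=
  F.toFun' (GR A' n) (gx A' g + gw A' g * Algebra.TensorProduct.map (IsScalarTower.toAlgHom A A' (GR A' n)) (AlgHom.id A B) b') -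
    F.toFun' (GR A' n) (gx A' g)

variable {A' g}

theorem mem_kerBC_iff_defect (hg : Submodule.span A (Set.range g) = ⊤) (b' : A' ⊗[A] B) :
    b' ∈ PolLaw.kerBC F A' ↔ defect F A' g b' = 0 := by
  constructor
  · intro h
    exact sub_eq_zero.mpr (h (GR A' n) _ _)
  · intro h R _ _ _ _ x w
    have hspan : ∀ z : R ⊗[A] B, ∃ s : Fin n → R, z = ∑ i, s i ⊗ₜ[A] g i := fun z => by
      induction z using TensorProduct.induction_on with
      | zero => exact ⟨0, by simp⟩
      | tmul r b =>
        obtain ⟨c, rfl⟩ := (Submodule.mem_span_range_iff_exists_fun A).mp (hg ▸ (Submodule.mem_top : b ∈ ⊤))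
        exact ⟨fun i => c i • r, by simp [TensorProduct.tmul_sum, TensorProduct.smul_tmul]⟩
      | add a b ha hb =>
        obtain ⟨s, rfl⟩ := ha
        obtain ⟨t, rfl⟩ := hb
        exact ⟨s + t, by simp [TensorProduct.add_tmul, Finset.sum_add_distrib]⟩
    obtain ⟨s, rfl⟩ := hspan x
    obtain ⟨t, rfl⟩ := hspan w
    let h' : GR A' n →ₐ[A'] R := aeval fun v => Sum.elim s t v.down
    let h0 : GR A' n →ₐ[A] R := h'.restrictScalars A
    have e : (IsScalarTower.toAlgHom A A' R) = h0.comp (IsScalarTower.toAlgHom A A' (GR A' n)) := by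
      ext a; exact (h'.commutes a).symm
    have hx : h0.toLinearMap.rTensor B (gx A' g) = ∑ i, s i ⊗ₜ[A] g i := by
      simp [gx, h0, h']
    have hw : h0.toLinearMap.rTensor B (gw A' g) = ∑ i, t i ⊗ₜ[A] g i := by
      simp [gw, h0, h']
    have h1 := congrArg (h0.toLinearMap.rTensor C) (sub_eq_zero.mp h)
    rw [PolynomialLaw.isCompat_apply' (f := F) h0, PolynomialLaw.isCompat_apply' (f := F) h0, hx] at h1
    rw [rTensor_eq_map B h0, map_add, map_mul, ← rTensor_eq_map B h0, ← rTensor_eq_map B h0, hx, hw,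
      ← AlgHom.comp_apply, ← Algebra.TensorProduct.map_comp, AlgHom.comp_id, ← e] at h1
    exact h1

theorem defect_natural {A'' : Type u} [CommRing A''] [Algebra A A''] (φ : A' →ₐ[A] A'') (b' : A' ⊗[A] B) :
    ((MvPolynomial.mapAlgHom φ : GR A' n →ₐ[A] GR A'' n)).toLinearMap.rTensor C (defect F A' g b') =
      defect F A'' g (Algebra.TensorProduct.map φ (AlgHom.id A B) b') := by
  set h0 : GR A' n →ₐ[A] GR A'' n := MvPolynomial.mapAlgHom φ with hh0
  have hx : h0.toLinearMap.rTensor B (gx A' g) = gx A'' g := by simp [gx, hh0]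
  have hw : h0.toLinearMap.rTensor B (gw A' g) = gw A'' g := by simp [gw, hh0]
  have e : h0.comp (IsScalarTower.toAlgHom A A' (GR A' n)) = (IsScalarTower.toAlgHom A A'' (GR A'' n)).comp φ := by
    ext a; simp [hh0, MvPolynomial.algebraMap_eq]
  rw [defect, map_sub, PolynomialLaw.isCompat_apply' (f := F) h0, PolynomialLaw.isCompat_apply' (f := F) h0, hx,
    rTensor_eq_map B h0, map_add, map_mul, ← rTensor_eq_map B h0, ← rTensor_eq_map B h0, hx, hw,
    ← AlgHom.comp_apply, ← Algebra.TensorProduct.map_comp, AlgHom.comp_id, e]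
  rw [defect, ← AlgHom.comp_apply, ← Algebra.TensorProduct.map_comp, AlgHom.comp_id]

end generic

theorem exists_gen [Module.Finite A B] : ∃ (n : ℕ) (g : Fin n → B), Submodule.span A (Set.range g) = ⊤ :=
  Module.Finite.exists_fin

theorem map_kerBC_le (F : B →ₚₗ[A] C) {A' A'' : Type u} [CommRing A'] [Algebra A A'] [CommRing A''] [Algebra A A'']
    (φ : A' →ₐ[A] A'') :
    (PolLaw.kerBC F A').map (Algebra.TensorProduct.map φ (AlgHom.id A B)) ≤ PolLaw.kerBC F A'' := by
  rw [Ideal.map_le_iff_le_comap]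
  intro b hb R _ _ _ _ x w
  letI : Algebra A' R := ((algebraMap A'' R).comp φ.toRingHom).toAlgebra
  haveI : IsScalarTower A A' R := IsScalarTower.of_algebraMap_eq fun a => by
    show algebraMap A R a = algebraMap A'' R (φ (algebraMap A A' a))
    rw [AlgHom.commutes, ← IsScalarTower.algebraMap_apply]
  have e : (IsScalarTower.toAlgHom A A' R) = (IsScalarTower.toAlgHom A A'' R).comp φ := rfl
  have := hb R x w
  rwa [e, ← AlgHom.comp_id (AlgHom.id A B), Algebra.TensorProduct.map_comp, AlgHom.comp_apply] at this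

theorem kerBC_eq_iSup [Module.Finite A B] {A' : Type u} [CommRing A'] [Algebra A A'] {ι : Type u} [Preorder ι]
    [IsDirected ι (fun i j => i ≤ j)] [Nonempty ι]
    (Ai : ι → Type u) [∀ i, CommRing (Ai i)] [∀ i, Algebra A (Ai i)]
    (t : ∀ i j : ι, i ≤ j → (Ai i →ₐ[A] Ai j)) (φ : ∀ i : ι, Ai i →ₐ[A] A')
    (hcomp : ∀ (i j : ι) (h : i ≤ j), (φ j).comp (t i j h) = φ i)
    (hsurj : ∀ a : A', ∃ (i : ι) (x : Ai i), φ i x = a)
    (hzero : ∀ (i : ι) (x : Ai i), φ i x = 0 → ∃ (j : ι) (h : i ≤ j), t i j h x = 0)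
    (htrans : ∀ (i j k : ι) (hij : i ≤ j) (hjk : j ≤ k), (t j k hjk).comp (t i j hij) = t i k (hij.trans hjk))
    {d : ℕ} (F : PolLaw.MulLaw A B A d) :
    PolLaw.kerBC F.law A' =
      ⨆ i : ι, (PolLaw.kerBC F.law (Ai i)).map (Algebra.TensorProduct.map (φ i) (AlgHom.id A B)) := by
  classical
  refine le_antisymm (fun b hb => ?_) (iSup_le fun i => map_kerBC_le F.law (φ i))
  obtain ⟨n, g, hg⟩ := exists_gen (A := A) (B := B)
  have hlift : ∀ z : A' ⊗[A] B, ∃ (i : ι) (z' : Ai i ⊗[A] B), Algebra.TensorProduct.map (φ i) (AlgHom.id A B) z' = z := by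
    intro z
    induction z using TensorProduct.induction_on with
    | zero => exact ⟨Classical.arbitrary ι, 0, map_zero _⟩
    | tmul a c =>
      obtain ⟨i, x, rfl⟩ := hsurj a
      exact ⟨i, x ⊗ₜ[A] c, rfl⟩
    | add a c ha hc =>
      obtain ⟨j, a', rfl⟩ := ha
      obtain ⟨k, c', rfl⟩ := hc
      obtain ⟨l, hjl, hkl⟩ := directed_of (fun i j => i ≤ j) j k
      refine ⟨l, Algebra.TensorProduct.map (t j l hjl) (AlgHom.id A B) a' +
        Algebra.TensorProduct.map (t k l hkl) (AlgHom.id A B) c', ?_⟩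
      rw [map_add, ← AlgHom.comp_apply, ← Algebra.TensorProduct.map_comp, ← AlgHom.comp_apply,
        ← Algebra.TensorProduct.map_comp, hcomp, hcomp, AlgHom.comp_id]
  obtain ⟨i, b', rfl⟩ := hlift b
  have hdef := (mem_kerBC_iff_defect F.law hg _).mp hb
  rw [← defect_natural] at hdef
  set p : GR (Ai i) n := TensorProduct.rid A _ (defect F.law (Ai i) g b') with hp
  have hrid : ∀ {M N : Type u} [AddCommGroup M] [Module A M] [AddCommGroup N] [Module A N] (h : M →ₗ[A] N) (z : M ⊗[A] A),
      TensorProduct.rid A N (h.rTensor A z) = h (TensorProduct.rid A M z) := by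
    intro M N _ _ _ _ h z
    induction z using TensorProduct.induction_on with
    | zero => simp
    | tmul m a => simp
    | add a c ha hc => simp only [map_add, ha, hc]
  have hp0 : ∀ m, φ i (p.coeff m) = 0 := fun m => by
    have := congrArg (fun z => (TensorProduct.rid A (GR A' n) z).coeff m) hdef
    simp only [hrid, map_zero, coeff_zero] at this
    exact (MvPolynomial.coeff_map _ _ _).symm.trans this
  have hstage : ∀ s : Finset (ULift.{u} (Fin n ⊕ Fin n) →₀ ℕ), ∃ (j : ι) (h : i ≤ j), ∀ m ∈ s, t i j h (p.coeff m) = 0 := by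
    intro s
    induction s using Finset.induction with
    | empty => exact ⟨i, le_refl i, by simp⟩
    | insert m s hm ih =>
      obtain ⟨j, hij, hj⟩ := ih
      obtain ⟨k, hik, hk⟩ := hzero i _ (hp0 m)
      obtain ⟨l, hjl, hkl⟩ := directed_of (fun i j => i ≤ j) j k
      refine ⟨l, hij.trans hjl, fun x hx => ?_⟩
      rcases Finset.mem_insert.mp hx with rfl | hx
      · rw [← DFunLike.congr_fun (htrans i k l hik hkl) _, AlgHom.comp_apply, hk, map_zero]
      · rw [← DFunLike.congr_fun (htrans i j l hij hjl) _, AlgHom.comp_apply, hj x hx, map_zero]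
  obtain ⟨j, hij, hj⟩ := hstage p.support
  have hmem : Algebra.TensorProduct.map (t i j hij) (AlgHom.id A B) b' ∈ PolLaw.kerBC F.law (Ai j) := by
    rw [mem_kerBC_iff_defect F.law hg, ← defect_natural]
    apply (TensorProduct.rid A (GR (Ai j) n)).injective
    rw [hrid, map_zero]
    ext m
    rw [coeff_zero]
    refine (MvPolynomial.coeff_map _ _ _).trans ?_
    by_cases hm : m ∈ p.support
    · exact hj m hm
    · show (t i j hij) (p.coeff m) = 0
      rw [notMem_support_iff.mp hm, map_zero]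
  refine Ideal.mem_iSup_of_mem j ?_
  have h := Ideal.mem_map_of_mem (Algebra.TensorProduct.map (φ j) (AlgHom.id A B)) hmem
  rwa [← AlgHom.comp_apply, ← Algebra.TensorProduct.map_comp, hcomp, AlgHom.comp_id] at h

theorem map_ker_eq_kerBC_localization [Module.Finite A B] {d : ℕ} (F : PolLaw.MulLaw A B A d) (M : Submonoid A)
    (A' : Type u) [CommRing A'] [Algebra A A'] [IsLocalization M A'] :
    (PolLaw.ker F.law).map (Algebra.TensorProduct.includeRight : B →ₐ[A] A' ⊗[A] B) = PolLaw.kerBC F.law A' := by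
  classical
  refine le_antisymm (map_ker_le_kerBC F.law A') fun b' hb => ?_
  obtain ⟨n, g, hg⟩ := exists_gen (A := A) (B := B)
  have hden : ∀ z : A' ⊗[A] B, ∃ (m : M) (b : B), algebraMap A A' m.1 • z = (1 : A') ⊗ₜ[A] b := by
    intro z
    induction z using TensorProduct.induction_on with
    | zero => exact ⟨1, 0, by simp⟩
    | tmul a c =>
      obtain ⟨⟨a0, m⟩, h⟩ := IsLocalization.surj M a
      refine ⟨m, a0 • c, ?_⟩
      rw [TensorProduct.smul_tmul', TensorProduct.tmul_smul, TensorProduct.smul_tmul', smul_eq_mul, mul_comm, h,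
        Algebra.smul_def, mul_one]
    | add x y hx hy =>
      obtain ⟨m, c, hc⟩ := hx
      obtain ⟨m', e, he⟩ := hy
      refine ⟨m * m', (m'.1 • c + m.1 • e), ?_⟩
      rw [smul_add, TensorProduct.tmul_add, TensorProduct.tmul_smul, TensorProduct.tmul_smul, ← hc, ← he,
        Submonoid.coe_mul, map_mul]
      conv_lhs => rw [mul_smul, mul_smul, smul_comm (algebraMap A A' m.1) (algebraMap A A' m'.1) x]
      rw [algebraMap_smul, algebraMap_smul]
      simp only [algebraMap_smul]
  obtain ⟨m, b, hb'⟩ := hden b'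
  have hb1 : (1 : A') ⊗ₜ[A] b ∈ PolLaw.kerBC F.law A' := by
    rw [← hb', Algebra.smul_def]
    exact Ideal.mul_mem_left _ _ hb
  have hdef := (mem_kerBC_iff_defect F.law hg _).mp hb1
  rw [show (1 : A') ⊗ₜ[A] b = Algebra.TensorProduct.map (Algebra.ofId A A') (AlgHom.id A B) ((1 : A) ⊗ₜ[A] b) by
    simp, ← defect_natural] at hdef
  set D := defect F.law A g ((1 : A) ⊗ₜ[A] b) with hD
  set p : GR A n := TensorProduct.rid A _ D with hp
  have hrid : ∀ {M N : Type u} [AddCommGroup M] [Module A M] [AddCommGroup N] [Module A N] (h : M →ₗ[A] N) (z : M ⊗[A] A),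
      TensorProduct.rid A N (h.rTensor A z) = h (TensorProduct.rid A M z) := by
    intro M N _ _ _ _ h z
    induction z using TensorProduct.induction_on with
    | zero => simp
    | tmul m a => simp
    | add a c ha hc => simp only [map_add, ha, hc]
  have hp0 : ∀ e, ∃ c : M, c.1 * p.coeff e = 0 := fun e => by
    have h := congrArg (fun z => (TensorProduct.rid A (GR A' n) z).coeff e) hdef
    simp only [hrid, map_zero, coeff_zero] at h
    exact (IsLocalization.map_eq_zero_iff M A' _).mp ((MvPolynomial.coeff_map _ _ _).symm.trans h)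
  choose c hc using hp0
  let c0 : M := ∏ e ∈ p.support, c e
  have hc0 : ∀ e, c0.1 * p.coeff e = 0 := fun e => by
    by_cases he : e ∈ p.support
    · rw [show c0 = c e * ∏ x ∈ p.support.erase e, c x from (Finset.mul_prod_erase _ _ he).symm, Submonoid.coe_mul,
        mul_right_comm, hc, zero_mul]
    · rw [notMem_support_iff.mp he, mul_zero]
  -- scaling the direction
  let sub : GR A n →ₐ[A] GR A n := aeval fun v => Sum.elim (fun i => X ⟨Sum.inl i⟩) (fun i => C c0.1 * X ⟨Sum.inr i⟩) v.down
  let kill : GR A n →ₐ[A] GR A n := aeval fun v => Sum.elim (fun i => X ⟨Sum.inl i⟩) (fun _ => 0) v.down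
  have hkill : kill p = 0 := by
    have h1 : kill.toLinearMap.rTensor A D = 0 := by
      rw [hD, defect, map_sub, PolynomialLaw.isCompat_apply' (f := F.law) kill, PolynomialLaw.isCompat_apply' (f := F.law) kill,
        rTensor_eq_map B kill, map_add, map_mul, ← rTensor_eq_map B kill, ← rTensor_eq_map B kill]
      rw [show kill.toLinearMap.rTensor B (gw A g) = 0 by simp [gw, kill], zero_mul, add_zero, sub_self]
    have := hrid kill.toLinearMap D
    rw [h1, map_zero] at this
    exact this.symm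
  have hsub : sub p = 0 := by
    have hmon : ∀ (e : ULift.{u} (Fin n ⊕ Fin n) →₀ ℕ) (a : A), c0.1 * a = 0 →
        sub (monomial e a) = kill (monomial e a) := fun e a ha => by
      by_cases hW : ∃ i, e ⟨Sum.inr i⟩ ≠ 0
      · obtain ⟨i, hi⟩ := hW
        have hmem : (⟨Sum.inr i⟩ : ULift.{u} (Fin n ⊕ Fin n)) ∈ e.support := Finsupp.mem_support_iff.mpr hi
        have h1 : kill (monomial e a) = 0 := by
          rw [show kill (monomial e a) = _ from aeval_monomial .., Finsupp.prod,
            Finset.prod_eq_zero hmem (by simp [zero_pow hi]), mul_zero]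
        have h2 : sub (monomial e a) = 0 := by
          rw [show sub (monomial e a) = _ from aeval_monomial .., Finsupp.prod, ← Finset.mul_prod_erase _ _ hmem,
            ← mul_assoc]
          simp only [Sum.elim_inr]
          obtain ⟨k, hk⟩ := Nat.exists_eq_succ_of_ne_zero hi
          rw [hk, mul_pow, MvPolynomial.algebraMap_eq, pow_succ, ← mul_assoc (MvPolynomial.C a)]
          have : MvPolynomial.C a * ((MvPolynomial.C c0.1 : GR A n) ^ k * MvPolynomial.C c0.1) = 0 := by
            rw [← map_pow, ← map_mul, ← map_mul, mul_left_comm, mul_comm a, ha, mul_zero, map_zero]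
          rw [this, zero_mul, zero_mul]
        rw [h1, h2]
      · push Not at hW
        rw [show sub (monomial e a) = _ from aeval_monomial .., show kill (monomial e a) = _ from aeval_monomial ..]
        congr 1
        refine Finsupp.prod_congr fun v hv => ?_
        obtain ⟨v | v⟩ := v
        · rfl
        · exact absurd (hW v) (Finsupp.mem_support_iff.mp hv)
    calc sub p = ∑ e ∈ p.support, sub (monomial e (p.coeff e)) := by rw [← map_sum, ← as_sum p]
      _ = ∑ e ∈ p.support, kill (monomial e (p.coeff e)) := Finset.sum_congr rfl fun e _ => hmon e _ (hc0 e)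
      _ = 0 := by rw [← map_sum, ← as_sum p, hkill]
  have hker : c0.1 • b ∈ PolLaw.ker F.law := by
    have h0 : (1 : A) ⊗ₜ[A] (c0.1 • b) ∈ PolLaw.kerBC F.law A := by
      rw [mem_kerBC_iff_defect F.law hg]
      apply (TensorProduct.rid A (GR A n)).injective
      rw [map_zero, ← hsub, hp, hD]
      refine Eq.trans ?_ (hrid sub.toLinearMap _)
      congr 1
      rw [defect, defect, map_sub, PolynomialLaw.isCompat_apply' (f := F.law) sub, PolynomialLaw.isCompat_apply' (f := F.law) sub,
        rTensor_eq_map B sub, map_add, map_mul, ← rTensor_eq_map B sub, ← rTensor_eq_map B sub]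
      have hx : sub.toLinearMap.rTensor B (gx A g) = gx A g := by simp [gx, sub]
      have hw : sub.toLinearMap.rTensor B (gw A g) = c0.1 • gw A g := by
        simp [gw, sub, Finset.smul_sum, TensorProduct.smul_tmul', MvPolynomial.smul_eq_C_mul]
      rw [hx, hw, Algebra.TensorProduct.map_tmul, Algebra.TensorProduct.map_tmul, Algebra.TensorProduct.map_tmul,
        smul_mul_assoc, ← mul_smul_comm]
      simp [TensorProduct.tmul_smul, mul_smul_comm]
    intro S _ _ x w
    letI : CommRing S := { (inferInstance : CommSemiring S), Algebra.semiringToRing A (A := S) with }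
    have := h0 S x w
    simpa using this
  have hu : IsUnit (algebraMap A A' (c0.1 * m.1)) := IsLocalization.map_units A' (c0 * m)
  have h1 : (1 : A') ⊗ₜ[A] (c0.1 • b) ∈ (PolLaw.ker F.law).map (Algebra.TensorProduct.includeRight : B →ₐ[A] A' ⊗[A] B) :=
    Ideal.mem_map_of_mem (Algebra.TensorProduct.includeRight : B →ₐ[A] A' ⊗[A] B) hker
  rw [TensorProduct.tmul_smul, ← hb', ← algebraMap_smul A', smul_smul, ← map_mul, Algebra.smul_def] at h1
  exact (Ideal.unit_mul_mem_iff_mem _ (hu.map (algebraMap A' (A' ⊗[A] B)))).mp h1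

end Groth.Agent.PolLawLib
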