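import Mathlib
import Groth.Agent.PolLawLib.Generic
import Groth.Agent.PolLawLib.Kernel

/-!
# Kernels after a flat base change in characteristic `0` or a separable one
-/

set_option autoImplicit false

universe u

open scoped TensorProduct

namespace Groth.Agent.PolLawLib

variable {A : Type u} [CommRing A] {B : Type u} [CommRing B] [Algebra A B] {d : ℕ} (F : PolLaw.MulLaw A B A d)

section separable

theorem exists_splitting : ∀ (n : ℕ) {A : Type u} [CommRing A] (g : Polynomial A), g.Monic → g.natDegree = n →
    ∃ (S : Type u) (_ : CommRing S) (_ : Algebra A S) (α : Fin n → S) (π : S →ₗ[A] A),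
      π 1 = 1 ∧ g.map (algebraMap A S) = ∏ j, (Polynomial.X - Polynomial.C (α j)) := by
  intro n
  induction n with
  | zero =>
    intro A _ g hg hn
    refine ⟨A, inferInstance, inferInstance, Fin.elim0, LinearMap.id, rfl, ?_⟩
    rw [hg.natDegree_eq_zero.mp hn]; simp
  | succ n ih =>
    intro A _ g hg hn
    rcases subsingleton_or_nontrivial A with hA | hA
    · exact ⟨A, inferInstance, inferInstance, fun _ => 0, LinearMap.id, rfl, Subsingleton.elim _ _⟩
    let A1 := AdjoinRoot g
    let pb := AdjoinRoot.powerBasis' hg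
    have hdim : pb.dim = n + 1 := hn
    let i0 : Fin pb.dim := ⟨0, by omega⟩
    haveI : Nonempty (Fin pb.dim) := ⟨i0⟩
    haveI : Nontrivial A1 := pb.basis.repr.toEquiv.nontrivial
    have hroot : (g.map (algebraMap A A1)).IsRoot (AdjoinRoot.root g) := AdjoinRoot.isRoot_root g
    obtain ⟨h, hgh⟩ := Polynomial.dvd_iff_isRoot.mpr hroot
    have hh : h.Monic := (Polynomial.monic_X_sub_C _).of_mul_monic_left (hgh ▸ hg.map _)
    have hdeg : h.natDegree = n := by
      have := congrArg Polynomial.natDegree hgh
      rw [hg.natDegree_map, (Polynomial.monic_X_sub_C _).natDegree_mul hh, Polynomial.natDegree_X_sub_C, hn] at this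
      omega
    obtain ⟨S, iS, iA, α, π, hπ, hα⟩ := ih h hh hdeg
    letI : Algebra A S := ((algebraMap A1 S).comp (algebraMap A A1)).toAlgebra
    haveI : IsScalarTower A A1 S := IsScalarTower.of_algebraMap_eq fun _ => rfl
    refine ⟨S, iS, inferInstance, Fin.cons (algebraMap A1 S (AdjoinRoot.root g)) α,
      (pb.basis.coord i0).comp (π.restrictScalars A), ?_, ?_⟩
    · show pb.basis.coord i0 (π 1) = 1
      rw [hπ, show (1 : A1) = pb.basis i0 by rw [pb.coe_basis]; simp [i0], Module.Basis.coord_apply,
        Module.Basis.repr_self, Finsupp.single_eq_same]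
    · rw [IsScalarTower.algebraMap_eq A A1 S, ← Polynomial.map_map, hgh, Polynomial.map_mul, Polynomial.map_sub,
        Polynomial.map_X, Polynomial.map_C, hα, Fin.prod_univ_succ]
      simp

theorem isUnit_sub_of_separable {S : Type u} [CommRing S] {n : ℕ} (α : Fin n → S)
    (h : (∏ j, (Polynomial.X - Polynomial.C (α j))).Separable) {i j : Fin n} (hij : i ≠ j) : IsUnit (α i - α j) := by
  classical
  obtain ⟨a, b, hab⟩ := h
  have h1 := congrArg (Polynomial.eval (α i)) hab
  simp only [Polynomial.eval_add, Polynomial.eval_mul, Polynomial.eval_one] at h1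
  rw [Polynomial.eval_prod, Finset.prod_eq_zero (Finset.mem_univ i) (by simp), mul_zero, zero_add,
    Polynomial.derivative_prod_finset, Polynomial.eval_finsetSum, Finset.sum_eq_single i] at h1
  · rw [Polynomial.eval_mul, Polynomial.eval_prod, Polynomial.derivative_sub, Polynomial.derivative_X,
      Polynomial.derivative_C, sub_zero, Polynomial.eval_one, mul_one,
      ← Finset.mul_prod_erase _ _ (Finset.mem_erase.mpr ⟨hij.symm, Finset.mem_univ j⟩)] at h1
    refine IsUnit.of_mul_eq_one (b.eval (α i) * ∏ x ∈ (Finset.univ.erase i).erase j, (α i - α x)) ?_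
    rw [← h1]
    simp only [Polynomial.eval_sub, Polynomial.eval_X, Polynomial.eval_C]
    ring
  · intro k _ hk
    rw [Polynomial.eval_mul, Polynomial.eval_prod, Finset.prod_eq_zero (Finset.mem_erase.mpr ⟨Ne.symm hk, Finset.mem_univ i⟩)
      (by simp), zero_mul]
  · simp

theorem mem_ker_of_split {S' : Type u} [CommRing S'] [Algebra A S'] (π : S' →ₗ[A] A) (hπ : π 1 = 1) {b : B}
    (hb : (1 : S') ⊗ₜ[A] b ∈ PolLaw.kerBC F.law S') : b ∈ PolLaw.ker F.law := by
  intro S _ _ x w
  letI : CommRing S := { (inferInstance : CommSemiring S), Algebra.semiringToRing A (A := S) with }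
  let R := S' ⊗[A] S
  let j : S →ₐ[A] R := Algebra.TensorProduct.includeRight
  have h := hb R (j.toLinearMap.rTensor B x) (j.toLinearMap.rTensor B w)
  rw [Algebra.TensorProduct.map_tmul, map_one, AlgHom.id_apply] at h
  have hj : j.toLinearMap.rTensor B (x + w * (1 : S) ⊗ₜ[A] b) =
      j.toLinearMap.rTensor B x + j.toLinearMap.rTensor B w * (1 : R) ⊗ₜ[A] b := by
    rw [rTensor_eq_map B j, rTensor_eq_map B j, rTensor_eq_map B j, map_add, map_mul, Algebra.TensorProduct.map_tmul,
      map_one, AlgHom.id_apply]
  rw [← hj, ← PolynomialLaw.isCompat_apply' (f := F.law) j, ← PolynomialLaw.isCompat_apply' (f := F.law) j] at h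
  let back : R →ₗ[A] S := (TensorProduct.lid A S).toLinearMap ∘ₗ π.rTensor S
  have hback : ∀ z, back.rTensor A (j.toLinearMap.rTensor A z) = z := fun z => by
    rw [← LinearMap.rTensor_comp_apply]
    have : back ∘ₗ j.toLinearMap = LinearMap.id := LinearMap.ext fun s => by simp [back, j, R, hπ]
    rw [this, LinearMap.rTensor_id, LinearMap.id_apply]
  rw [← hback (F.law.toFun' S _), h, hback]

theorem map_ker_eq_kerBC_adjoinRoot (g : Polynomial A) (hg : g.Monic) (hsep : g.Separable) :
    (PolLaw.ker F.law).map (Algebra.TensorProduct.includeRight : B →ₐ[A] AdjoinRoot g ⊗[A] B) =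
      PolLaw.kerBC F.law (AdjoinRoot g) := by
  classical
  refine le_antisymm (map_ker_le_kerBC F.law _) fun b' hb => ?_
  obtain ⟨S, _, _, α, π, hπ, hα⟩ := exists_splitting g.natDegree g hg rfl
  let pb := AdjoinRoot.powerBasis' hg
  let e := TensorProduct.equivFinsuppOfBasisLeft pb.basis (N := B)
  let c : Fin g.natDegree → B := fun i => e b' i
  have hb' : b' = ∑ i : Fin g.natDegree, (AdjoinRoot.root g ^ (i : ℕ)) ⊗ₜ[A] c i := by
    apply e.injective
    refine Finsupp.ext fun j => ?_
    rw [map_sum, Finsupp.finsetSum_apply]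
    refine Eq.symm ((Finset.sum_eq_single (M := B) (j : Fin g.natDegree) (fun i _ hij => ?_)
      (fun h => absurd (Finset.mem_univ _) h)).trans ?_)
    · rw [show AdjoinRoot.root g ^ (i : ℕ) = pb.basis i from (pb.basis_eq_pow i).symm,
        TensorProduct.equivFinsuppOfBasisLeft_apply_tmul_apply, Module.Basis.repr_self,
        Finsupp.single_eq_of_ne (Ne.symm hij), zero_smul]
    · rw [show AdjoinRoot.root g ^ (j : ℕ) = pb.basis j from (pb.basis_eq_pow j).symm,
        TensorProduct.equivFinsuppOfBasisLeft_apply_tmul_apply, Module.Basis.repr_self, Finsupp.single_eq_same, one_smul]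
  have hroot : ∀ j, Polynomial.aeval (α j) g = 0 := fun j => by
    rw [Polynomial.aeval_def, ← Polynomial.eval_map, hα, Polynomial.eval_prod]
    exact Finset.prod_eq_zero (Finset.mem_univ j) (by simp)
  let V : Matrix (Fin g.natDegree) (Fin g.natDegree) S := Matrix.vandermonde α
  have hrow : ∀ j, ∑ i, (V j i) ⊗ₜ[A] c i ∈ PolLaw.kerBC F.law S := fun j => by
    have h := map_kerBC_le F.law (AdjoinRoot.liftAlgHom g (Algebra.ofId A S) (α j) (hroot j))
      (Ideal.mem_map_of_mem _ hb)
    rw [hb', map_sum] at h
    simp only [Algebra.TensorProduct.map_tmul, map_pow, AlgHom.id_apply] at h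
    refine cast ?_ h
    congr 1
    refine Finset.sum_congr rfl fun i _ => ?_
    simp [V, Matrix.vandermonde]
  have hdet : IsUnit V.det := by
    rw [Matrix.det_vandermonde]
    refine IsUnit.prod_iff.mpr fun i _ => IsUnit.prod_iff.mpr fun j hj => ?_
    exact isUnit_sub_of_separable α (hα ▸ hsep.map) (Finset.mem_Ioi.mp hj).ne'
  have hc : ∀ i, (1 : S) ⊗ₜ[A] c i ∈ PolLaw.kerBC F.law S := fun i => by
    have h : (1 : S) ⊗ₜ[A] c i = ∑ j, ((V⁻¹ i j) ⊗ₜ[A] (1 : B)) * ∑ k, (V j k) ⊗ₜ[A] c k := by
      simp only [Finset.mul_sum, Algebra.TensorProduct.tmul_mul_tmul, one_mul]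
      rw [Finset.sum_comm]
      simp only [← TensorProduct.sum_tmul, ← Matrix.mul_apply, Matrix.nonsing_inv_mul V hdet]
      rw [Finset.sum_eq_single i]
      · simp
      · intro k _ hk; simp [Matrix.one_apply_ne (Ne.symm hk)]
      · simp
    rw [h]
    exact Ideal.sum_mem _ fun j _ => Ideal.mul_mem_left _ _ (hrow j)
  rw [hb']
  refine Ideal.sum_mem _ fun i _ => ?_
  rw [show (AdjoinRoot.root g ^ (i : ℕ)) ⊗ₜ[A] c i = ((AdjoinRoot.root g ^ (i : ℕ)) ⊗ₜ[A] (1 : B)) *
    (Algebra.TensorProduct.includeRight : B →ₐ[A] AdjoinRoot g ⊗[A] B) (c i) by simp]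
  exact Ideal.mul_mem_left _ _ (Ideal.mem_map_of_mem _ (mem_ker_of_split F π hπ (hc i)))

end separable

section derivative

variable (S : Type u) [CommRing S] [Algebra A S]

/-- Constants into `S[T]`, as an `A`-algebra map. -/
noncomputable def cT : S →ₐ[A] Polynomial S := (Polynomial.CAlgHom : S →ₐ[S] Polynomial S).restrictScalars A

/-- The values along the line `x + T z`. -/
noncomputable def line (x z : S ⊗[A] B) : Polynomial S :=
  TensorProduct.rid A (Polynomial S) (F.law.toFun' (Polynomial S)
    ((cT S).toLinearMap.rTensor B x + (Polynomial.X : Polynomial S) • (cT S).toLinearMap.rTensor B z))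

/-- The first variation. -/
noncomputable def dF (x z : S ⊗[A] B) : S := (line F S x z).coeff 1

variable {S}

theorem rid_natural {M N : Type u} [AddCommGroup M] [Module A M] [AddCommGroup N] [Module A N] (h : M →ₗ[A] N) (w : M ⊗[A] A) :
    TensorProduct.rid A N (h.rTensor A w) = h (TensorProduct.rid A M w) := by
  induction w using TensorProduct.induction_on with
  | zero => simp
  | tmul m a => simp
  | add a c ha hc => simp only [map_add, ha, hc]

theorem rTensor_smul_poly {S' : Type u} [CommRing S'] [Algebra A S'] (φ : S →ₐ[A] S') (s : S) (z : S ⊗[A] B) :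
    φ.toLinearMap.rTensor B (s • z) = φ s • φ.toLinearMap.rTensor B z := by
  induction z using TensorProduct.induction_on with
  | zero => simp
  | tmul a b => simp [TensorProduct.smul_tmul']
  | add a c ha hc => simp only [smul_add, map_add, ha, hc]

theorem map_dF {S' : Type u} [CommRing S'] [Algebra A S'] (φ : S →ₐ[A] S') (x z : S ⊗[A] B) :
    φ (dF F S x z) = dF F S' (φ.toLinearMap.rTensor B x) (φ.toLinearMap.rTensor B z) := by
  let φT : Polynomial S →ₐ[A] Polynomial S' := Polynomial.mapAlgHom φ
  have hc : φT.comp (cT S) = (cT S').comp φ := AlgHom.ext fun s => by simp [φT, cT]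
  have hb : ∀ z, φT.toLinearMap.rTensor B ((cT S).toLinearMap.rTensor B z) =
      (cT S').toLinearMap.rTensor B (φ.toLinearMap.rTensor B z) := fun z => by
    rw [← LinearMap.rTensor_comp_apply, ← AlgHom.comp_toLinearMap, hc, AlgHom.comp_toLinearMap,
      LinearMap.rTensor_comp_apply]
  have h : φT (line F S x z) = line F S' (φ.toLinearMap.rTensor B x) (φ.toLinearMap.rTensor B z) := by
    rw [line, line, show φT (TensorProduct.rid A (Polynomial S) _) = φT.toLinearMap (TensorProduct.rid A (Polynomial S) _) from rfl,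
      ← rid_natural, PolynomialLaw.isCompat_apply' (f := F.law) φT]
    simp only [map_add, rTensor_smul_poly, hb]
    simp [φT]
  rw [dF, dF, ← h]
  exact (Polynomial.coeff_map _ _).symm

theorem coeff_one_prod {R : Type u} [CommRing R] {ι : Type*} [DecidableEq ι] (s : Finset ι) (a b : ι → R) :
    (∏ l ∈ s, (Polynomial.C (a l) + Polynomial.X * Polynomial.C (b l))).coeff 1 = ∑ l ∈ s, b l * ∏ k ∈ s.erase l, a k := by
  induction s using Finset.induction with
  | empty => simp [Polynomial.coeff_one]
  | insert i s hi ih =>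
    rw [Finset.prod_insert hi, add_mul, Polynomial.coeff_add, Polynomial.coeff_C_mul, ih, mul_assoc,
      show (1 : ℕ) = 0 + 1 from rfl, Polynomial.coeff_X_mul, Polynomial.coeff_C_mul, Polynomial.coeff_zero_eq_eval_zero,
      Polynomial.eval_prod]
    simp only [Polynomial.eval_add, Polynomial.eval_C, Polynomial.eval_mul, Polynomial.eval_X, zero_mul, add_zero]
    rw [Finset.sum_insert hi, Finset.erase_insert hi, Finset.mul_sum, add_comm]
    congr 1
    refine Finset.sum_congr rfl fun l hl => ?_
    have hne : i ≠ l := fun h => hi (h ▸ hl)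
    rw [Finset.erase_insert_of_ne hne, Finset.prod_insert (fun h => hi (Finset.mem_of_mem_erase h))]
    ring

open MvPolynomial in
theorem dF_prB (y q : MvPolynomial B S) :
    dF F S (prB (A := A) B S y) (prB (A := A) B S q) =
      TensorProduct.rid A S (Phi (polyLaw F) S
        (∑ l, rename (Prod.mk l) q * ∏ k ∈ Finset.univ.erase l, rename (Prod.mk k) y)) := by
  classical
  have hp : ∀ p : MvPolynomial B S, (cT S).toLinearMap.rTensor B (prB (A := A) B S p) =
      prB (A := A) B (Polynomial S) (MvPolynomial.map (cT S).toRingHom p) := fun p => by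
    rw [prB_map, rTensor_eq_map]
  rw [dF, line, hp, hp, ← map_smul, ← map_add, toFun_prB]
  let K : Polynomial (MvPolynomial (Fin d × B) S) →+* MvPolynomial (Fin d × B) (Polynomial S) :=
    Polynomial.eval₂RingHom (MvPolynomial.map Polynomial.C) (MvPolynomial.C Polynomial.X)
  have hK : blockProd d (MvPolynomial.map (cT (A := A) S).toRingHom y + (Polynomial.X : Polynomial S) • MvPolynomial.map (cT (A := A) S).toRingHom q) =
      K (∏ l, (Polynomial.C (rename (Prod.mk l) y) + Polynomial.X * Polynomial.C (rename (Prod.mk l) q))) := by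
    rw [map_prod, blockProd]
    refine Finset.prod_congr rfl fun l _ => ?_
    simp only [smul_eq_C_mul, map_add, map_mul, rename_C, K, Polynomial.coe_eval₂RingHom, Polynomial.eval₂_C,
      Polynomial.eval₂_X, ← map_rename]
    rfl
  rw [hK]
  suffices H : ∀ P : Polynomial (MvPolynomial (Fin d × B) S),
      (TensorProduct.rid A (Polynomial S) (Phi (polyLaw F) (Polynomial S) (K P))).coeff 1 =
        TensorProduct.rid A S (Phi (polyLaw F) S (P.coeff 1)) by
    rw [H, coeff_one_prod]
  intro P
  induction P using Polynomial.induction_on' with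
  | add p q hp hq => simp only [map_add, Polynomial.coeff_add, hp, hq]
  | monomial n a =>
    rw [show K (Polynomial.monomial n a) = (Polynomial.X : Polynomial S) ^ n • MvPolynomial.map (cT (A := A) S).toRingHom a by
      rw [smul_eq_C_mul, map_pow, mul_comm]; simp [K, cT]; rfl]
    rw [map_smul, ← Phi_compat, Polynomial.coeff_monomial]
    have : ∀ w : S ⊗[A] A, TensorProduct.rid A (Polynomial S)
        ((Polynomial.X : Polynomial S) ^ n • (cT S).toLinearMap.rTensor A w) =
        Polynomial.X ^ n * Polynomial.C (TensorProduct.rid A S w) := fun w => by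
      induction w using TensorProduct.induction_on with
      | zero => simp
      | tmul s a =>
        simp [TensorProduct.smul_tmul', cT]
        rw [← Polynomial.smul_C, smul_mul_assoc]
      | add a c ha hc => simp only [map_add, smul_add, ha, hc, mul_add]
    rw [this, Polynomial.coeff_X_pow_mul']
    by_cases hn : n = 1
    · subst hn; simp
    · rw [if_neg hn, map_zero, map_zero]
      split_ifs with h
      · obtain rfl : n = 0 := by omega
        simp [Polynomial.coeff_C]
      · rfl

theorem dF_add (x z z' : S ⊗[A] B) : dF F S x (z + z') = dF F S x z + dF F S x z' := by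
  obtain ⟨y, rfl⟩ := prB_surjective (A := A) (B := B) S x
  obtain ⟨q, rfl⟩ := prB_surjective (A := A) (B := B) S z
  obtain ⟨q', rfl⟩ := prB_surjective (A := A) (B := B) S z'
  rw [← map_add, dF_prB, dF_prB, dF_prB, ← map_add, ← map_add, ← Finset.sum_add_distrib]
  simp only [map_add, add_mul]

open MvPolynomial in
theorem dF_smul (x z : S ⊗[A] B) (s : S) : dF F S x (s • z) = s * dF F S x z := by
  obtain ⟨y, rfl⟩ := prB_surjective (A := A) (B := B) S x
  obtain ⟨q, rfl⟩ := prB_surjective (A := A) (B := B) S z
  rw [← map_smul, dF_prB, dF_prB]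
  simp only [map_smul, smul_mul_assoc, ← Finset.smul_sum]
  exact (map_smul (Algebra.TensorProduct.rid A S S) s _).trans (smul_eq_mul _ _)

theorem line_eq_C (x z : S ⊗[A] B)
    (h : F.law.toFun' (Polynomial S) ((cT S).toLinearMap.rTensor B x + (Polynomial.X : Polynomial S) • (cT S).toLinearMap.rTensor B z) =
      F.law.toFun' (Polynomial S) ((cT S).toLinearMap.rTensor B x)) :
    line F S x z = Polynomial.C (TensorProduct.rid A S (F.law.toFun' S x)) := by
  rw [line, h, ← PolynomialLaw.isCompat_apply' (f := F.law) (cT S), rid_natural]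
  rfl

theorem dF_line (x z : S ⊗[A] B) :
    dF F (Polynomial S) ((cT S).toLinearMap.rTensor B x + (Polynomial.X : Polynomial S) • (cT S).toLinearMap.rTensor B z)
      ((cT S).toLinearMap.rTensor B z) = Polynomial.derivative (line F S x z) := by
  let j : Polynomial S →ₐ[A] Polynomial (Polynomial S) :=
    (Polynomial.aeval (Polynomial.X + Polynomial.C Polynomial.X) : Polynomial S →ₐ[S] Polynomial (Polynomial S)).restrictScalars A
  have hj : ∀ w : S ⊗[A] B, j.toLinearMap.rTensor B ((cT S).toLinearMap.rTensor B w) =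
      (cT (A := A) (Polynomial S)).toLinearMap.rTensor B ((cT S).toLinearMap.rTensor B w) := fun w => by
    rw [← LinearMap.rTensor_comp_apply, ← LinearMap.rTensor_comp_apply]
    congr 2
    refine LinearMap.ext fun s => ?_
    show j (Polynomial.C s) = Polynomial.C (Polynomial.C s)
    simp [j]
  have hline : line F (Polynomial S) ((cT S).toLinearMap.rTensor B x + (Polynomial.X : Polynomial S) • (cT S).toLinearMap.rTensor B z)
      ((cT S).toLinearMap.rTensor B z) = j (line F S x z) := by
    rw [line, line, show j (TensorProduct.rid A (Polynomial S) _) = j.toLinearMap (TensorProduct.rid A (Polynomial S) _) from rfl,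
      ← rid_natural, PolynomialLaw.isCompat_apply' (f := F.law) j]
    congr 2
    simp only [map_add, rTensor_smul_poly, hj]
    rw [show j (Polynomial.X : Polynomial S) = Polynomial.X + Polynomial.C Polynomial.X by simp [j], add_smul,
      show (cT (A := A) (Polynomial S)) (Polynomial.X : Polynomial S) = Polynomial.C Polynomial.X from rfl]
    abel
  rw [dF, hline]
  generalize line F S x z = p
  induction p using Polynomial.induction_on' with
  | add p q hp hq => simp only [map_add, Polynomial.coeff_add, hp, hq]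
  | monomial n a =>
    rw [show j (Polynomial.monomial n a) = Polynomial.C (Polynomial.C a) * (Polynomial.X + Polynomial.C Polynomial.X) ^ n by
      simp [j], Polynomial.coeff_C_mul, Polynomial.coeff_X_add_C_pow, Polynomial.derivative_monomial, Nat.choose_one_right,
      ← Polynomial.C_mul_X_pow_eq_monomial, map_mul, map_natCast]
    ring

theorem fix_of_dF [Algebra ℚ A] (z x : S ⊗[A] B)
    (h : ∀ x' : Polynomial S ⊗[A] B, dF F (Polynomial S) x' ((cT S).toLinearMap.rTensor B z) = 0) :
    F.law.toFun' S (x + z) = F.law.toFun' S x := by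
  have hd : Polynomial.derivative (line F S x z) = 0 := by rw [← dF_line]; exact h _
  have hc : ∀ k, (line F S x z).coeff (k + 1) = 0 := fun k => by
    have h1 := congrArg (fun p => Polynomial.coeff p k) hd
    simp only [Polynomial.coeff_derivative, Polynomial.coeff_zero] at h1
    have hu : IsUnit (((k + 1 : ℕ) : S)) := by
      have := ((isUnit_iff_ne_zero.mpr (Nat.cast_ne_zero.mpr (Nat.succ_ne_zero k)) : IsUnit ((k + 1 : ℕ) : ℚ)).map
        ((algebraMap A S).comp (algebraMap ℚ A)))
      simpa using this
    refine hu.mul_left_eq_zero.mp ?_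
    rw [Nat.cast_succ]; exact h1
  have hev : ∀ s : S, Polynomial.eval s (line F S x z) = TensorProduct.rid A S (F.law.toFun' S (x + s • z)) := fun s => by
    let e : Polynomial S →ₐ[A] S := (Polynomial.aeval s : Polynomial S →ₐ[S] S).restrictScalars A
    have he : ∀ w : S ⊗[A] B, e.toLinearMap.rTensor B ((cT S).toLinearMap.rTensor B w) = w := fun w => by
      rw [← LinearMap.rTensor_comp_apply, show e.toLinearMap ∘ₗ (cT S).toLinearMap = LinearMap.id from
        LinearMap.ext fun a => by simp [e, cT], LinearMap.rTensor_id, LinearMap.id_apply]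
    have hh : e.toLinearMap (line F S x z) = TensorProduct.rid A S (F.law.toFun' S (x + s • z)) := by
      rw [line, ← rid_natural, PolynomialLaw.isCompat_apply' (f := F.law) e, map_add, rTensor_smul_poly, he, he]
      simp [e]
    rw [← hh]; simp [e, Polynomial.coe_aeval_eq_eval]
  apply (TensorProduct.rid A S).injective
  have hdeg : line F S x z = Polynomial.C ((line F S x z).coeff 0) := Polynomial.ext fun k => by
    rcases k with _ | k
    · simp
    · rw [hc, Polynomial.coeff_C_succ]
  have e1 := hev 1
  have e0 := hev 0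
  rw [one_smul, hdeg, Polynomial.eval_C] at e1
  rw [zero_smul, add_zero, hdeg, Polynomial.eval_C] at e0
  rw [← e1, ← e0]

end derivative

section char0

variable [Algebra ℚ A] {n : ℕ} (g : Fin n → B)

/-- The linear test. -/
noncomputable def test (A' : Type u) [CommRing A'] [Algebra A A'] (b' : A' ⊗[A] B) : GR A' n :=
  dF F (GR A' n) (gx A' g)
    (gw A' g * Algebra.TensorProduct.map (IsScalarTower.toAlgHom A A' (GR A' n)) (AlgHom.id A B) b')

variable {g}

theorem mem_kerBC_iff_test (hg : Submodule.span A (Set.range g) = ⊤) (A' : Type u) [CommRing A'] [Algebra A A']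
    (b' : A' ⊗[A] B) : b' ∈ PolLaw.kerBC F.law A' ↔ test F g A' b' = 0 := by
  constructor
  · intro h
    let R := Polynomial (GR A' n)
    have e : ∀ z, (cT (A := A) (GR A' n)).toLinearMap.rTensor B
        (Algebra.TensorProduct.map (IsScalarTower.toAlgHom A A' (GR A' n)) (AlgHom.id A B) z) =
        Algebra.TensorProduct.map (IsScalarTower.toAlgHom A A' R) (AlgHom.id A B) z := fun z => by
      rw [rTensor_eq_map, ← AlgHom.comp_apply, ← Algebra.TensorProduct.map_comp, AlgHom.comp_id]
      rfl
    have hmul : ∀ w v : GR A' n ⊗[A] B, (cT (A := A) (GR A' n)).toLinearMap.rTensor B (w * v) =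
        (cT (A := A) (GR A' n)).toLinearMap.rTensor B w * (cT (A := A) (GR A' n)).toLinearMap.rTensor B v := fun w v => by
      simp only [rTensor_eq_map, map_mul]
    rw [test, dF, line_eq_C F _ _ (by rw [hmul, e, ← smul_mul_assoc]; exact h R _ _)]
    exact Polynomial.coeff_C_succ
  · intro h R _ _ _ _ x w
    letI : CommRing R := { (inferInstance : CommSemiring R), Algebra.semiringToRing A (A := R) with }
    refine fix_of_dF F _ x fun x' => ?_
    let R' := Polynomial R
    have hspan : ∀ z : R' ⊗[A] B, ∃ s : Fin n → R', z = ∑ i, s i ⊗ₜ[A] g i := fun z => by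
      induction z using TensorProduct.induction_on with
      | zero => exact ⟨0, by simp⟩
      | tmul r b =>
        obtain ⟨c, rfl⟩ := (Submodule.mem_span_range_iff_exists_fun A).mp (hg ▸ (Submodule.mem_top : b ∈ ⊤))
        exact ⟨fun i => c i • r, by simp [TensorProduct.tmul_sum, TensorProduct.smul_tmul]⟩
      | add a b ha hb =>
        obtain ⟨s, rfl⟩ := ha
        obtain ⟨t, rfl⟩ := hb
        exact ⟨s + t, by simp [TensorProduct.add_tmul, Finset.sum_add_distrib]⟩
    obtain ⟨s, rfl⟩ := hspan x'
    obtain ⟨t, ht⟩ := hspan ((cT R).toLinearMap.rTensor B w)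
    let h' : GR A' n →ₐ[A'] R' := MvPolynomial.aeval fun v => Sum.elim s t v.down
    let h0 : GR A' n →ₐ[A] R' := h'.restrictScalars A
    have hx : h0.toLinearMap.rTensor B (gx A' g) = ∑ i, s i ⊗ₜ[A] g i := by simp [gx, h0, h']
    have hw : h0.toLinearMap.rTensor B (gw A' g) = ∑ i, t i ⊗ₜ[A] g i := by simp [gw, h0, h']
    have e : h0.comp (IsScalarTower.toAlgHom A A' (GR A' n)) = (cT R).comp (IsScalarTower.toAlgHom A A' R) := by
      refine AlgHom.ext fun a => ?_
      show h' (algebraMap A' (GR A' n) a) = Polynomial.C (algebraMap A' R a)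
      rw [h'.commutes]; rfl
    have h1 := map_dF F h0 (gx A' g)
      (gw A' g * Algebra.TensorProduct.map (IsScalarTower.toAlgHom A A' (GR A' n)) (AlgHom.id A B) b')
    rw [show dF F (GR A' n) (gx A' g) _ = test F g A' b' from rfl, h, map_zero, hx, rTensor_eq_map B h0, map_mul,
      ← rTensor_eq_map B h0, hw, ← ht, ← AlgHom.comp_apply, ← Algebra.TensorProduct.map_comp, AlgHom.comp_id, e] at h1
    rw [rTensor_eq_map B (cT R), map_mul, ← rTensor_eq_map B (cT R), ← AlgHom.comp_apply,
      ← Algebra.TensorProduct.map_comp, AlgHom.comp_id]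
    exact h1.symm

theorem test_add (A' : Type u) [CommRing A'] [Algebra A A'] (x y : A' ⊗[A] B) :
    test F g A' (x + y) = test F g A' x + test F g A' y := by
  rw [test, map_add, mul_add, dF_add]; rfl

theorem test_natural {A' A'' : Type u} [CommRing A'] [Algebra A A'] [CommRing A''] [Algebra A A''] (φ : A' →ₐ[A] A'')
    (b' : A' ⊗[A] B) :
    MvPolynomial.mapAlgHom φ (test F g A' b') = test F g A'' (Algebra.TensorProduct.map φ (AlgHom.id A B) b') := by
  set h0 : GR A' n →ₐ[A] GR A'' n := MvPolynomial.mapAlgHom φ with hh0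
  have hx : h0.toLinearMap.rTensor B (gx A' g) = gx A'' g := by simp [gx, hh0]
  have hw : h0.toLinearMap.rTensor B (gw A' g) = gw A'' g := by simp [gw, hh0]
  have e : h0.comp (IsScalarTower.toAlgHom A A' (GR A' n)) = (IsScalarTower.toAlgHom A A'' (GR A'' n)).comp φ := by
    ext a; simp [hh0, MvPolynomial.algebraMap_eq]
  rw [test, test, map_dF F h0, hx, rTensor_eq_map B h0, map_mul, ← rTensor_eq_map B h0, hw, ← AlgHom.comp_apply,
    ← Algebra.TensorProduct.map_comp, AlgHom.comp_id, e, ← AlgHom.comp_apply, ← Algebra.TensorProduct.map_comp,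
    AlgHom.comp_id]

theorem test_tmul (A' : Type u) [CommRing A'] [Algebra A A'] (a : A') (b : B) :
    test F g A' (a ⊗ₜ[A] b) = a • test F g A' ((1 : A') ⊗ₜ[A] b) := by
  rw [test, test, Algebra.TensorProduct.map_tmul, Algebra.TensorProduct.map_tmul,
    show (IsScalarTower.toAlgHom A A' (GR A' n) a) ⊗ₜ[A] (AlgHom.id A B b) =
      (IsScalarTower.toAlgHom A A' (GR A' n) a) • ((IsScalarTower.toAlgHom A A' (GR A' n) 1) ⊗ₜ[A] (AlgHom.id A B b)) by
      rw [TensorProduct.smul_tmul', smul_eq_mul, map_one, mul_one],
    mul_smul_comm, dF_smul, Algebra.smul_def]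
  rfl

/-- The test over the base, as a linear map. -/
noncomputable def testLin : B →ₗ[A] GR A n where
  toFun b := test F g A ((1 : A) ⊗ₜ[A] b)
  map_add' x y := by rw [TensorProduct.tmul_add, test_add]
  map_smul' a b := by
    rw [RingHom.id_apply, TensorProduct.tmul_smul, TensorProduct.smul_tmul', test_tmul, smul_eq_mul, mul_one]

theorem map_ker_eq_kerBC_flat [Module.Finite A B] (A' : Type u) [CommRing A'] [Algebra A A'] [Module.Flat A A'] :
    (PolLaw.ker F.law).map (Algebra.TensorProduct.includeRight : B →ₐ[A] A' ⊗[A] B) = PolLaw.kerBC F.law A' := by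
  classical
  refine le_antisymm (map_ker_le_kerBC F.law A') fun b' hb => ?_
  obtain ⟨n, g, hg⟩ := exists_gen (A := A) (B := B)
  let L := testLin F (g := g)
  let e : A' ⊗[A] GR A n ≃ₐ[A'] GR A' n := MvPolynomial.algebraTensorAlgEquiv A A'
  have key : ∀ z : A' ⊗[A] B, e (L.lTensor A' z) = test F g A' z := fun z => by
    induction z using TensorProduct.induction_on with
    | zero =>
      rw [map_zero, map_zero, eq_comm]
      have := test_add F (g := g) A' 0 0
      rw [add_zero] at this
      exact left_eq_add.mp this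
    | add x y hx hy => rw [map_add, map_add, hx, hy, test_add]
    | tmul a b =>
      rw [LinearMap.lTensor_tmul, MvPolynomial.algebraTensorAlgEquiv_tmul, test_tmul F A' a b]
      congr 1
      rw [show (1 : A') ⊗ₜ[A] b = Algebra.TensorProduct.map (Algebra.ofId A A') (AlgHom.id A B) ((1 : A) ⊗ₜ[A] b) by simp,
        ← test_natural]
      rfl
  have h0 : L.lTensor A' b' = 0 := e.injective (by rw [key, map_zero]; exact (mem_kerBC_iff_test F hg A' b').mp hb)
  have hex : Function.Exact (LinearMap.ker L).subtype L := fun x =>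
    ⟨fun hx => ⟨⟨x, hx⟩, rfl⟩, fun ⟨y, hy⟩ => by rw [← hy]; exact y.2⟩
  obtain ⟨z, rfl⟩ := ((Module.Flat.lTensor_exact A' hex) b').mp h0
  clear hb h0
  induction z using TensorProduct.induction_on with
  | zero => simp
  | add x y hx hy => rw [map_add]; exact add_mem hx hy
  | tmul a k =>
    rw [LinearMap.lTensor_tmul, Submodule.subtype_apply,
      show a ⊗ₜ[A] k.1 = (a ⊗ₜ[A] (1 : B)) * (Algebra.TensorProduct.includeRight : B →ₐ[A] A' ⊗[A] B) k.1 by simp]
    refine Ideal.mul_mem_left _ _ (Ideal.mem_map_of_mem _ fun S _ _ x w => ?_)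
    letI : CommRing S := { (inferInstance : CommSemiring S), Algebra.semiringToRing A (A := S) with }
    have h1 : (1 : A) ⊗ₜ[A] k.1 ∈ PolLaw.kerBC F.law A := (mem_kerBC_iff_test F hg A _).mpr k.2
    simpa using h1 S x w

end char0

end Groth.Agent.PolLawLib
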