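import Mathlib
import Groth.Prelude.Def_PolLaw

/-! # The law `x ↦ x ^ p` in characteristic `p` -/

set_option autoImplicit false

universe u
open scoped TensorProduct

namespace Groth.Agent.PolLawLib

theorem add_pow_of_natCast_eq_zero {R : Type u} [CommSemiring R] {p : ℕ} (hp : p.Prime) (h : (p : R) = 0) (x y : R) :
    (x + y) ^ p = x ^ p + y ^ p := by
  obtain ⟨r, hr⟩ := exists_add_pow_prime_eq hp x y
  rw [hr, h, zero_mul, zero_mul, zero_mul, add_zero]

variable {A B : Type u} [CommRing A] [CommRing B] [Algebra A B]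

theorem natCast_tensor_eq_zero {p : ℕ} (h : (p : A) = 0) (S : Type u) [CommSemiring S] [Algebra A S] :
    (p : S ⊗[A] B) = 0 := by
  rw [← map_natCast (algebraMap A (S ⊗[A] B)) p, h, map_zero]

theorem powLaw_toFun' (d : ℕ) (S : Type u) [CommSemiring S] [Algebra A S] (x : S ⊗[A] B) :
    (PolLaw.MulLaw.pow A B d).law.toFun' S x = x ^ d := rfl

/-- `b ^ p = 0` puts `b` in the kernel of the `p`-th power law in characteristic `p`. -/
theorem mem_ker_powLaw {p : ℕ} (hp : p.Prime) (h : (p : A) = 0) {b : B} (hb : b ^ p = 0) :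
    b ∈ PolLaw.ker (PolLaw.MulLaw.pow A B p).law := by
  intro S _ _ x w
  rw [powLaw_toFun', powLaw_toFun', add_pow_of_natCast_eq_zero hp (natCast_tensor_eq_zero h S), mul_pow,
    Algebra.TensorProduct.tmul_pow, hb, TensorProduct.tmul_zero, mul_zero, add_zero]

theorem pow_eq_zero_of_mem_ker_powLaw {p : ℕ} (hp : p ≠ 0) {b : B}
    (hb : b ∈ PolLaw.ker (PolLaw.MulLaw.pow A B p).law) : b ^ p = 0 := by
  have h := hb A 0 1
  rw [powLaw_toFun', powLaw_toFun', zero_add, one_mul, zero_pow hp, Algebra.TensorProduct.tmul_pow, one_pow] at h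
  simpa using congrArg (Algebra.TensorProduct.lid A B) h

end Groth.Agent.PolLawLib
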