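import Mathlib
import Groth.Prelude.Def_PolLaw

/-!
# When is `Γ^d(M)` spanned by the `γ_d(m)`?
-/

set_option autoImplicit false

universe u
open DividedPowerAlgebra

namespace Groth.Agent.PolLawLib

variable {A : Type u} [CommRing A] {M : Type u} [AddCommGroup M] [Module A M]

variable (A M) in
/-- The span of the `d`-th divided powers. -/
noncomputable def spanDp (d : ℕ) : Submodule A (DividedPowerAlgebra A M) :=
  Submodule.span A (Set.range (dp A d : M → DividedPowerAlgebra A M))

theorem spanDp_le (d : ℕ) : spanDp A M d ≤ PolLaw.gammaPiece A M d := by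
  refine Submodule.span_le.2 ?_
  rintro _ ⟨m, rfl⟩
  exact Submodule.subset_span ⟨1, fun _ => d, fun _ => m, by simp, by simp⟩

/-- The elements that lie in a submodule locally at a prime. -/
def nearSub {E : Type u} [AddCommGroup E] [Module A E] (p : Ideal A) [p.IsPrime] (N : Submodule A E) : Submodule A E where
  carrier := {z | ∃ s, s ∉ p ∧ s • z ∈ N}
  zero_mem' := ⟨1, p.ne_top_iff_one.mp ‹p.IsPrime›.ne_top, by simp⟩
  add_mem' := by
    rintro x y ⟨s, hs, hsx⟩ ⟨t, ht, hty⟩
    refine ⟨s * t, fun h => (‹p.IsPrime›.mem_or_mem h).elim hs ht, ?_⟩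
    rw [smul_add]
    refine N.add_mem ?_ ?_
    · rw [mul_comm, mul_smul]; exact N.smul_mem _ hsx
    · rw [mul_smul]; exact N.smul_mem _ hty
  smul_mem' := by
    rintro c x ⟨s, hs, hsx⟩
    exact ⟨s, hs, by rw [smul_comm]; exact N.smul_mem _ hsx⟩

theorem le_nearSub {E : Type u} [AddCommGroup E] [Module A E] (p : Ideal A) [p.IsPrime] (N : Submodule A E) :
    N ≤ nearSub p N := fun x hx => ⟨1, p.ne_top_iff_one.mp ‹p.IsPrime›.ne_top, by simpa using hx⟩

theorem mem_of_forall_nearSub {E : Type u} [AddCommGroup E] [Module A E] (N : Submodule A E) {x : E}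
    (h : ∀ (p : Ideal A) [p.IsPrime], x ∈ nearSub p N) : x ∈ N := by
  let J : Ideal A := N.comap (LinearMap.toSpanSingleton A E x)
  have hJ : J = ⊤ := by
    by_contra hne
    obtain ⟨m, hm, hle⟩ := Ideal.exists_le_maximal J hne
    haveI := hm.isPrime
    obtain ⟨s, hs, hsx⟩ := h m
    exact hs (hle hsx)
  have : (1 : A) ∈ J := hJ ▸ trivial
  simpa [J] using this

theorem nearSub_nearSub {E : Type u} [AddCommGroup E] [Module A E] (p : Ideal A) [p.IsPrime] (N : Submodule A E) :
    nearSub p (nearSub p N) ≤ nearSub p N := by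
  rintro x ⟨s, hs, t, ht, h⟩
  exact ⟨t * s, fun h => (‹p.IsPrime›.mem_or_mem h).elim ht hs, by rw [mul_smul]; exact h⟩

section pair

open Matrix in
theorem mul_mem_nearSub (p : Ideal A) [p.IsPrime] {d : ℕ} (a : Fin d → A)
    (ha : ∀ i j, a i - a j ∈ p → i = j) (x y : M) {i j : ℕ} (hij : i + j = d) :
    dp A i x * dp A j y ∈ nearSub p (spanDp A M d) := by
  classical
  rcases j with _ | j
  · rw [dp_zero, mul_one]; exact le_nearSub p _ (Submodule.subset_span ⟨x, by rw [← hij, add_zero]⟩)
  rcases i with _ | i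
  · rw [dp_zero, one_mul]; exact le_nearSub p _ (Submodule.subset_span ⟨y, by rw [← hij, zero_add]⟩)
  let Y : Fin (i + 1 + j) → DividedPowerAlgebra A M := fun c => dp A (d - (c.1 + 1)) x * dp A (c.1 + 1) y
  have hd : d = i + 1 + j + 1 := by omega
  subst hd
  let e : Fin (i + 1 + j) → A := fun r => a r.succ - a 0
  let V : Matrix (Fin (i + 1 + j)) (Fin (i + 1 + j)) A := Matrix.of fun r c => e r ^ (c.1 + 1)
  have hV : V.det ∉ p := by
    have : V = Matrix.of fun r c => e r * Matrix.vandermonde e r c := by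
      ext r c; simp [V, Matrix.vandermonde_apply, pow_succ']
    rw [this, Matrix.det_mul_column, Matrix.det_vandermonde]
    intro h
    rcases ‹p.IsPrime›.mem_or_mem h with h | h
    · obtain ⟨r, -, hr⟩ := Ideal.IsPrime.prod_mem_iff.mp h
      exact Fin.succ_ne_zero r (ha _ _ hr)
    · obtain ⟨r, -, hr⟩ := Ideal.IsPrime.prod_mem_iff.mp h
      obtain ⟨c, hc, hrc⟩ := Ideal.IsPrime.prod_mem_iff.mp hr
      rw [show e c - e r = a c.succ - a r.succ by simp [e]] at hrc
      exact (Finset.mem_Ioi.mp hc).ne' (Fin.succ_inj.mp (ha _ _ hrc))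
  have hsum : ∀ r, ∑ c, V r c • Y c ∈ spanDp A M (i + 1 + j + 1) := fun r => by
    have h := (dp_add (R := A) (n := i + 1 + j + 1) (x := x) (y := e r • y))
    rw [← Finset.Nat.sum_antidiagonal_swap, Finset.Nat.sum_antidiagonal_eq_sum_range_succ_mk, Finset.sum_range_succ,
      Finset.sum_range_succ'] at h
    simp only [Prod.swap_prod_mk, dp_zero, mul_one, Nat.sub_zero, Nat.sub_self, one_mul] at h
    have h2 : ∑ c, V r c • Y c = dp A (i + 1 + j + 1) (x + e r • y) - dp A (i + 1 + j + 1) x - dp A (i + 1 + j + 1) (e r • y) := by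
      rw [h, Finset.sum_range (fun c => dp A (i + 1 + j + 1 - (c + 1)) x * dp A (c + 1) (e r • y))]
      simp only [V, Y, Matrix.of_apply, dp_smul, mul_smul_comm]
      abel
    rw [h2]
    exact Submodule.sub_mem _ (Submodule.sub_mem _ (Submodule.subset_span ⟨_, rfl⟩) (Submodule.subset_span ⟨_, rfl⟩))
      (Submodule.subset_span ⟨_, rfl⟩)
  refine ⟨V.det, hV, ?_⟩
  have key : V.det • Y ⟨j, by omega⟩ = ∑ r, V.adjugate ⟨j, by omega⟩ r • ∑ c, V r c • Y c := by
    simp only [Finset.smul_sum, smul_smul]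
    rw [Finset.sum_comm]
    simp only [← Finset.sum_smul, ← Matrix.mul_apply, Matrix.adjugate_mul, Matrix.smul_apply, Matrix.one_apply, smul_eq_mul,
      mul_ite, mul_one, mul_zero, ite_smul, zero_smul, Finset.sum_ite_eq, Finset.mem_univ, if_true]
  have hY : Y ⟨j, by omega⟩ = dp A (i + 1) x * dp A (j + 1) y := by
    simp only [Y]; congr 2; omega
  rw [← hY, key]
  exact Submodule.sum_mem _ fun r _ => Submodule.smul_mem _ _ (hsum r)

theorem prod_mem_nearSub (p : Ideal A) [p.IsPrime] : ∀ (n d : ℕ) (_ : ∀ d' ≤ d, ∃ a : Fin d' → A, ∀ i j, a i - a j ∈ p → i = j)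
    (k : Fin n → ℕ) (m : Fin n → M), (∑ i, k i) = d → ∏ i, dp A (k i) (m i) ∈ nearSub p (spanDp A M d) := by
  intro n
  induction n with
  | zero =>
    intro d _ k m hd
    rw [Fin.sum_univ_zero] at hd
    subst hd
    rw [Fin.prod_univ_zero]
    exact le_nearSub p _ (Submodule.subset_span ⟨0, dp_zero⟩)
  | succ n ih =>
    intro d ha k m hd
    rw [Fin.sum_univ_succ] at hd
    rw [Fin.prod_univ_succ]
    obtain ⟨s, hs, hrest⟩ := ih (∑ i : Fin n, k i.succ) (fun d' h => ha d' (h.trans (by omega))) (fun i => k i.succ)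
      (fun i => m i.succ) rfl
    refine nearSub_nearSub p _ ⟨s, hs, ?_⟩
    rw [← mul_smul_comm]
    revert hrest
    generalize s • ∏ i : Fin n, dp A (k i.succ) (m i.succ) = z
    intro hz
    induction hz using Submodule.span_induction with
    | mem w hw =>
      obtain ⟨y, rfl⟩ := hw
      obtain ⟨a, ha⟩ := ha d le_rfl
      exact mul_mem_nearSub p a ha _ _ hd
    | zero => rw [mul_zero]; exact Submodule.zero_mem _
    | add u v _ _ hu hv => rw [mul_add]; exact Submodule.add_mem _ hu hv
    | smul c u _ hu => rw [mul_smul_comm]; exact Submodule.smul_mem _ _ hu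

end pair

theorem exists_distinct (p : PrimeSpectrum A) (d : ℕ) (h : (d : Cardinal) ≤ Cardinal.mk p.asIdeal.ResidueField) :
    ∀ d' ≤ d, ∃ a : Fin d' → A, ∀ i j, a i - a j ∈ p.asIdeal → i = j := by
  intro d' hd'
  have hcard : (d' : Cardinal) ≤ Cardinal.mk (A ⧸ p.asIdeal) := by
    rcases finite_or_infinite (A ⧸ p.asIdeal) with hf | hf
    · haveI := hf
      haveI : p.asIdeal.IsMaximal := Ideal.Quotient.maximal_of_isField _ (Finite.isField_of_domain _)
      rw [Cardinal.mk_congr (Equiv.ofBijective _ p.asIdeal.bijective_algebraMap_quotient_residueField)]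
      exact (Nat.cast_le.mpr hd').trans h
    · exact (Cardinal.nat_lt_aleph0 d').le.trans (Cardinal.aleph0_le_mk _)
  obtain ⟨f⟩ : Nonempty (Fin d' ↪ A ⧸ p.asIdeal) := by
    rw [← Cardinal.lift_mk_le']
    simpa using hcard
  choose a ha using fun i => Ideal.Quotient.mk_surjective (f i)
  exact ⟨a, fun i j hij => f.injective (by rw [← ha i, ← ha j]; exact Ideal.Quotient.eq.mpr hij)⟩

theorem span_eq_piece (d : ℕ)
    (h : ∀ p : PrimeSpectrum A, (d : Cardinal) ≤ Cardinal.mk p.asIdeal.ResidueField ∨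
      ∃ x : LocalizedModule p.asIdeal.primeCompl M, Submodule.span (Localization.AtPrime p.asIdeal) {x} = ⊤) :
    spanDp A M d = PolLaw.gammaPiece A M d := by
  classical
  refine le_antisymm (spanDp_le d) (Submodule.span_le.2 ?_)
  rintro _ ⟨n, k, m, hk, rfl⟩
  refine mem_of_forall_nearSub _ fun q hq => ?_
  rcases h ⟨q, hq⟩ with hcard | ⟨x, hx⟩
  · exact prod_mem_nearSub q n d (exists_distinct ⟨q, hq⟩ d hcard) k m hk
  · induction x using LocalizedModule.induction_on with
    | h m0 s0 =>
      have hgen : ∀ i, ∃ (t : A) (_ : t ∉ q) (c : A), t • m i = c • m0 := fun i => by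
        obtain ⟨r, hr⟩ := Submodule.mem_span_singleton.mp
          (hx ▸ Submodule.mem_top : LocalizedModule.mk (m i) (1 : q.primeCompl) ∈ Submodule.span (Localization.AtPrime q) {LocalizedModule.mk m0 s0})
        obtain ⟨c, t, rfl⟩ := IsLocalization.exists_mk'_eq q.primeCompl r
        rw [← Localization.mk_eq_mk', LocalizedModule.mk_smul_mk, LocalizedModule.mk_eq] at hr
        obtain ⟨w, hw⟩ := hr
        refine ⟨(w : A) * (t * s0 : q.primeCompl), (w * (t * s0)).2, (w : A) * c, ?_⟩
        simp only [one_smul, Submonoid.smul_def] at hw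
        rw [mul_smul, ← hw, mul_smul]
      choose t ht c hc using hgen
      refine ⟨∏ i, t i ^ k i, fun hmem => ?_, ?_⟩
      · obtain ⟨i, -, hi⟩ := Ideal.IsPrime.prod_mem_iff.mp hmem
        exact ht i (hq.mem_of_pow_mem _ hi)
      · rw [← Finset.prod_smul]
        simp only [← dp_smul, hc]
        simp only [dp_smul]
        rw [Finset.prod_smul, prod_dp, hk, ← nsmul_eq_mul]
        exact Submodule.smul_mem _ _ (Submodule.smul_of_tower_mem _ _ (Submodule.subset_span ⟨m0, rfl⟩))

theorem span_eq_piece_of_vandermonde (d : ℕ) (T : A)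
    (hT : IsUnit (∏ j ∈ Finset.range (d + 1), ∏ i ∈ Finset.range j, (T ^ i - T ^ j))) :
    spanDp A M d = PolLaw.gammaPiece A M d := by
  refine span_eq_piece d fun p => Or.inl ?_
  let f : Fin d → p.asIdeal.ResidueField := fun i => algebraMap A _ (T ^ i.1)
  have hf : Function.Injective f := fun i j hij => by
    by_contra hne
    have key : ∀ i j : Fin d, i.1 < j.1 → f i ≠ f j := fun i j hlt he => by
      have hm : T ^ i.1 - T ^ j.1 ∈ p.asIdeal := by
        rw [← Ideal.algebraMap_residueField_eq_zero, map_sub, sub_eq_zero]; exact he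
      refine p.2.ne_top (Ideal.eq_top_of_isUnit_mem _ ?_ hT)
      exact Ideal.IsPrime.prod_mem_iff.mpr ⟨j.1, Finset.mem_range.mpr (by omega),
        Ideal.IsPrime.prod_mem_iff.mpr ⟨i.1, Finset.mem_range.mpr hlt, hm⟩⟩
    rcases lt_or_gt_of_ne (fun e => hne (Fin.ext e)) with h | h
    · exact key i j h hij
    · exact key j i h hij.symm
  have := Cardinal.lift_mk_le'.mpr ⟨(⟨f, hf⟩ : Fin d ↪ p.asIdeal.ResidueField)⟩
  simpa using this

section converse

open Polynomial

variable {κ : Type u} [Field κ]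

/-- Translation `X ↦ X + T v`. -/
noncomputable def sub (v : Fin 2 → κ) : MvPolynomial (Fin 2) κ →ₐ[κ] Polynomial (MvPolynomial (Fin 2) κ) :=
  MvPolynomial.aeval fun k => C (MvPolynomial.X k) + C (MvPolynomial.C (v k)) * X

/-- The `n`-th directional Hasse derivative. -/
noncomputable def hasse (n : ℕ) (v : Fin 2 → κ) : Module.End κ (MvPolynomial (Fin 2) κ) :=
  (lcoeff (MvPolynomial (Fin 2) κ) n).restrictScalars κ ∘ₗ (sub v).toLinearMap

theorem hasse_apply (n : ℕ) (v : Fin 2 → κ) (p : MvPolynomial (Fin 2) κ) : hasse n v p = (sub v p).coeff n := rfl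

/-- Double translation. -/
noncomputable def sub2 (u v : Fin 2 → κ) : MvPolynomial (Fin 2) κ →ₐ[κ] Polynomial (Polynomial (MvPolynomial (Fin 2) κ)) :=
  (Polynomial.mapAlgHom (sub u)).comp (sub v)

theorem coeff_sub2 (u v : Fin 2 → κ) (p : MvPolynomial (Fin 2) κ) (i j : ℕ) :
    ((sub2 u v p).coeff j).coeff i = hasse i u (hasse j v p) := by
  simp [sub2, hasse_apply, Polynomial.coe_mapAlgHom, Polynomial.coeff_map]

theorem sub2_X (u v : Fin 2 → κ) (k : Fin 2) : sub2 u v (MvPolynomial.X k) =
    C (C (MvPolynomial.X k)) + C (C (MvPolynomial.C (u k)) * X) + C (C (MvPolynomial.C (v k))) * X := by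
  simp [sub2, sub, Polynomial.coe_mapAlgHom, MvPolynomial.algebraMap_eq]

/-- Exchange of the two variables. -/
noncomputable def swp {R : Type u} [CommRing R] : Polynomial (Polynomial R) →+* Polynomial (Polynomial R) :=
  eval₂RingHom (mapRingHom C) (C X)

theorem coeff_swp {R : Type u} [CommRing R] (q : Polynomial (Polynomial R)) (i j : ℕ) :
    ((swp q).coeff j).coeff i = (q.coeff i).coeff j := by
  induction q using Polynomial.induction_on' with
  | add p q hp hq => simp [hp, hq]
  | monomial n r =>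
    rw [swp, coe_eval₂RingHom, eval₂_monomial, ← map_pow, coeff_mul_C, coe_mapRingHom, coeff_map, coeff_C_mul, coeff_X_pow]
    by_cases h : i = n
    · subst h; simp
    · simp [h, coeff_monomial, Ne.symm h]

theorem hasse_zero (v : Fin 2 → κ) : hasse 0 v = 1 := by
  refine LinearMap.ext fun p => ?_
  rw [hasse_apply, Module.End.one_apply, coeff_zero_eq_eval_zero]
  show ((Polynomial.evalRingHom (0 : MvPolynomial (Fin 2) κ)).comp (sub v).toRingHom) p = RingHom.id _ p
  congr 1
  refine MvPolynomial.ringHom_ext (fun r => ?_) fun k => ?_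
  · simp [sub, MvPolynomial.algebraMap_eq]
  · simp [sub]

theorem hasse_comm (i j : ℕ) (u v : Fin 2 → κ) : hasse i u * hasse j v = hasse j v * hasse i u := by
  refine LinearMap.ext fun p => ?_
  rw [Module.End.mul_apply, Module.End.mul_apply, ← coeff_sub2, ← coeff_sub2, ← coeff_swp]
  congr 2
  show (swp.comp (sub2 u v).toRingHom) p = (sub2 v u).toRingHom p
  refine (RingHom.congr_fun (MvPolynomial.ringHom_ext (fun r => ?_) fun k => ?_) p)
  · simp [sub2, sub, swp, MvPolynomial.algebraMap_eq]
  · simp only [AlgHom.toRingHom_eq_coe, RingHom.coe_coe, RingHom.comp_apply, sub2_X]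
    simp [swp]
    ring

theorem hasse_smul (n : ℕ) (c : κ) (v : Fin 2 → κ) : hasse n (c • v) = c ^ n • hasse n v := by
  refine LinearMap.ext fun p => ?_
  have h : sub (c • v) p = (sub v p).comp (C (MvPolynomial.C c) * X) := by
    show (sub (c • v)).toRingHom p = ((Polynomial.compRingHom (C (MvPolynomial.C c) * X)).comp (sub v).toRingHom) p
    refine RingHom.congr_fun (MvPolynomial.ringHom_ext (fun r => ?_) fun k => ?_) p
    · simp [sub, MvPolynomial.algebraMap_eq]
    · simp [sub]; ring
  rw [LinearMap.smul_apply, hasse_apply, hasse_apply, h, comp_C_mul_X_coeff, MvPolynomial.smul_eq_C_mul, map_pow, mul_comm]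

theorem coeff_eval_X {R : Type u} [CommRing R] (q : Polynomial (Polynomial R)) (n : ℕ) :
    (q.eval X).coeff n = ∑ x ∈ Finset.HasAntidiagonal.antidiagonal n, (q.coeff x.2).coeff x.1 := by
  induction q using Polynomial.induction_on' with
  | add p q hp hq => simp [hp, hq, Finset.sum_add_distrib]
  | monomial N r =>
    rw [eval_monomial, coeff_mul_X_pow']
    simp only [coeff_monomial, apply_ite (fun s : Polynomial R => s.coeff _), coeff_zero]
    split_ifs with h
    · rw [Finset.sum_eq_single (n - N, N)]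
      · simp
      · rintro ⟨a, b⟩ hb hne
        have hb' : a + b = n := Finset.HasAntidiagonal.mem_antidiagonal.mp hb
        rw [if_neg fun (e : N = b) => hne (Prod.ext (by dsimp only; omega) e.symm)]
        simp
      · intro h'; exact absurd (Finset.HasAntidiagonal.mem_antidiagonal.mpr (Nat.sub_add_cancel h)) h'
    · refine (Finset.sum_eq_zero fun x hx => ?_).symm
      have hx' : x.1 + x.2 = n := Finset.HasAntidiagonal.mem_antidiagonal.mp hx
      rw [if_neg fun (e : N = x.2) => h (by omega)]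
      simp

theorem hasse_add (n : ℕ) (u v : Fin 2 → κ) :
    hasse n (u + v) = ∑ x ∈ Finset.HasAntidiagonal.antidiagonal n, hasse x.1 u * hasse x.2 v := by
  refine LinearMap.ext fun p => ?_
  simp only [LinearMap.sum_apply, Module.End.mul_apply, ← coeff_sub2]
  rw [← coeff_eval_X, hasse_apply]
  congr 1
  show (sub (u + v)).toRingHom p = ((Polynomial.evalRingHom X).comp (sub2 u v).toRingHom) p
  refine RingHom.congr_fun (MvPolynomial.ringHom_ext (fun r => ?_) fun k => ?_) p
  · simp [sub2, sub, MvPolynomial.algebraMap_eq]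
  · simp only [AlgHom.toRingHom_eq_coe, RingHom.coe_coe, RingHom.comp_apply, sub2_X]
    simp [sub]
    ring

/-- `T ↦ T + T'`. -/
noncomputable def split2 {R : Type u} [CommRing R] : Polynomial R →+* Polynomial (Polynomial R) :=
  eval₂RingHom ((C : Polynomial R →+* _).comp C) (X + C X)

theorem coeff_split2 {R : Type u} [CommRing R] (q : Polynomial R) (i j : ℕ) :
    ((split2 q).coeff j).coeff i = (i + j).choose i • q.coeff (i + j) := by
  induction q using Polynomial.induction_on' with
  | add p q hp hq => simp [hp, hq]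
  | monomial N r =>
    rw [split2, coe_eval₂RingHom, eval₂_monomial, RingHom.comp_apply, coeff_C_mul, coeff_C_mul, coeff_X_add_C_pow,
      coeff_mul_natCast, coeff_X_pow, coeff_monomial]
    by_cases h : N = i + j
    · subst h
      rw [if_pos (by omega), if_pos rfl, nsmul_eq_mul, Nat.choose_symm_add]
      ring
    · by_cases hj : j ≤ N
      · rw [if_neg (by omega), if_neg h]; simp
      · rw [Nat.choose_eq_zero_of_lt (by omega), if_neg h]; simp

theorem hasse_mul (i j : ℕ) (v : Fin 2 → κ) : hasse i v * hasse j v = (i + j).choose i • hasse (i + j) v := by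
  refine LinearMap.ext fun p => ?_
  rw [Module.End.mul_apply, ← coeff_sub2, LinearMap.smul_apply, hasse_apply, ← coeff_split2]
  congr 2
  show (sub2 v v).toRingHom p = (split2.comp (sub v).toRingHom) p
  refine RingHom.congr_fun (MvPolynomial.ringHom_ext (fun r => ?_) fun k => ?_) p
  · simp [sub2, sub, split2, MvPolynomial.algebraMap_eq]
  · simp only [AlgHom.toRingHom_eq_coe, RingHom.coe_coe, RingHom.comp_apply, sub2_X]
    simp [sub, split2]
    ring

variable [Algebra A κ]

theorem exists_functional (p0 : MvPolynomial (Fin 2) κ) (π : M →ₗ[A] (Fin 2 → κ)) :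
    ∃ φ : DividedPowerAlgebra A M →ₗ[A] κ,
      (∀ n m, φ (dp A n m) = MvPolynomial.constantCoeff (hasse n (π m) p0)) ∧
      ∀ i j x y, φ (dp A i x * dp A j y) = MvPolynomial.constantCoeff (hasse i (π x) (hasse j (π y) p0)) := by
  let s : Set (Module.End κ (MvPolynomial (Fin 2) κ)) := Set.range fun x : ℕ × (Fin 2 → κ) => hasse x.1 x.2
  have hs : ∀ a ∈ s, ∀ b ∈ s, a * b = b * a := by
    rintro _ ⟨a, rfl⟩ _ ⟨b, rfl⟩; exact hasse_comm _ _ _ _
  letI : CommSemiring (Algebra.adjoin A s) :=
    { (inferInstance : Semiring (Algebra.adjoin A s)) with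
      mul_comm := (Algebra.isMulCommutative_adjoin A hs).is_comm.comm }
  let f : ℕ × M → Algebra.adjoin A s := fun x => ⟨hasse x.1 (π x.2), Algebra.subset_adjoin ⟨(x.1, π x.2), rfl⟩⟩
  let L : DividedPowerAlgebra A M →ₐ[A] Algebra.adjoin A s := DividedPowerAlgebra.lift' (f := f)
    (fun m => Subtype.ext (hasse_zero _))
    (fun n r m => Subtype.ext (by
      show hasse n (π (r • m)) = r ^ n • hasse n (π m)
      rw [map_smul, ← algebraMap_smul κ r (π m), hasse_smul, ← map_pow, algebraMap_smul]))
    (fun n q m => Subtype.ext (hasse_mul _ _ _))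
    (fun n u v => Subtype.ext (by
      show hasse n (π (u + v)) = ((Finset.HasAntidiagonal.antidiagonal n).sum fun x => f (x.1, u) * f (x.2, v) : Algebra.adjoin A s).1
      rw [map_add, hasse_add, AddSubmonoidClass.coe_finsetSum]
      rfl))
  let ev : Module.End κ (MvPolynomial (Fin 2) κ) →ₗ[A] κ :=
    { toFun := fun g => MvPolynomial.constantCoeff (g p0)
      map_add' := fun g h => by simp
      map_smul' := fun r g => by simp [MvPolynomial.constantCoeff_smul] }
  refine ⟨ev ∘ₗ (Algebra.adjoin A s).val.toLinearMap ∘ₗ L.toLinearMap, fun n m => ?_, fun i j x y => ?_⟩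
  · show ev (L (dp A n m)).1 = _
    rw [DividedPowerAlgebra.lift'_apply_dp]
    rfl
  · show ev (L (dp A i x * dp A j y)).1 = _
    rw [map_mul, DividedPowerAlgebra.lift'_apply_dp, DividedPowerAlgebra.lift'_apply_dp]
    rfl

theorem constantCoeff_hasse (n : ℕ) (v : Fin 2 → κ) (p : MvPolynomial (Fin 2) κ) :
    MvPolynomial.constantCoeff (hasse n v p) = (MvPolynomial.aeval (fun k => C (v k) * X) p : Polynomial κ).coeff n := by
  rw [hasse_apply, ← coeff_map]
  congr 1
  show ((mapRingHom MvPolynomial.constantCoeff).comp (sub v).toRingHom) p = (MvPolynomial.aeval fun k => C (v k) * X).toRingHom p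
  refine RingHom.congr_fun (MvPolynomial.ringHom_ext (fun r => ?_) fun k => ?_) p
  · simp [sub, MvPolynomial.algebraMap_eq]
  · simp [sub]

theorem constantCoeff_hasse₂ (i j : ℕ) (p : MvPolynomial (Fin 2) κ) :
    MvPolynomial.constantCoeff (hasse i (Pi.single 0 1) (hasse j (Pi.single 1 1) p)) =
      ((MvPolynomial.aeval (![C X, X] : Fin 2 → Polynomial (Polynomial κ)) p : Polynomial (Polynomial κ)).coeff j).coeff i := by
  rw [← coeff_sub2, ← coeff_map, ← coe_mapRingHom, ← coeff_map]
  congr 2
  show ((mapRingHom (mapRingHom MvPolynomial.constantCoeff)).comp (sub2 (Pi.single 0 1) (Pi.single 1 1)).toRingHom) p =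
    (MvPolynomial.aeval (![C X, X] : Fin 2 → Polynomial (Polynomial κ))).toRingHom p
  refine RingHom.congr_fun (MvPolynomial.ringHom_ext (fun r => ?_) fun k => ?_) p
  · simp [sub2, sub, MvPolynomial.algebraMap_eq]
  · simp only [AlgHom.toRingHom_eq_coe, RingHom.coe_coe, RingHom.comp_apply, sub2_X]
    fin_cases k <;> simp

variable [Finite κ]

theorem spanDp_ne_piece (d : ℕ) (hd : Nat.card κ < d) (π : M →ₗ[A] (Fin 2 → κ)) (x y : M)
    (hx : π x = Pi.single 0 1) (hy : π y = Pi.single 1 1) : spanDp A M d ≠ PolLaw.gammaPiece A M d := by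
  classical
  haveI := Fintype.ofFinite κ
  rw [Nat.card_eq_fintype_card] at hd
  set q := Fintype.card κ with hq
  have hq2 : 1 < q := Fintype.one_lt_card
  let p0 : MvPolynomial (Fin 2) κ :=
    MvPolynomial.X 0 ^ (d - q - 1) * (MvPolynomial.X 0 ^ q * MvPolynomial.X 1 - MvPolynomial.X 0 * MvPolynomial.X 1 ^ q)
  obtain ⟨φ, h1, h2⟩ := exists_functional (A := A) p0 π
  have hzero : ∀ z ∈ spanDp A M d, φ z = 0 := by
    intro z hz
    refine (Submodule.span_le (p := LinearMap.ker φ)).2 ?_ hz
    rintro _ ⟨m, rfl⟩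
    show φ (dp A d m) = 0
    have h0 : (MvPolynomial.aeval (fun k => C (π m k) * X) p0 : Polynomial κ) = 0 := by
      simp only [p0, map_mul, map_sub, map_pow, MvPolynomial.aeval_X]
      simp only [mul_pow]
      simp only [← map_pow, hq, FiniteField.pow_card]
      ring
    rw [h1, constantCoeff_hasse, h0, coeff_zero]
  intro heq
  have hmem : dp A (d - 1) x * dp A 1 y ∈ spanDp A M d := by
    rw [heq]
    exact Submodule.subset_span ⟨2, ![d - 1, 1], ![x, y], by simp; omega, by simp [Fin.prod_univ_two]⟩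
  have h := hzero _ hmem
  rw [h2, hx, hy, constantCoeff_hasse₂] at h
  have hp : (MvPolynomial.aeval (![C X, X] : Fin 2 → Polynomial (Polynomial κ)) p0 : Polynomial (Polynomial κ)) =
      C (X ^ (d - 1)) * X - C (X ^ (d - q)) * X ^ q := by
    simp only [p0, map_mul, map_sub, map_pow, MvPolynomial.aeval_X, Matrix.cons_val_zero, Matrix.cons_val_one]
    obtain ⟨r, hr⟩ : ∃ r, d = r + q + 1 := ⟨d - q - 1, by omega⟩
    rw [show d - q - 1 = r by omega, show d - 1 = r + q by omega, show d - q = r + 1 by omega]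
    ring
  rw [hp, coeff_sub, coeff_C_mul, coeff_X_one, coeff_C_mul, coeff_X_pow, if_neg (by omega)] at h
  simp at h

end converse

open TensorProduct in
theorem card_or_cyclic [Module.Finite A M] (d : ℕ) (h : spanDp A M d = PolLaw.gammaPiece A M d) (p : PrimeSpectrum A) :
    (d : Cardinal) ≤ Cardinal.mk p.asIdeal.ResidueField ∨
      ∃ x : LocalizedModule p.asIdeal.primeCompl M, Submodule.span (Localization.AtPrime p.asIdeal) {x} = ⊤ := by
  classical
  refine or_iff_not_imp_left.mpr fun hcard => ?_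
  rw [not_le] at hcard
  set Ap := Localization.AtPrime p.asIdeal
  set κ := p.asIdeal.ResidueField
  set Mp := LocalizedModule p.asIdeal.primeCompl M
  haveI : Finite κ := Cardinal.lt_aleph0_iff_finite.mp (hcard.trans (Cardinal.nat_lt_aleph0 d))
  have hd : Nat.card κ < d := by
    rw [← Nat.cast_lt (α := Cardinal), Nat.cast_card]; exact hcard
  haveI : Module.Finite Ap Mp := Module.Finite.of_isLocalizedModule p.asIdeal.primeCompl (LocalizedModule.mkLinearMap p.asIdeal.primeCompl M)
  let ι : M →ₗ[A] κ ⊗[Ap] Mp :=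
    (TensorProduct.mk Ap κ Mp 1).restrictScalars A ∘ₗ LocalizedModule.mkLinearMap p.asIdeal.primeCompl M
  have hspan : Submodule.span κ (Set.range ι) = ⊤ := by
    refine eq_top_iff.mpr fun z _ => ?_
    induction z using TensorProduct.induction_on with
    | zero => exact Submodule.zero_mem _
    | tmul c w =>
      induction w using LocalizedModule.induction_on with
      | h m s =>
        have hw : LocalizedModule.mk m s = (Localization.mk 1 s : Ap) • LocalizedModule.mk m 1 := by
          rw [LocalizedModule.mk_smul_mk, one_smul, mul_one]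
        rw [hw, ← TensorProduct.smul_tmul, show (Localization.mk 1 s : Ap) • c =
          ((Localization.mk 1 s : Ap) • c) • (1 : κ) by rw [smul_eq_mul, mul_one], ← TensorProduct.smul_tmul']
        exact Submodule.smul_mem _ _ (Submodule.subset_span ⟨m, rfl⟩)
    | add a b ha hb => exact Submodule.add_mem _ (ha trivial) (hb trivial)
  obtain ⟨S, hS, hSspan, hSind⟩ := exists_linearIndependent κ (Set.range ι)
  let b : Module.Basis S κ (κ ⊗[Ap] Mp) := Module.Basis.mk hSind (by rw [Subtype.range_coe, hSspan, hspan])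
  by_cases hsub : ∀ a c : S, a = c
  · rcases isEmpty_or_nonempty S with hS0 | ⟨⟨a, ha⟩⟩
    · refine ⟨0, ?_⟩
      have := IsLocalRing.span_eq_top_of_tmul_eq_basis (R := Ap) (M := Mp) (fun _ : S => 0) b fun i => isEmptyElim i
      rw [Set.range_eq_empty, Submodule.span_empty] at this
      rw [Submodule.span_zero_singleton, this]
    · obtain ⟨m, rfl⟩ := hS ha
      refine ⟨LocalizedModule.mk m 1, ?_⟩
      have := IsLocalRing.span_eq_top_of_tmul_eq_basis (R := Ap) (M := Mp) (fun _ : S => LocalizedModule.mk m 1) b fun i => by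
        rw [Module.Basis.mk_apply, hsub i ⟨ι m, ha⟩]; rfl
      haveI hne : Nonempty S := ⟨⟨ι m, ha⟩⟩
      rw [Set.range_const] at this
      exact this
  · push Not at hsub
    obtain ⟨a, c, hac⟩ := hsub
    obtain ⟨x, hx⟩ := hS a.2
    obtain ⟨y, hy⟩ := hS c.2
    let pr : κ ⊗[Ap] Mp →ₗ[κ] (Fin 2 → κ) := LinearMap.pi ![b.coord a, b.coord c]
    refine absurd h (spanDp_ne_piece d hd ((pr.restrictScalars A) ∘ₗ ι) x y ?_ ?_)
    · show pr (ι x) = _
      rw [hx, show (a : κ ⊗[Ap] Mp) = b a from (Module.Basis.mk_apply _ _ _).symm]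
      funext i
      fin_cases i <;> simp [pr, Finsupp.single_apply, hac]
    · show pr (ι y) = _
      rw [hy, show (c : κ ⊗[Ap] Mp) = b c from (Module.Basis.mk_apply _ _ _).symm]
      funext i
      fin_cases i <;> simp [pr, Finsupp.single_apply, Ne.symm hac]

end Groth.Agent.PolLawLib
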