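import Mathlib
import Groth.Prelude.Def_PolLaw2
import Groth.Agent.ZeroCyc.PolyRestrict

/-!
# The determinant law of a finite module over a normal domain
-/

set_option autoImplicit false

universe u
open scoped TensorProduct

namespace Groth.Agent.PolLawLib

theorem isIntegrallyClosed_mvPolynomial_fin {A : Type u} [CommRing A] [IsDomain A] [IsIntegrallyClosed A] :
    ∀ n : ℕ, IsIntegrallyClosed (MvPolynomial (Fin n) A)
  | 0 => IsIntegrallyClosed.of_equiv (MvPolynomial.isEmptyAlgEquiv A (Fin 0)).symm.toRingEquiv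
  | n + 1 => by
    haveI := isIntegrallyClosed_mvPolynomial_fin (A := A) n
    exact IsIntegrallyClosed.of_equiv (MvPolynomial.finSuccEquiv A n).symm.toRingEquiv

/-- An endomorphism annihilated by a monic polynomial with coefficients in `R` has determinant integral over `R`. -/
theorem isIntegral_det_of_aeval_eq_zero {R L V : Type u} [CommRing R] [Field L] [Algebra R L] [AddCommGroup V]
    [Module L V] [Module.Finite L V] (f : Module.End L V) (q : Polynomial R) (hq : q.Monic)
    (hqf : Polynomial.aeval f (q.map (algebraMap R L)) = 0) : IsIntegral R (LinearMap.det f) := by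
  classical
  let b := Module.Free.chooseBasis L V
  let T := AlgebraicClosure L
  let Mt := LinearMap.toMatrixAlgEquiv b f
  let Bt := Mt.map (algebraMap L T)
  have hB : Polynomial.aeval Bt (q.map (algebraMap R L)) = 0 := by
    have h1 : Polynomial.aeval Mt (q.map (algebraMap R L)) = 0 := by
      show Polynomial.aeval ((LinearMap.toMatrixAlgEquiv b).toAlgHom f) _ = _
      rw [Polynomial.aeval_algHom_apply, hqf, map_zero]
    show Polynomial.aeval ((Algebra.ofId L T).mapMatrix Mt) _ = _
    rw [Polynomial.aeval_algHom_apply, h1, map_zero]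
  have hroot : ∀ x ∈ Bt.charpoly.roots, IsIntegral R x := fun x hx => by
    rw [Polynomial.mem_roots Bt.charpoly_monic.ne_zero, ← Matrix.mem_spectrum_iff_isRoot_charpoly] at hx
    refine ⟨q, hq, ?_⟩
    have h := spectrum.subset_polynomial_aeval Bt ((q.map (algebraMap R L)).map (algebraMap L T)) ⟨x, hx, rfl⟩
    rw [Polynomial.aeval_map_algebraMap, hB] at h
    rcases isEmpty_or_nonempty (Module.Free.ChooseBasisIndex L V) with he | he
    · exact absurd (isUnit_of_subsingleton _) (spectrum.mem_iff.mp hx)
    · rw [spectrum.zero_eq, Set.mem_singleton_iff] at h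
      rw [← Polynomial.eval_map, IsScalarTower.algebraMap_eq R L T, ← Polynomial.map_map]
      exact h
  have hdet : IsIntegral R Bt.det := by
    rw [Matrix.det_eq_prod_roots_charpoly]
    exact IsIntegral.multiset_prod hroot
  have : Bt.det = algebraMap L T (LinearMap.det f) := by
    rw [← LinearMap.det_toMatrix b, RingHom.map_det]; rfl
  rw [this] at hdet
  exact (isIntegral_algHom_iff (IsScalarTower.toAlgHom R L T) (algebraMap L T).injective).mp hdet

variable {A B M : Type u} [CommRing A] [CommRing B] [Algebra A B] [AddCommGroup M] [Module A M] [Module B M]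
  [IsScalarTower A B M]

theorem detAct_map_of_basis {R R' ι : Type u} [CommRing R] [Algebra A R] [CommRing R'] [Algebra A R'] [Fintype ι]
    (v : ι → M) (bR : Module.Basis ι R (R ⊗[A] M)) (hbR : ∀ i, bR i = 1 ⊗ₜ[A] v i)
    (bR' : Module.Basis ι R' (R' ⊗[A] M)) (hbR' : ∀ i, bR' i = 1 ⊗ₜ[A] v i) (ψ : R →ₐ[A] R') (x : R ⊗[A] B) :
    PolLaw.detAct M R' (Algebra.TensorProduct.map ψ (AlgHom.id A B) x) = ψ (PolLaw.detAct M R x) := by
  classical
  unfold PolLaw.detAct
  rw [← LinearMap.det_toMatrix bR', ← LinearMap.det_toMatrix bR, AlgHom.map_det]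
  congr 1
  ext i j
  simp only [AlgHom.mapMatrix_apply, Matrix.map_apply, LinearMap.toMatrix_apply]
  have hrepr : ∀ z : R ⊗[A] M, bR'.repr (ψ.toLinearMap.rTensor M z) i = ψ (bR.repr z i) := by
    intro z
    conv_lhs => rw [← bR.sum_repr z, map_sum]
    have h : ∀ k, ψ.toLinearMap.rTensor M (bR.repr z k • bR k) = ψ (bR.repr z k) • bR' k := fun k => by
      rw [hbR, hbR', TensorProduct.smul_tmul', TensorProduct.smul_tmul', smul_eq_mul, smul_eq_mul, mul_one, mul_one,
        LinearMap.rTensor_tmul, AlgHom.toLinearMap_apply]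
    rw [Finset.sum_congr rfl fun k _ => h k, Module.Basis.repr_sum_self]
  rw [← hrepr, hbR', show ((1 : R') ⊗ₜ[A] v j) = ψ.toLinearMap.rTensor M ((1 : R) ⊗ₜ[A] v j) by
    rw [LinearMap.rTensor_tmul, AlgHom.toLinearMap_apply, map_one], ← PolLaw.rTensor_actEnd M ψ, ← hbR]

variable [IsDomain A] [Module.Finite A M] {d : ℕ}
  (hd : Module.finrank (FractionRing A) (FractionRing A ⊗[A] M) = d)

include hd in
theorem exists_basis_family : ∃ v : ULift.{u} (Fin d) → M,
    ∀ (R : Type u) [CommRing R] [Algebra A R] [Algebra (FractionRing A) R] [IsScalarTower A (FractionRing A) R],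
      ∃ b : Module.Basis (ULift.{u} (Fin d)) R (R ⊗[A] M), ∀ i, b i = 1 ⊗ₜ[A] v i := by
  classical
  set K := FractionRing A with hK
  let f : M →ₗ[A] K ⊗[A] M := TensorProduct.mk A K M 1
  have hloc : IsLocalizedModule (nonZeroDivisors A) f :=
    (isLocalizedModule_iff_isBaseChange (nonZeroDivisors A) K f).mpr (TensorProduct.isBaseChange A M K)
  let b0 := Module.finBasisOfFinrankEq K (K ⊗[A] M) hd
  have hsurj : ∀ i, ∃ (m : M) (s : nonZeroDivisors A), s • b0 i = f m := fun i => by
    obtain ⟨⟨m, s⟩, h⟩ := hloc.surj (b0 i)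
    exact ⟨m, s, h⟩
  choose m s hs using hsurj
  have hu : ∀ i, IsUnit (algebraMap A K (s i : A)) := fun i => IsLocalization.map_units K (s i)
  let b1 : Module.Basis (ULift.{u} (Fin d)) K (K ⊗[A] M) :=
    (b0.unitsSMul fun i => (hu i).unit).reindex Equiv.ulift.symm
  have hb1 : ∀ i, b1 i = 1 ⊗ₜ[A] m i.down := fun i => by
    simp only [b1, Module.Basis.reindex_apply, Module.Basis.unitsSMul_apply, Units.smul_def, IsUnit.unit_spec]
    rw [algebraMap_smul]
    exact hs i.down
  refine ⟨fun i => m i.down, fun R _ _ _ _ => ?_⟩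
  refine ⟨(Algebra.TensorProduct.basis R b1).map (TensorProduct.AlgebraTensorModule.cancelBaseChange A K R R M), fun i => ?_⟩
  rw [Module.Basis.map_apply, Algebra.TensorProduct.basis_apply, hb1, TensorProduct.AlgebraTensorModule.cancelBaseChange_tmul, one_smul]

theorem exists_rename_lift {S : Type u} [CommSemiring S] [Algebra A S] (x y : S ⊗[A] B) :
    ∃ (n : ℕ) (ψ : MvPolynomial (Fin n) A →ₐ[A] S) (p q : MvPolynomial (Fin n) A ⊗[A] B),
      ψ.toLinearMap.rTensor B p = x ∧ ψ.toLinearMap.rTensor B q = y := by
  obtain ⟨n, ψ, p, rfl⟩ := PolynomialLaw.exists_lift x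
  obtain ⟨m, χ, q, rfl⟩ := PolynomialLaw.exists_lift y
  let ω : MvPolynomial (Fin (n + m)) A →ₐ[A] S :=
    MvPolynomial.aeval (Fin.append (fun i => ψ (MvPolynomial.X i)) (fun i => χ (MvPolynomial.X i)))
  have hl : ω.comp (MvPolynomial.rename (Fin.castAdd m)) = ψ := MvPolynomial.algHom_ext fun i => by simp [ω]
  have hr : ω.comp (MvPolynomial.rename (Fin.natAdd n)) = χ := MvPolynomial.algHom_ext fun i => by simp [ω]
  exact ⟨n + m, ω, (MvPolynomial.rename (Fin.castAdd m)).toLinearMap.rTensor B p,
    (MvPolynomial.rename (Fin.natAdd n)).toLinearMap.rTensor B q,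
    by rw [← ZeroCyc.rTensor_comp_algHom, hl], by rw [← ZeroCyc.rTensor_comp_algHom, hr]⟩

variable [IsIntegrallyClosed A]

include hd in
theorem existsUnique_detGeneric : ∃! N : PolLaw.MulLaw A B A d, ∀ (n : ℕ) (x : MvPolynomial (Fin n) A ⊗[A] B),
    algebraMap (MvPolynomial (Fin n) A) (FractionRing (MvPolynomial (Fin n) A))
        (TensorProduct.rid A (MvPolynomial (Fin n) A) (N.law.toFun' (MvPolynomial (Fin n) A) x)) =
      LinearMap.det (PolLaw.actEnd M (FractionRing (MvPolynomial (Fin n) A))
        (Algebra.TensorProduct.map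
          (IsScalarTower.toAlgHom A (MvPolynomial (Fin n) A) (FractionRing (MvPolynomial (Fin n) A)))
          (AlgHom.id A B) x)) := by
  classical
  obtain ⟨v, hv⟩ := exists_basis_family (M := M) hd
  let P : ℕ → Type u := fun n => MvPolynomial (Fin n) A
  let K := FractionRing A
  let j : ∀ n, MvPolynomial (Fin n) A →ₐ[A] MvPolynomial (Fin n) K := fun n =>
    MvPolynomial.aeval MvPolynomial.X
  have hj : ∀ n, Function.Injective (j n) := fun n => by
    have : (j n).toRingHom = MvPolynomial.map (algebraMap A K) := MvPolynomial.ringHom_ext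
      (fun r => by simp [j, MvPolynomial.algebraMap_eq, IsScalarTower.algebraMap_apply A K (MvPolynomial (Fin n) K)])
      (fun i => by simp [j])
    show Function.Injective (j n).toRingHom
    rw [this]
    exact MvPolynomial.map_injective _ (IsFractionRing.injective A K)
  have key : ∀ n (x : MvPolynomial (Fin n) A ⊗[A] B), ∃ y : MvPolynomial (Fin n) A,
      j n y = PolLaw.detAct M (MvPolynomial (Fin n) K) (Algebra.TensorProduct.map (j n) (AlgHom.id A B) x) ∧
      algebraMap _ (FractionRing (MvPolynomial (Fin n) A)) y =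
        LinearMap.det (PolLaw.actEnd M (FractionRing (MvPolynomial (Fin n) A))
        (Algebra.TensorProduct.map
          (IsScalarTower.toAlgHom A (MvPolynomial (Fin n) A) (FractionRing (MvPolynomial (Fin n) A)))
          (AlgHom.id A B) x)) := by
    intro n x
    set L := FractionRing (MvPolynomial (Fin n) A) with hL
    let ι := IsScalarTower.toAlgHom A (MvPolynomial (Fin n) A) L
    haveI : FaithfulSMul A L := (faithfulSMul_iff_algebraMap_injective A L).mpr (by
      intro a b h
      rw [IsScalarTower.algebraMap_apply A (MvPolynomial (Fin n) A) L, IsScalarTower.algebraMap_apply A (MvPolynomial (Fin n) A) L] at h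
      exact MvPolynomial.C_injective _ _ (IsFractionRing.injective (MvPolynomial (Fin n) A) L h))
    letI : Algebra K L := FractionRing.liftAlgebra A L
    haveI : IsScalarTower A K L := FractionRing.isScalarTower_liftAlgebra A L
    obtain ⟨bL, hbL⟩ := hv L
    obtain ⟨bP, hbP⟩ := hv (MvPolynomial (Fin n) K)
    haveI : Module.Finite L (L ⊗[A] M) := Module.Finite.of_basis bL
    let κ : MvPolynomial (Fin n) K →ₐ[A] L :=
      (MvPolynomial.aeval fun i => ι (MvPolynomial.X i) : MvPolynomial (Fin n) K →ₐ[K] L).restrictScalars A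
    have hκ : κ.comp (j n) = ι := MvPolynomial.algHom_ext fun i => by simp [κ, j, ι]
    obtain ⟨q, hq, hqg⟩ := LinearMap.exists_monic_and_aeval_eq_zero (MvPolynomial (Fin n) A) (PolLaw.actEnd M _ x)
    let x' := Algebra.TensorProduct.map ι (AlgHom.id A B) x
    have hqf : Polynomial.aeval (PolLaw.actEnd M L x') (q.map (algebraMap _ L)) = 0 := by
      rw [Polynomial.aeval_algHom_apply]
      have h2 : Polynomial.aeval x' (q.map (algebraMap _ L)) =
          Algebra.TensorProduct.map ι (AlgHom.id A B) (Polynomial.aeval x q) := by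
        rw [Polynomial.aeval_def, Polynomial.eval₂_map, Polynomial.aeval_def]
        refine Eq.trans ?_ (Polynomial.hom_eval₂ q _ (Algebra.TensorProduct.map ι (AlgHom.id A B)).toRingHom x).symm
        congr 1
      rw [h2]
      refine LinearMap.ext fun z => ?_
      induction z using TensorProduct.induction_on with
      | zero => simp
      | tmul s m =>
        rw [show s ⊗ₜ[A] m = s • ((1 : L) ⊗ₜ[A] m) by rw [TensorProduct.smul_tmul', smul_eq_mul, mul_one], map_smul,
          show (1 : L) ⊗ₜ[A] m = ι.toLinearMap.rTensor M ((1 : MvPolynomial (Fin n) A) ⊗ₜ[A] m) by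
            rw [LinearMap.rTensor_tmul, AlgHom.toLinearMap_apply, map_one],
          ← PolLaw.rTensor_actEnd M ι, ← Polynomial.aeval_algHom_apply, hqg, LinearMap.zero_apply, map_zero, smul_zero,
          LinearMap.zero_apply]
      | add a b ha hb => simp only [map_add, ha, hb]
    haveI := isIntegrallyClosed_mvPolynomial_fin (A := A) n
    obtain ⟨y, hy⟩ := IsIntegrallyClosed.isIntegral_iff.mp (isIntegral_det_of_aeval_eq_zero _ q hq hqf)
    refine ⟨y, ?_, hy⟩
    have hκinj : Function.Injective κ := by
      let F' := FractionRing (MvPolynomial (Fin n) K)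
      let g : MvPolynomial (Fin n) A →+* F' := (algebraMap (MvPolynomial (Fin n) K) F').comp (j n).toRingHom
      have hg : Function.Injective g := fun a b h => hj n (IsFractionRing.injective (MvPolynomial (Fin n) K) F' h)
      let lam : L →+* F' := IsFractionRing.lift hg
      have h1 : lam.comp κ.toRingHom = algebraMap (MvPolynomial (Fin n) K) F' := by
        refine MvPolynomial.ringHom_ext' (IsLocalization.ringHom_ext (nonZeroDivisors A) (RingHom.ext fun a => ?_)) fun i => ?_
        · show lam (κ (MvPolynomial.C (σ := Fin n) (algebraMap A K a))) = algebraMap (MvPolynomial (Fin n) K) F' (MvPolynomial.C (algebraMap A K a))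
          have ha : κ (MvPolynomial.C (algebraMap A K a)) = algebraMap (MvPolynomial (Fin n) A) L (MvPolynomial.C a) := by
            show κ (algebraMap A (MvPolynomial (Fin n) K) a) = algebraMap (MvPolynomial (Fin n) A) L (algebraMap A _ a)
            rw [AlgHom.commutes, ← IsScalarTower.algebraMap_apply]
          rw [ha, IsFractionRing.lift_algebraMap]
          show algebraMap _ F' (j n (algebraMap A _ a)) = _
          rw [AlgHom.commutes]; rfl
        · show lam (κ (MvPolynomial.X i)) = _
          rw [show κ (MvPolynomial.X i) = algebraMap (MvPolynomial (Fin n) A) L (MvPolynomial.X i) by simp [κ, ι],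
            IsFractionRing.lift_algebraMap]
          simp [g, j]
      intro z w hzw
      apply IsFractionRing.injective (MvPolynomial (Fin n) K) F'
      rw [← h1]
      exact congrArg lam hzw
    apply hκinj
    rw [← detAct_map_of_basis v bP hbP bL hbL κ]
    show (κ.comp (j n)) y = PolLaw.detAct M L _
    rw [hκ]
    refine hy.trans ?_
    show LinearMap.det _ = LinearMap.det _
    congr 2
    have hc : ∀ z : MvPolynomial (Fin n) A ⊗[A] B, Algebra.TensorProduct.map ι (AlgHom.id A B) z =
        Algebra.TensorProduct.map κ (AlgHom.id A B) (Algebra.TensorProduct.map (j n) (AlgHom.id A B) z) := fun z => by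
      induction z using TensorProduct.induction_on with
      | zero => simp
      | tmul a b =>
        simp only [Algebra.TensorProduct.map_tmul, AlgHom.coe_id, id_eq]
        rw [← AlgHom.comp_apply, hκ]
      | add a b ha hb => simp only [map_add, ha, hb]
    exact hc x
  choose T hTj hTL using key
  have hcompat : ∀ (n m : ℕ) (φ : MvPolynomial (Fin n) A →ₐ[A] MvPolynomial (Fin m) A),
      φ.toLinearMap.rTensor A ∘ (fun x => T n x ⊗ₜ[A] (1 : A)) = (fun x => T m x ⊗ₜ[A] (1 : A)) ∘ φ.toLinearMap.rTensor B := by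
    intro n m φ
    funext x
    simp only [Function.comp_apply, LinearMap.rTensor_tmul, AlgHom.toLinearMap_apply]
    congr 1
    apply hj m
    obtain ⟨bn, hbn⟩ := hv (MvPolynomial (Fin n) K)
    obtain ⟨bm, hbm⟩ := hv (MvPolynomial (Fin m) K)
    let φK : MvPolynomial (Fin n) K →ₐ[A] MvPolynomial (Fin m) K :=
      (MvPolynomial.aeval fun i => j m (φ (MvPolynomial.X i)) : MvPolynomial (Fin n) K →ₐ[K] MvPolynomial (Fin m) K).restrictScalars A
    have hφK : φK.comp (j n) = (j m).comp φ := MvPolynomial.algHom_ext fun i => by simp [φK, j]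
    rw [hTj, show j m (φ (T n x)) = φK (j n (T n x)) from (AlgHom.congr_fun hφK _).symm, hTj,
      ← detAct_map_of_basis v bn hbn bm hbm φK]
    congr 1
    rw [PolLaw.rTensor_algHom_apply]
    induction x using TensorProduct.induction_on with
    | zero => simp
    | tmul a b =>
      simp only [Algebra.TensorProduct.map_tmul, AlgHom.coe_id, id_eq]
      rw [← AlgHom.comp_apply, hφK, AlgHom.comp_apply]
    | add a b ha hb => simp only [map_add, ha, hb]
  obtain ⟨F, hF⟩ := (ZeroCyc.restrict_bijective (A := A) (M := B) (N := A)).surjective ⟨fun n x => T n x ⊗ₜ[A] (1 : A), hcompat⟩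
  have hFn : ∀ n x, F.toFun' (MvPolynomial (Fin n) A) x = T n x ⊗ₜ[A] (1 : A) := fun n x =>
    congrFun (congrFun (Subtype.ext_iff.1 hF) n) x
  have hT1 : ∀ n, T n 1 = 1 := fun n => hj n (by rw [hTj, map_one, PolLaw.detAct_one, map_one])
  have hTm : ∀ n x y, T n (x * y) = T n x * T n y := fun n x y => hj n (by
    rw [hTj, map_mul, PolLaw.detAct_mul, map_mul (j n), hTj, hTj])
  have hTs : ∀ n (r : MvPolynomial (Fin n) A) x, T n (r • x) = r ^ d * T n x := fun n r x => hj n (by
    obtain ⟨b, hb⟩ := hv (MvPolynomial (Fin n) K)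
    haveI := Module.Free.of_basis b
    rw [hTj, map_mul, map_pow, hTj,
      show Algebra.TensorProduct.map (j n) (AlgHom.id A B) (r • x) = j n r • Algebra.TensorProduct.map (j n) (AlgHom.id A B) x from ?_]
    · rw [PolLaw.detAct, map_smul, LinearMap.det_smul, Module.finrank_eq_card_basis b, Fintype.card_ulift, Fintype.card_fin]
      rfl
    · induction x using TensorProduct.induction_on with
      | zero => simp
      | tmul a b => simp [TensorProduct.smul_tmul', Algebra.TensorProduct.map_tmul]
      | add a b ha hb => simp only [smul_add, map_add, ha, hb])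
  refine ⟨⟨F, ?_, ?_⟩, fun n x => ?_, ?_⟩
  · intro S _ _ s x
    obtain ⟨n, ψ, p, rfl⟩ := PolynomialLaw.exists_lift x
    let ω : MvPolynomial (Fin (n + 1)) A →ₐ[A] S := MvPolynomial.aeval (Fin.snoc (fun i => ψ (MvPolynomial.X i)) s)
    let r : MvPolynomial (Fin (n + 1)) A := MvPolynomial.X (Fin.last n)
    let p' := (MvPolynomial.rename Fin.castSucc : MvPolynomial (Fin n) A →ₐ[A] MvPolynomial (Fin (n + 1)) A).toLinearMap.rTensor B p
    have hp' : ω.toLinearMap.rTensor B p' = ψ.toLinearMap.rTensor B p := by
      rw [← ZeroCyc.rTensor_comp_algHom,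
        show ω.comp (MvPolynomial.rename Fin.castSucc) = ψ from MvPolynomial.algHom_ext fun i => by simp [ω]]
    have hsm : ∀ {N : Type u} [AddCommGroup N] [Module A N] (r : MvPolynomial (Fin (n + 1)) A)
        (z : MvPolynomial (Fin (n + 1)) A ⊗[A] N), ω.toLinearMap.rTensor N (r • z) = ω r • ω.toLinearMap.rTensor N z := by
      intro N _ _ r z
      induction z using TensorProduct.induction_on with
      | zero => simp
      | tmul a b => simp [TensorProduct.smul_tmul', LinearMap.rTensor_tmul]
      | add a b ha hb => simp only [smul_add, map_add, ha, hb]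
    have hr : ω r = s := by simp [ω, r]
    rw [← hp', ← hr, ← hsm, ← PolynomialLaw.isCompat_apply' (f := F) ω, ← PolynomialLaw.isCompat_apply' (f := F) ω,
      hFn, hFn, hTs, ← map_pow, ← hsm, TensorProduct.smul_tmul', smul_eq_mul]
  · intro S _ _
    refine ⟨?_, fun x y => ?_⟩
    · let ω : MvPolynomial (Fin 0) A →ₐ[A] S := MvPolynomial.aeval Fin.elim0
      have h1 : (1 : S ⊗[A] B) = ω.toLinearMap.rTensor B 1 := by
        rw [PolLaw.rTensor_algHom_apply, map_one]
      rw [h1, ← PolynomialLaw.isCompat_apply' (f := F) ω, hFn, hT1, LinearMap.rTensor_tmul, AlgHom.toLinearMap_apply, map_one]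
      rfl
    · obtain ⟨n, ω, p, q, rfl, rfl⟩ := exists_rename_lift x y
      have hm : ∀ a b : MvPolynomial (Fin n) A ⊗[A] B,
          ω.toLinearMap.rTensor B a * ω.toLinearMap.rTensor B b = ω.toLinearMap.rTensor B (a * b) := fun a b => by
        rw [PolLaw.rTensor_algHom_apply, PolLaw.rTensor_algHom_apply, PolLaw.rTensor_algHom_apply, map_mul]
      rw [hm, ← PolynomialLaw.isCompat_apply' (f := F) ω, ← PolynomialLaw.isCompat_apply' (f := F) ω,
        ← PolynomialLaw.isCompat_apply' (f := F) ω, hFn, hFn, hFn, LinearMap.rTensor_tmul, LinearMap.rTensor_tmul,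
        LinearMap.rTensor_tmul, Algebra.TensorProduct.tmul_mul_tmul, mul_one, hTm, AlgHom.toLinearMap_apply,
        AlgHom.toLinearMap_apply, AlgHom.toLinearMap_apply, map_mul]
  · show algebraMap _ _ (TensorProduct.rid A _ (F.toFun' _ x)) = _
    rw [hFn, TensorProduct.rid_tmul, one_smul, hTL]
  · intro N' hN'
    refine PolLaw.MulLaw.ext ((ZeroCyc.restrict_bijective (A := A) (M := B) (N := A)).injective (Subtype.ext ?_))
    funext n x
    apply (TensorProduct.rid A (MvPolynomial (Fin n) A)).injective
    apply IsFractionRing.injective (MvPolynomial (Fin n) A) (FractionRing (MvPolynomial (Fin n) A))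
    refine (hN' n x).trans ?_
    show _ = algebraMap _ _ (TensorProduct.rid A _ (F.toFun' _ x))
    rw [hFn, TensorProduct.rid_tmul, one_smul, hTL]

end Groth.Agent.PolLawLib
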