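import Mathlib
import Groth.Prelude.Def_PolLaw2

/-!
# The determinant law of a module that is finite projective of constant rank
-/

set_option autoImplicit false

universe u
open scoped TensorProduct

namespace Groth.Agent.PolLawLib

/-- Equality of two elements of a ring can be checked in its local rings. -/
theorem eq_of_forall_atPrime {R : Type u} [CommRing R] {a b : R}
    (h : ∀ (J : Ideal R) (_ : J.IsMaximal), algebraMap R (Localization.AtPrime J) a = algebraMap R (Localization.AtPrime J) b) :
    a = b :=
  sub_eq_zero.mp (eq_zero_of_localization _ fun J hJ => by rw [map_sub, h J hJ, sub_self])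

theorem det_one_add_comp_comm {R V W : Type u} [CommRing R] [AddCommGroup V] [Module R V] [Module.Free R V] [Module.Finite R V]
    [AddCommGroup W] [Module R W] [Module.Free R W] [Module.Finite R W] (f : V →ₗ[R] W) (g : W →ₗ[R] V) :
    LinearMap.det (1 + f ∘ₗ g) = LinearMap.det (1 + g ∘ₗ f) := by
  classical
  let bV := Module.Free.chooseBasis R V
  let bW := Module.Free.chooseBasis R W
  rw [← LinearMap.det_toMatrix bW, ← LinearMap.det_toMatrix bV, map_add, map_add, LinearMap.toMatrix_one,
    LinearMap.toMatrix_one, LinearMap.toMatrix_comp bW bV bW, LinearMap.toMatrix_comp bV bW bV]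
  exact Matrix.det_one_add_mul_comm _ _

variable {A B M : Type u} [CommRing A] [CommRing B] [Algebra A B] [AddCommGroup M] [Module A M] [Module B M]
  [IsScalarTower A B M] {n : ℕ} (π : (Fin n → A) →ₗ[A] M) (σ : M →ₗ[A] Fin n → A)

/-- The action of `x` on `R ⊗ M`, extended to `R ⊗ A^n` by the identity on the complement. -/
noncomputable def extEnd (R : Type u) [CommRing R] [Algebra A R] (x : R ⊗[A] B) : Module.End R (R ⊗[A] (Fin n → A)) :=
  1 + σ.baseChange R ∘ₗ (PolLaw.actEnd M R x - 1) ∘ₗ π.baseChange R

noncomputable def detP (R : Type u) [CommRing R] [Algebra A R] (x : R ⊗[A] B) : R :=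
  LinearMap.det (extEnd π σ R x)

theorem detP_one (R : Type u) [CommRing R] [Algebra A R] : detP π σ R (1 : R ⊗[A] B) = 1 := by
  have h : extEnd π σ R (1 : R ⊗[A] B) = 1 := LinearMap.ext fun v => by simp [extEnd]
  rw [detP, h, map_one]

variable {π σ} (hσ : π ∘ₗ σ = LinearMap.id)

include hσ in
theorem detP_mul (R : Type u) [CommRing R] [Algebra A R] (x y : R ⊗[A] B) :
    detP π σ R (x * y) = detP π σ R x * detP π σ R y := by
  rw [detP, detP, detP, ← map_mul]
  congr 1
  have h : π.baseChange R ∘ₗ σ.baseChange R = LinearMap.id := by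
    rw [← LinearMap.baseChange_comp, hσ]; exact LinearMap.baseChange_id
  refine LinearMap.ext fun v => ?_
  have h' : ∀ w, π.baseChange R (σ.baseChange R w) = w := fun w => LinearMap.congr_fun h w
  simp only [extEnd, map_mul, LinearMap.add_apply, Module.End.one_apply, LinearMap.comp_apply, LinearMap.sub_apply,
    Module.End.mul_apply, map_add, map_sub, h', add_sub_cancel]
  abel

variable (π σ)

theorem detP_map {R R' : Type u} [CommRing R] [Algebra A R] [CommRing R'] [Algebra A R'] (ψ : R →ₐ[A] R')
    (x : R ⊗[A] B) : detP π σ R' (Algebra.TensorProduct.map ψ (AlgHom.id A B) x) = ψ (detP π σ R x) := by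
  classical
  let b := Pi.basisFun A (Fin n)
  unfold detP
  rw [← LinearMap.det_toMatrix (Algebra.TensorProduct.basis R' b),
    ← LinearMap.det_toMatrix (Algebra.TensorProduct.basis R b), AlgHom.map_det]
  congr 1
  ext i j
  simp only [AlgHom.mapMatrix_apply, Matrix.map_apply, LinearMap.toMatrix_apply, Algebra.TensorProduct.basis_apply]
  have hrepr : ∀ z : R ⊗[A] (Fin n → A),
      (Algebra.TensorProduct.basis R' b).repr (ψ.toLinearMap.rTensor _ z) i =
        ψ ((Algebra.TensorProduct.basis R b).repr z i) := by
    intro z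
    induction z using TensorProduct.induction_on with
    | zero => simp
    | tmul t m =>
      simp [LinearMap.rTensor_tmul, Algebra.TensorProduct.basis_repr_tmul, Finsupp.smul_apply, Finsupp.mapRange_apply]
    | add z z' hz hz' => simp only [map_add, Finsupp.add_apply, hz, hz']
  have hσn : ∀ z : R ⊗[A] M, ψ.toLinearMap.rTensor _ (σ.baseChange R z) = σ.baseChange R' (ψ.toLinearMap.rTensor M z) := by
    intro z
    induction z using TensorProduct.induction_on with
    | zero => simp
    | tmul t m => simp [LinearMap.rTensor_tmul]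
    | add z z' hz hz' => simp only [map_add, hz, hz']
  have hπn : ∀ z : R ⊗[A] (Fin n → A), ψ.toLinearMap.rTensor M (π.baseChange R z) = π.baseChange R' (ψ.toLinearMap.rTensor _ z) := by
    intro z
    induction z using TensorProduct.induction_on with
    | zero => simp
    | tmul t m => simp [LinearMap.rTensor_tmul]
    | add z z' hz hz' => simp only [map_add, hz, hz']
  rw [← hrepr]
  congr 2
  rw [show ((1 : R') ⊗ₜ[A] b j) = ψ.toLinearMap.rTensor _ ((1 : R) ⊗ₜ[A] b j) by
    rw [LinearMap.rTensor_tmul, AlgHom.toLinearMap_apply, map_one]]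
  simp only [extEnd, LinearMap.add_apply, Module.End.one_apply, LinearMap.comp_apply, LinearMap.sub_apply]
  simp only [map_sub, map_add, hσn, PolLaw.rTensor_actEnd M ψ, hπn]

variable {π σ}

include hσ in
theorem detP_eq_detAct (R : Type u) [CommRing R] [Algebra A R] [Module.Free R (R ⊗[A] M)] [Module.Finite A M]
    (x : R ⊗[A] B) : detP π σ R x = PolLaw.detAct M R x := by
  rw [detP, extEnd, det_one_add_comp_comm]
  rw [LinearMap.comp_assoc, ← LinearMap.baseChange_comp, hσ, LinearMap.baseChange_id, LinearMap.comp_id, PolLaw.detAct]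
  congr 1
  exact LinearMap.ext fun v => by simp

/-- The value over a test semiring: it is in fact a ring. -/
noncomputable def detPS (π : (Fin n → A) →ₗ[A] M) (σ : M →ₗ[A] Fin n → A) (S : Type u) [CommSemiring S] [Algebra A S]
    (x : S ⊗[A] B) : S ⊗[A] A :=
  (Algebra.TensorProduct.lid A S (detP π σ (A ⊗[A] S) (PolLaw.toRing A B S x))) ⊗ₜ[A] (1 : A)

theorem detPS_eq (π : (Fin n → A) →ₗ[A] M) (σ : M →ₗ[A] Fin n → A) (S : Type u) [CommRing S] [Algebra A S]
    (x : S ⊗[A] B) : detPS π σ S x = detP π σ S x ⊗ₜ[A] (1 : A) := by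
  have h1 : Algebra.TensorProduct.map (Algebra.TensorProduct.lid A S).toAlgHom (AlgHom.id A B)
      (PolLaw.toRing A B S x) = x := by
    induction x using TensorProduct.induction_on with
    | zero => simp
    | tmul s b => simp [Algebra.TensorProduct.map_tmul, Algebra.TensorProduct.lid_symm_apply]
    | add x y hx hy => simp only [map_add, hx, hy]
  have h2 := detP_map π σ (Algebra.TensorProduct.lid A S).toAlgHom (PolLaw.toRing A B S x)
  rw [h1] at h2
  unfold detPS
  rw [h2]
  rfl

variable [Module.Finite A M] [Module.Projective A M] {d : ℕ} (hd : ∀ p : PrimeSpectrum A, Module.rankAtStalk M p = d)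

include hd in
theorem free_finrank_of_isLocalRing (R : Type u) [CommRing R] [IsLocalRing R] [Algebra A R] :
    Module.Free R (R ⊗[A] M) ∧ Module.finrank R (R ⊗[A] M) = d := by
  haveI : Module.Free R (R ⊗[A] M) := Module.free_of_flat_of_isLocalRing
  refine ⟨inferInstance, ?_⟩
  have h := Module.rankAtStalk_baseChange (R := A) (M := M) (S := R) (IsLocalRing.closedPoint R)
  rw [hd, Module.rankAtStalk_eq_finrank_of_free] at h
  exact h

include hσ hd in
theorem detP_smul (R : Type u) [CommRing R] [Algebra A R] (r : R) (x : R ⊗[A] B) :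
    detP π σ R (r • x) = r ^ d * detP π σ R x := by
  refine eq_of_forall_atPrime fun J hJ => ?_
  let ψ := IsScalarTower.toAlgHom A R (Localization.AtPrime J)
  show ψ (detP π σ R (r • x)) = ψ (r ^ d * detP π σ R x)
  obtain ⟨hf, hr⟩ := free_finrank_of_isLocalRing (M := M) hd (Localization.AtPrime J)
  rw [map_mul, map_pow, ← detP_map, ← detP_map, detP_eq_detAct hσ, detP_eq_detAct hσ,
    show Algebra.TensorProduct.map ψ (AlgHom.id A B) (r • x) = ψ r • Algebra.TensorProduct.map ψ (AlgHom.id A B) x from ?_]
  · rw [PolLaw.detAct, map_smul, LinearMap.det_smul, hr]; rfl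
  · induction x using TensorProduct.induction_on with
    | zero => simp
    | tmul a b => simp [TensorProduct.smul_tmul', Algebra.TensorProduct.map_tmul]
    | add a b ha hb => simp only [smul_add, map_add, ha, hb]

include hσ hd in
theorem exists_law_eq_detP : ∃ N : PolLaw.MulLaw A B A d,
    ∀ (S : Type u) [CommRing S] [Algebra A S] (x : S ⊗[A] B), N.law.toFun' S x = detP π σ S x ⊗ₜ[A] (1 : A) := by
  refine ⟨⟨{ toFun' := fun S _ _ x => detPS π σ S x, isCompat' := ?_ }, ?_, ?_⟩, fun S _ _ x => detPS_eq π σ S x⟩
  · intro S _ _ S' _ _ φ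
    funext x
    let ψ : A ⊗[A] S →ₐ[A] A ⊗[A] S' := Algebra.TensorProduct.map (AlgHom.id A A) φ
    have hψ : Algebra.TensorProduct.map ψ (AlgHom.id A B) (PolLaw.toRing A B S x) =
        PolLaw.toRing A B S' (φ.toLinearMap.rTensor B x) := by
      induction x using TensorProduct.induction_on with
      | zero => simp
      | tmul s b => simp [ψ, Algebra.TensorProduct.map_tmul, Algebra.TensorProduct.lid_symm_apply, LinearMap.rTensor_tmul]
      | add x y hx hy => simp only [map_add, hx, hy]
    have hlid : ∀ r : A ⊗[A] S, Algebra.TensorProduct.lid A S' (ψ r) = φ (Algebra.TensorProduct.lid A S r) := by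
      intro r
      induction r using TensorProduct.induction_on with
      | zero => simp
      | tmul a s => simp [ψ, Algebra.TensorProduct.map_tmul, Algebra.TensorProduct.lid_tmul]
      | add x y hx hy => simp only [map_add, hx, hy]
    show φ.toLinearMap.rTensor A (detPS π σ S x) = detPS π σ S' (φ.toLinearMap.rTensor B x)
    unfold detPS
    rw [LinearMap.rTensor_tmul, ← hψ, detP_map π σ ψ, AlgHom.toLinearMap_apply, hlid]
  · intro S _ _ s x
    have hx : PolLaw.toRing A B S (s • x) = ((1 : A) ⊗ₜ[A] s) • PolLaw.toRing A B S x := by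
      induction x using TensorProduct.induction_on with
      | zero => simp
      | tmul t b =>
          simp [TensorProduct.smul_tmul', Algebra.TensorProduct.map_tmul, Algebra.TensorProduct.lid_symm_apply,
            Algebra.TensorProduct.tmul_mul_tmul]
      | add x y hx hy => simp only [smul_add, map_add, hx, hy]
    show detPS π σ S (s • x) = s ^ d • detPS π σ S x
    unfold detPS
    rw [hx, detP_smul hσ hd, map_mul, map_pow, Algebra.TensorProduct.lid_tmul, one_smul, TensorProduct.smul_tmul', smul_eq_mul]
  · intro S _ _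
    refine ⟨?_, fun x y => ?_⟩
    · show detPS π σ S 1 = 1
      unfold detPS
      have h : PolLaw.toRing A B S 1 = 1 := by
        simp [Algebra.TensorProduct.one_def, Algebra.TensorProduct.map_tmul, Algebra.TensorProduct.lid_symm_apply]
      rw [h, detP_one, map_one]
      rfl
    · show detPS π σ S (x * y) = detPS π σ S x * detPS π σ S y
      unfold detPS
      rw [map_mul, detP_mul hσ, map_mul, Algebra.TensorProduct.tmul_mul_tmul, mul_one]

/-- Two laws into the base agreeing on local test rings are equal. -/
theorem law_ext_local {N N' : PolLaw.MulLaw A B A d}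
    (h : ∀ (S : Type u) [CommRing S] [IsLocalRing S] [Algebra A S] (x : S ⊗[A] B),
      N.law.toFun' S x = N'.law.toFun' S x) : N = N' := by
  refine PolLaw.MulLaw.ext ?_
  ext S i j x
  letI : CommRing S := { (inferInstance : CommSemiring S), Algebra.semiringToRing A (A := S) with }
  let e := Algebra.TensorProduct.rid A A S
  refine e.injective (eq_of_forall_atPrime fun J hJ => ?_)
  let ψ := IsScalarTower.toAlgHom A S (Localization.AtPrime J)
  have hn : ∀ z : S ⊗[A] A, ψ (e z) = Algebra.TensorProduct.rid A A _ (ψ.toLinearMap.rTensor A z) := fun z => by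
    induction z using TensorProduct.induction_on with
    | zero => simp
    | tmul a b => simp [e, LinearMap.rTensor_tmul]
    | add a b ha hb => simp only [map_add, ha, hb]
  show ψ _ = ψ _
  rw [hn, hn, PolynomialLaw.isCompat_apply' (f := N.law) ψ, PolynomialLaw.isCompat_apply' (f := N'.law) ψ,
    h (Localization.AtPrime J)]

include hd in
theorem existsUnique_detProj : ∃! N : PolLaw.MulLaw A B A d,
    ∀ (S : Type u) [CommRing S] [IsLocalRing S] [Algebra A S] (x : S ⊗[A] B),
      N.law.toFun' S x = PolLaw.detAct M S x ⊗ₜ[A] (1 : A) := by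
  obtain ⟨n, π, hπ⟩ := Module.Finite.exists_fin' A M
  obtain ⟨σ, hσ⟩ := Module.projective_lifting_property π LinearMap.id hπ
  obtain ⟨N, hN⟩ := exists_law_eq_detP (B := B) hσ hd
  have hloc : ∀ (S : Type u) [CommRing S] [IsLocalRing S] [Algebra A S] (x : S ⊗[A] B),
      N.law.toFun' S x = PolLaw.detAct M S x ⊗ₜ[A] (1 : A) := by
    intro S _ _ _ x
    obtain ⟨hf, -⟩ := free_finrank_of_isLocalRing (M := M) hd S
    rw [hN, detP_eq_detAct hσ]
  exact ⟨N, hloc, fun N' hN' => law_ext_local fun S _ _ _ x => (hN' S x).trans (hloc S x).symm⟩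

end Groth.Agent.PolLawLib
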