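import Mathlib
import Groth.Agent.PolLawLib.Gamma

/-!
# Laws on products over a connected base; kernels after a separable base change
-/

set_option autoImplicit false

universe u

open scoped TensorProduct

namespace Groth.Agent.PolLawLib

variable {A : Type u} [CommRing A] {B₁ : Type u} [CommRing B₁] [Algebra A B₁] {B₂ : Type u} [CommRing B₂] [Algebra A B₂]
  {d : ℕ}

section pair

variable (A B₁ B₂)

/-- An element of `S ⊗ (B₁ × B₂)` with given components. -/
noncomputable def pair (S : Type u) [CommSemiring S] [Algebra A S] (a : S ⊗[A] B₁) (b : S ⊗[A] B₂) : S ⊗[A] (B₁ × B₂) :=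
  LinearMap.lTensor S (LinearMap.inl A B₁ B₂) a + LinearMap.lTensor S (LinearMap.inr A B₁ B₂) b

variable {A B₁ B₂}

theorem pair_eta (S : Type u) [CommSemiring S] [Algebra A S] (x : S ⊗[A] (B₁ × B₂)) :
    pair A B₁ B₂ S (LinearMap.lTensor S (LinearMap.fst A B₁ B₂) x) (LinearMap.lTensor S (LinearMap.snd A B₁ B₂) x) = x := by
  induction x using TensorProduct.induction_on with
  | zero => simp [pair]
  | tmul s b =>
    rw [pair, LinearMap.lTensor_tmul, LinearMap.lTensor_tmul, LinearMap.lTensor_tmul, LinearMap.lTensor_tmul,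
      ← TensorProduct.tmul_add]
    simp
  | add a b ha hb =>
    conv_rhs => rw [← ha, ← hb]
    simp only [pair, map_add]
    abel

theorem fst_pair (S : Type u) [CommSemiring S] [Algebra A S] (a : S ⊗[A] B₁) (b : S ⊗[A] B₂) :
    LinearMap.lTensor S (LinearMap.fst A B₁ B₂) (pair A B₁ B₂ S a b) = a := by
  rw [pair, map_add, ← LinearMap.lTensor_comp_apply, ← LinearMap.lTensor_comp_apply, LinearMap.fst_comp_inl,
    LinearMap.fst_comp_inr, LinearMap.lTensor_zero, LinearMap.zero_apply, add_zero, LinearMap.lTensor_id, LinearMap.id_apply]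

theorem snd_pair (S : Type u) [CommSemiring S] [Algebra A S] (a : S ⊗[A] B₁) (b : S ⊗[A] B₂) :
    LinearMap.lTensor S (LinearMap.snd A B₁ B₂) (pair A B₁ B₂ S a b) = b := by
  rw [pair, map_add, ← LinearMap.lTensor_comp_apply, ← LinearMap.lTensor_comp_apply, LinearMap.snd_comp_inl,
    LinearMap.snd_comp_inr, LinearMap.lTensor_zero, LinearMap.zero_apply, zero_add, LinearMap.lTensor_id, LinearMap.id_apply]

theorem inl_mul_inl (S : Type u) [CommSemiring S] [Algebra A S] (a a' : S ⊗[A] B₁) :
    LinearMap.lTensor S (LinearMap.inl A B₁ B₂) a * LinearMap.lTensor S (LinearMap.inl A B₁ B₂) a' =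
      LinearMap.lTensor S (LinearMap.inl A B₁ B₂) (a * a') := by
  induction a using TensorProduct.induction_on with
  | zero => simp
  | tmul s b =>
    induction a' using TensorProduct.induction_on with
    | zero => simp
    | tmul t c => simp [Algebra.TensorProduct.tmul_mul_tmul]
    | add p q hp hq => simp only [map_add, mul_add, hp, hq]
  | add p q hp hq => simp only [map_add, add_mul, hp, hq]

theorem inr_mul_inr (S : Type u) [CommSemiring S] [Algebra A S] (a a' : S ⊗[A] B₂) :
    LinearMap.lTensor S (LinearMap.inr A B₁ B₂) a * LinearMap.lTensor S (LinearMap.inr A B₁ B₂) a' =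
      LinearMap.lTensor S (LinearMap.inr A B₁ B₂) (a * a') := by
  induction a using TensorProduct.induction_on with
  | zero => simp
  | tmul s b =>
    induction a' using TensorProduct.induction_on with
    | zero => simp
    | tmul t c => simp [Algebra.TensorProduct.tmul_mul_tmul]
    | add p q hp hq => simp only [map_add, mul_add, hp, hq]
  | add p q hp hq => simp only [map_add, add_mul, hp, hq]

theorem inl_mul_inr (S : Type u) [CommSemiring S] [Algebra A S] (a : S ⊗[A] B₁) (b : S ⊗[A] B₂) :
    LinearMap.lTensor S (LinearMap.inl A B₁ B₂) a * LinearMap.lTensor S (LinearMap.inr A B₁ B₂) b = 0 := by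
  induction a using TensorProduct.induction_on with
  | zero => simp
  | tmul s c =>
    induction b using TensorProduct.induction_on with
    | zero => simp
    | tmul t e => simp [Algebra.TensorProduct.tmul_mul_tmul, Prod.mk_zero_zero]
    | add p q hp hq => simp only [map_add, mul_add, hp, hq, add_zero]
  | add p q hp hq => simp only [map_add, add_mul, hp, hq, add_zero]

theorem inr_mul_inl (S : Type u) [CommSemiring S] [Algebra A S] (a : S ⊗[A] B₁) (b : S ⊗[A] B₂) :
    LinearMap.lTensor S (LinearMap.inr A B₁ B₂) b * LinearMap.lTensor S (LinearMap.inl A B₁ B₂) a = 0 := by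
  rw [mul_comm]; exact inl_mul_inr S a b

theorem pair_mul (S : Type u) [CommSemiring S] [Algebra A S] (a a' : S ⊗[A] B₁) (b b' : S ⊗[A] B₂) :
    pair A B₁ B₂ S a b * pair A B₁ B₂ S a' b' = pair A B₁ B₂ S (a * a') (b * b') := by
  simp only [pair, mul_add, add_mul, inl_mul_inl, inr_mul_inr, inl_mul_inr, inr_mul_inl, add_zero, zero_add]

theorem pair_one (S : Type u) [CommSemiring S] [Algebra A S] : pair A B₁ B₂ S 1 1 = 1 := by
  simp [pair, Algebra.TensorProduct.one_def, ← TensorProduct.tmul_add, Prod.one_eq_mk]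

theorem rTensor_pair {S S' : Type u} [CommSemiring S] [Algebra A S] [CommSemiring S'] [Algebra A S'] (φ : S →ₐ[A] S')
    (a : S ⊗[A] B₁) (b : S ⊗[A] B₂) :
    φ.toLinearMap.rTensor (B₁ × B₂) (pair A B₁ B₂ S a b) =
      pair A B₁ B₂ S' (φ.toLinearMap.rTensor B₁ a) (φ.toLinearMap.rTensor B₂ b) := by
  simp only [pair, map_add, ← LinearMap.comp_apply, LinearMap.rTensor_comp_lTensor, LinearMap.lTensor_comp_rTensor]

end pair

variable (F : PolLaw.MulLaw A (B₁ × B₂) A d)

/-- The value as a scalar. -/
noncomputable def sval (S : Type u) [CommSemiring S] [Algebra A S] (x : S ⊗[A] (B₁ × B₂)) : S :=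
  TensorProduct.rid A S (F.law.toFun' S x)

theorem sval_compat {S S' : Type u} [CommSemiring S] [Algebra A S] [CommSemiring S'] [Algebra A S'] (φ : S →ₐ[A] S')
    (x : S ⊗[A] (B₁ × B₂)) : φ (sval F S x) = sval F S' (φ.toLinearMap.rTensor _ x) := by
  rw [sval, sval, ← PolynomialLaw.isCompat_apply' (f := F.law) φ x]
  generalize F.law.toFun' S x = z
  induction z using TensorProduct.induction_on with
  | zero => simp
  | tmul a b => simp
  | add a b ha hb => simp only [map_add, ha, hb]

theorem sval_mul (S : Type u) [CommSemiring S] [Algebra A S] (x y : S ⊗[A] (B₁ × B₂)) :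
    sval F S (x * y) = sval F S x * sval F S y := by
  rw [sval, sval, sval, (F.mult S).2]
  exact map_mul (Algebra.TensorProduct.rid A S S) _ _

theorem sval_one (S : Type u) [CommSemiring S] [Algebra A S] : sval F S 1 = 1 := by
  rw [sval, (F.mult S).1]
  exact map_one (Algebra.TensorProduct.rid A S S)

theorem sval_smul (S : Type u) [CommSemiring S] [Algebra A S] (s : S) (x : S ⊗[A] (B₁ × B₂)) :
    sval F S (s • x) = s ^ d * sval F S x := by
  rw [sval, sval, F.homog S]
  exact (map_smul (Algebra.TensorProduct.rid A S S) _ _).trans (smul_eq_mul _ _)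

/-- The polynomial `F(T, 1)`. -/
noncomputable def poly₁ : Polynomial A :=
  sval F (Polynomial A) (pair A B₁ B₂ _ ((Polynomial.X : Polynomial A) • 1) 1)

/-- The polynomial `F(1, T)`. -/
noncomputable def poly₂ : Polynomial A :=
  sval F (Polynomial A) (pair A B₁ B₂ _ 1 ((Polynomial.X : Polynomial A) • 1))

theorem rTensor_one {S S' : Type u} [CommSemiring S] [Algebra A S] [CommSemiring S'] [Algebra A S'] (φ : S →ₐ[A] S')
    (B : Type u) [CommRing B] [Algebra A B] : φ.toLinearMap.rTensor B 1 = 1 := by
  simp [Algebra.TensorProduct.one_def]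

theorem rTensor_smul_one {S S' : Type u} [CommSemiring S] [Algebra A S] [CommSemiring S'] [Algebra A S'] (φ : S →ₐ[A] S')
    (B : Type u) [CommRing B] [Algebra A B] (s : S) : φ.toLinearMap.rTensor B (s • 1) = φ s • 1 := by
  simp [Algebra.TensorProduct.one_def, TensorProduct.smul_tmul']

theorem aeval_poly₁ (S : Type u) [CommSemiring S] [Algebra A S] (s : S) :
    Polynomial.aeval s (poly₁ F) = sval F S (pair A B₁ B₂ S (s • 1) 1) := by
  rw [poly₁, sval_compat F (Polynomial.aeval s : Polynomial A →ₐ[A] S), rTensor_pair, rTensor_smul_one, rTensor_one,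
    Polynomial.aeval_X]

theorem aeval_poly₂ (S : Type u) [CommSemiring S] [Algebra A S] (s : S) :
    Polynomial.aeval s (poly₂ F) = sval F S (pair A B₁ B₂ S 1 (s • 1)) := by
  rw [poly₂, sval_compat F (Polynomial.aeval s : Polynomial A →ₐ[A] S), rTensor_pair, rTensor_smul_one, rTensor_one,
    Polynomial.aeval_X]

theorem eq_X_pow_of_mult [ConnectedSpace (PrimeSpectrum A)] (p : Polynomial A) (h1 : Polynomial.aeval (1 : A) p = 1)
    (hm : ∀ (S : Type u) [CommRing S] [Algebra A S] (s t : S),
      Polynomial.aeval (s * t) p = Polynomial.aeval s p * Polynomial.aeval t p) : ∃ k, p = Polynomial.X ^ k := by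
  classical
  let S := Polynomial (Polynomial A)
  let s : S := Polynomial.C Polynomial.X
  let t : S := Polynomial.X
  have h := hm S s t
  have hs : Polynomial.aeval s p = Polynomial.C p := by
    rw [show (Polynomial.aeval s : Polynomial A →ₐ[A] S) = Polynomial.CAlgHom from
      Polynomial.algHom_ext (by simp [s]; rfl)]
    rfl
  have ht : ∀ p : Polynomial A, Polynomial.aeval t p = p.map Polynomial.C := fun p => by
    induction p using Polynomial.induction_on' with
    | add p q hp hq => simp [hp, hq]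
    | monomial n a => simp [t, S, Polynomial.map_monomial, ← Polynomial.C_mul_X_pow_eq_monomial]
  have hst : ∀ (p : Polynomial A) (i j : ℕ),
      (((Polynomial.aeval (s * t) p) : S).coeff j).coeff i = if i = j then p.coeff i else 0 := by
    intro p i j
    induction p using Polynomial.induction_on' with
    | add p q hp hq => rw [map_add, Polynomial.coeff_add, Polynomial.coeff_add, hp, hq, Polynomial.coeff_add]; split_ifs <;> simp
    | monomial n a =>
      rw [Polynomial.aeval_monomial, mul_pow, ← map_pow, ← mul_assoc,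
        show algebraMap A S a * Polynomial.C (Polynomial.X ^ n) = Polynomial.C (Polynomial.C a * Polynomial.X ^ n) by simp [S, s],
        Polynomial.coeff_C_mul_X_pow, Polynomial.coeff_monomial]
      by_cases hj : j = n
      · subst hj
        rw [if_pos rfl, Polynomial.coeff_C_mul_X_pow]
        by_cases hi : i = j
        · subst hi; simp
        · simp [hi]
      · rw [if_neg hj, Polynomial.coeff_zero]
        by_cases hi : i = j
        · subst hi; simp [Ne.symm hj]
        · simp [hi]
  have key : ∀ i j, p.coeff i * p.coeff j = if i = j then p.coeff i else 0 := fun i j => by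
    rw [← hst p i j, h, hs, ht p, Polynomial.coeff_C_mul, Polynomial.coeff_map, Polynomial.coeff_mul_C]
  obtain ⟨i, hi⟩ : ∃ i, p.coeff i = 1 := by
    have hid : ∀ i, p.coeff i = 0 ∨ p.coeff i = 1 := fun i => by
      have hidem : IsIdempotentElem (p.coeff i) := by
        have := key i i; rwa [if_pos rfl] at this
      have hclop : IsClopen (PrimeSpectrum.zeroLocus ({p.coeff i} : Set A)) :=
        PrimeSpectrum.isClopen_iff_mul_add_zeroLocus.2
          ⟨p.coeff i, 1 - p.coeff i, by rw [mul_sub, mul_one, hidem.eq, sub_self], by ring, rfl⟩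
      rcases isClopen_iff.mp hclop with h | h
      · right
        have hu : IsUnit (p.coeff i) := Ideal.span_singleton_eq_top.mp
          (PrimeSpectrum.zeroLocus_empty_iff_eq_top.mp (by rw [PrimeSpectrum.zeroLocus_span]; exact h))
        exact (IsUnit.mul_left_inj hu).mp (by rw [one_mul]; exact hidem)
      · left
        refine hidem.eq_zero_of_isNilpotent (nilpotent_iff_mem_prime.mpr fun Q hQ => ?_)
        have hmem : (⟨Q, hQ⟩ : PrimeSpectrum A) ∈ PrimeSpectrum.zeroLocus ({p.coeff i} : Set A) := h ▸ Set.mem_univ _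
        simpa [PrimeSpectrum.mem_zeroLocus] using hmem
    by_contra hne'
    have hne : ∀ i, p.coeff i ≠ 1 := fun i hi => hne' ⟨i, hi⟩
    have hp : p = 0 := Polynomial.ext fun i => ((hid i).resolve_right (hne i)).trans (Polynomial.coeff_zero i).symm
    rw [hp, map_zero] at h1
    haveI : Nontrivial A := PrimeSpectrum.nonempty_iff_nontrivial.mp inferInstance
    exact zero_ne_one h1
  refine ⟨i, Polynomial.ext fun j => ?_⟩
  have := key i j
  rw [hi, one_mul] at this
  rw [this, Polynomial.coeff_X_pow]
  by_cases hij : i = j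
  · subst hij; simp
  · simp [hij, Ne.symm hij]

theorem exists_split [ConnectedSpace (PrimeSpectrum A)] :
    ∃ d₁ d₂ : ℕ, d₁ + d₂ = d ∧
      (∃ (F₁ : PolLaw.MulLaw A B₁ A d₁) (F₂ : PolLaw.MulLaw A B₂ A d₂),
        ∀ (S : Type u) [CommSemiring S] [Algebra A S] (x : S ⊗[A] (B₁ × B₂)),
          F.law.toFun' S x = F₁.law.toFun' S (LinearMap.lTensor S (LinearMap.fst A B₁ B₂) x) *
            F₂.law.toFun' S (LinearMap.lTensor S (LinearMap.snd A B₁ B₂) x)) ∧
      ∀ (e₁ e₂ : ℕ) (G₁ : PolLaw.MulLaw A B₁ A e₁) (G₂ : PolLaw.MulLaw A B₂ A e₂),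
        (∀ (S : Type u) [CommSemiring S] [Algebra A S] (x : S ⊗[A] (B₁ × B₂)),
          F.law.toFun' S x = G₁.law.toFun' S (LinearMap.lTensor S (LinearMap.fst A B₁ B₂) x) *
            G₂.law.toFun' S (LinearMap.lTensor S (LinearMap.snd A B₁ B₂) x)) → e₁ = d₁ ∧ e₂ = d₂ := by
  classical
  haveI : Nontrivial A := PrimeSpectrum.nonempty_iff_nontrivial.mp inferInstance
  obtain ⟨d₁, hd₁⟩ := eq_X_pow_of_mult (poly₁ F)
    (by rw [aeval_poly₁, one_smul, pair_one, sval_one])
    (fun S _ _ s t => by
      rw [aeval_poly₁, aeval_poly₁, aeval_poly₁, ← sval_mul, pair_mul, one_mul, smul_mul_smul_comm, one_mul])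
  obtain ⟨d₂, hd₂⟩ := eq_X_pow_of_mult (poly₂ F)
    (by rw [aeval_poly₂, one_smul, pair_one, sval_one])
    (fun S _ _ s t => by
      rw [aeval_poly₂, aeval_poly₂, aeval_poly₂, ← sval_mul, pair_mul, one_mul, smul_mul_smul_comm, one_mul])
  have hsum : d₁ + d₂ = d := by
    have h : sval F (Polynomial A) ((Polynomial.X : Polynomial A) • 1) = Polynomial.X ^ d₁ * Polynomial.X ^ d₂ := by
      rw [show ((Polynomial.X : Polynomial A) ^ d₁ * Polynomial.X ^ d₂) =
        sval F _ (pair A B₁ B₂ _ ((Polynomial.X : Polynomial A) • 1) 1) * sval F _ (pair A B₁ B₂ _ 1 ((Polynomial.X : Polynomial A) • 1)) by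
          rw [← aeval_poly₁, ← aeval_poly₂, hd₁, hd₂]; simp, ← sval_mul, pair_mul, mul_one, one_mul]
      congr 1
      conv_lhs => rw [← pair_eta (A := A) (B₁ := B₁) (B₂ := B₂) (Polynomial A) ((Polynomial.X : Polynomial A) • 1)]
      congr 1 <;> simp [Algebra.TensorProduct.one_def, TensorProduct.smul_tmul', Prod.one_eq_mk]
    rw [sval_smul, sval_one, mul_one, ← pow_add] at h
    have := congrArg Polynomial.natDegree h
    simpa using this.symm
  let F₁ : PolLaw.MulLaw A B₁ A d₁ :=
    { law :=
        { toFun' := fun S _ _ a => F.law.toFun' S (pair A B₁ B₂ S a 1)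
          isCompat' := fun {S} _ _ {S'} _ _ φ => funext fun a => by
            show φ.toLinearMap.rTensor A (F.law.toFun' S (pair A B₁ B₂ S a 1)) =
              F.law.toFun' S' (pair A B₁ B₂ S' (φ.toLinearMap.rTensor B₁ a) 1)
            rw [PolynomialLaw.isCompat_apply' (f := F.law) φ, rTensor_pair, rTensor_one] }
      homog := fun S _ _ s a => by
        show F.law.toFun' S (pair A B₁ B₂ S (s • a) 1) = s ^ d₁ • F.law.toFun' S (pair A B₁ B₂ S a 1)
        rw [show pair A B₁ B₂ S (s • a) 1 = pair A B₁ B₂ S (s • 1) 1 * pair A B₁ B₂ S a 1 by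
          rw [pair_mul, smul_mul_assoc, one_mul, one_mul], (F.mult S).2]
        have h := aeval_poly₁ F S s
        rw [hd₁, map_pow, Polynomial.aeval_X] at h
        obtain ⟨r, hr⟩ := (TensorProduct.rid A S).symm.surjective (F.law.toFun' S (pair A B₁ B₂ S (s • 1) 1))
        rw [sval, ← hr, LinearEquiv.apply_symm_apply] at h
        rw [← hr, ← h, TensorProduct.rid_symm_apply, Algebra.smul_def, Algebra.TensorProduct.algebraMap_apply]
        rfl
      mult := fun S _ _ => ⟨by
        show F.law.toFun' S (pair A B₁ B₂ S 1 1) = 1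
        rw [pair_one, (F.mult S).1], fun a b => by
        show F.law.toFun' S (pair A B₁ B₂ S (a * b) 1) = F.law.toFun' S (pair A B₁ B₂ S a 1) * F.law.toFun' S (pair A B₁ B₂ S b 1)
        rw [← (F.mult S).2, pair_mul, one_mul]⟩ }
  let F₂ : PolLaw.MulLaw A B₂ A d₂ :=
    { law :=
        { toFun' := fun S _ _ b => F.law.toFun' S (pair A B₁ B₂ S 1 b)
          isCompat' := fun {S} _ _ {S'} _ _ φ => funext fun a => by
            show φ.toLinearMap.rTensor A (F.law.toFun' S (pair A B₁ B₂ S 1 a)) =
              F.law.toFun' S' (pair A B₁ B₂ S' 1 (φ.toLinearMap.rTensor B₂ a))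
            rw [PolynomialLaw.isCompat_apply' (f := F.law) φ, rTensor_pair, rTensor_one] }
      homog := fun S _ _ s a => by
        show F.law.toFun' S (pair A B₁ B₂ S 1 (s • a)) = s ^ d₂ • F.law.toFun' S (pair A B₁ B₂ S 1 a)
        rw [show pair A B₁ B₂ S 1 (s • a) = pair A B₁ B₂ S 1 (s • 1) * pair A B₁ B₂ S 1 a by
          rw [pair_mul, smul_mul_assoc, one_mul, one_mul], (F.mult S).2]
        have h := aeval_poly₂ F S s
        rw [hd₂, map_pow, Polynomial.aeval_X] at h
        obtain ⟨r, hr⟩ := (TensorProduct.rid A S).symm.surjective (F.law.toFun' S (pair A B₁ B₂ S 1 (s • 1)))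
        rw [sval, ← hr, LinearEquiv.apply_symm_apply] at h
        rw [← hr, ← h, TensorProduct.rid_symm_apply, Algebra.smul_def, Algebra.TensorProduct.algebraMap_apply]
        rfl
      mult := fun S _ _ => ⟨by
        show F.law.toFun' S (pair A B₁ B₂ S 1 1) = 1
        rw [pair_one, (F.mult S).1], fun a b => by
        show F.law.toFun' S (pair A B₁ B₂ S 1 (a * b)) = F.law.toFun' S (pair A B₁ B₂ S 1 a) * F.law.toFun' S (pair A B₁ B₂ S 1 b)
        rw [← (F.mult S).2, pair_mul, one_mul]⟩ }
  refine ⟨d₁, d₂, hsum, ⟨F₁, F₂, fun S _ _ x => ?_⟩, fun e₁ e₂ G₁ G₂ hG => ?_⟩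
  · show F.law.toFun' S x = F.law.toFun' S (pair A B₁ B₂ S _ 1) * F.law.toFun' S (pair A B₁ B₂ S 1 _)
    rw [← (F.mult S).2, pair_mul, mul_one, one_mul, pair_eta]
  · have hdeg : ∀ k l, (Polynomial.X : Polynomial A) ^ k = Polynomial.X ^ l → k = l := fun k l h => by
      have := congrArg Polynomial.natDegree h; simpa using this
    constructor
    · refine hdeg _ _ ?_
      rw [← hd₁, poly₁, sval, hG, fst_pair, snd_pair, G₁.homog, (G₁.mult _).1, (G₂.mult _).1, mul_one]
      simp [Algebra.TensorProduct.one_def, TensorProduct.smul_tmul']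
    · refine hdeg _ _ ?_
      rw [← hd₂, poly₂, sval, hG, fst_pair, snd_pair, G₂.homog, (G₁.mult _).1, (G₂.mult _).1, one_mul]
      simp [Algebra.TensorProduct.one_def, TensorProduct.smul_tmul']

end Groth.Agent.PolLawLib
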