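import Mathlib
import Groth.Prelude.Def_PolLaw2
import Groth.Agent.PolLawLib.Split

/-!
# The norm law of a finite étale algebra is the only law with full support
-/

set_option autoImplicit false

universe u
open scoped TensorProduct

namespace Groth.Agent.PolLawLib

variable {A B : Type u} [CommRing A] [CommRing B] [Algebra A B] {d n : ℕ}

/-- The scalar value of a law into the base. -/
noncomputable def val (F : PolLaw.MulLaw A B A d) (R : Type u) [CommSemiring R] [Algebra A R] (x : R ⊗[A] B) : R :=
  Algebra.TensorProduct.rid A R R (F.law.toFun' R x)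

variable (F : PolLaw.MulLaw A B A d)

theorem val_one (R : Type u) [CommSemiring R] [Algebra A R] : val F R 1 = 1 := by
  rw [val, (F.mult R).1, map_one]

theorem val_mul (R : Type u) [CommSemiring R] [Algebra A R] (x y : R ⊗[A] B) : val F R (x * y) = val F R x * val F R y := by
  rw [val, (F.mult R).2, map_mul]; rfl

theorem val_smul (R : Type u) [CommSemiring R] [Algebra A R] (r : R) (x : R ⊗[A] B) :
    val F R (r • x) = r ^ d * val F R x := by
  rw [val, F.homog R, map_smul]; rfl

theorem val_prod (R : Type u) [CommSemiring R] [Algebra A R] {ι : Type*} (s : Finset ι) (f : ι → R ⊗[A] B) :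
    val F R (∏ i ∈ s, f i) = ∏ i ∈ s, val F R (f i) := by
  classical
  induction s using Finset.induction with
  | empty => simp [val_one]
  | insert a s ha ih => rw [Finset.prod_insert ha, Finset.prod_insert ha, val_mul, ih]

theorem val_map {R R' : Type u} [CommSemiring R] [Algebra A R] [CommSemiring R'] [Algebra A R'] (φ : R →ₐ[A] R')
    (x : R ⊗[A] B) : φ (val F R x) = val F R' (φ.toLinearMap.rTensor B x) := by
  rw [val, val, ← PolynomialLaw.isCompat_apply' (f := F.law) φ x]
  generalize F.law.toFun' R x = z
  induction z using TensorProduct.induction_on with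
  | zero => simp
  | tmul a b => simp
  | add a b ha hb => simp only [map_add, ha, hb]

theorem toFun'_eq_val (R : Type u) [CommSemiring R] [Algebra A R] (x : R ⊗[A] B) :
    F.law.toFun' R x = val F R x ⊗ₜ[A] (1 : A) := by
  apply (Algebra.TensorProduct.rid A R R).injective
  simp [val]

theorem rTensor_smul_elt {R R' : Type u} [CommSemiring R] [Algebra A R] [CommSemiring R'] [Algebra A R'] (φ : R →ₐ[A] R')
    (s : R) (z : R ⊗[A] B) : φ.toLinearMap.rTensor B (s • z) = φ s • φ.toLinearMap.rTensor B z := by
  induction z using TensorProduct.induction_on with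
  | zero => simp
  | tmul a b => simp [TensorProduct.smul_tmul', LinearMap.rTensor_tmul]
  | add a b ha hb => simp only [smul_add, map_add, ha, hb]

theorem connectedSpace_primeSpectrum (R : Type u) [CommRing R] [IsLocalRing R] : ConnectedSpace (PrimeSpectrum R) := by
  have hmem : ∀ s : Set (PrimeSpectrum R), IsOpen (sᶜ) → s.Nonempty → IsLocalRing.closedPoint R ∈ s := fun s hs ⟨x, hx⟩ => by
    by_contra h
    exact (IsLocalRing.specializes_closedPoint x).mem_open hs h hx
  refine connectedSpace_iff_clopen.mpr ⟨inferInstance, fun s hs => ?_⟩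
  rcases s.eq_empty_or_nonempty with h | h
  · exact Or.inl h
  refine Or.inr (Set.eq_univ_of_forall fun x => ?_)
  by_contra hx
  exact hmem sᶜ (by rw [compl_compl]; exact hs.isOpen) ⟨x, hx⟩ (hmem s hs.isClosed.isOpen_compl h)

/-- A splitting of `R ⊗[A] B`. -/
structure Splitting (R : Type u) [CommRing R] [Algebra A R] (n : ℕ) where
  pt : Fin n → (B →ₐ[A] R)
  idem : Fin n → R ⊗[A] B
  eval_idem : ∀ i j, Algebra.TensorProduct.lift (Algebra.ofId R R) (pt j) (fun _ _ => Commute.all _ _) (idem i) =
    if i = j then 1 else 0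
  sum_eq : ∀ x : R ⊗[A] B,
    x = ∑ i, Algebra.TensorProduct.lift (Algebra.ofId R R) (pt i) (fun _ _ => Commute.all _ _) x • idem i

namespace Splitting

variable {R : Type u} [CommRing R] [Algebra A R] (P : Splitting (A := A) (B := B) R n)

noncomputable def ev (i : Fin n) : R ⊗[A] B →ₐ[R] R :=
  Algebra.TensorProduct.lift (Algebra.ofId R R) (P.pt i) (fun _ _ => Commute.all _ _)

theorem ev_tmul (i : Fin n) (r : R) (b : B) : P.ev i (r ⊗ₜ[A] b) = r * P.pt i b := by simp [ev]

theorem ext {x y : R ⊗[A] B} (h : ∀ i, P.ev i x = P.ev i y) : x = y := by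
  rw [P.sum_eq x, P.sum_eq y]
  exact Finset.sum_congr rfl fun i _ => congrArg (fun a => a • P.idem i) (h i)

/-- Push a splitting forward along a map of test rings. -/
noncomputable def map {R' : Type u} [CommRing R'] [Algebra A R'] (φ : R →ₐ[A] R') : Splitting (A := A) (B := B) R' n where
  pt i := φ.comp (P.pt i)
  idem i := φ.toLinearMap.rTensor B (P.idem i)
  eval_idem i j := by
    have h : ∀ z : R ⊗[A] B,
        Algebra.TensorProduct.lift (Algebra.ofId R' R') (φ.comp (P.pt j)) (fun _ _ => Commute.all _ _)
          (φ.toLinearMap.rTensor B z) = φ (P.ev j z) := fun z => by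
      induction z using TensorProduct.induction_on with
      | zero => simp
      | tmul a b => simp [ev_tmul, LinearMap.rTensor_tmul]
      | add a b ha hb => simp only [map_add, ha, hb]
    rw [h, ev, P.eval_idem]
    split_ifs <;> simp
  sum_eq x := by
    induction x using TensorProduct.induction_on with
    | zero => simp
    | tmul r b =>
      have hb : (1 : R) ⊗ₜ[A] b = ∑ i, P.pt i b • P.idem i := by
        conv_lhs => rw [P.sum_eq ((1 : R) ⊗ₜ[A] b)]
        simp
      calc r ⊗ₜ[A] b = r • φ.toLinearMap.rTensor B ((1 : R) ⊗ₜ[A] b) := by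
            rw [LinearMap.rTensor_tmul, AlgHom.toLinearMap_apply, map_one, TensorProduct.smul_tmul', smul_eq_mul, mul_one]
        _ = _ := by
            rw [hb, map_sum, Finset.smul_sum]
            refine Finset.sum_congr rfl fun i _ => ?_
            rw [rTensor_smul_elt, smul_smul]
            simp
    | add a b ha hb =>
      conv_lhs => rw [ha, hb]
      simp only [map_add, add_smul, Finset.sum_add_distrib]

/-- The element with component `s` at `i` and `1` elsewhere. -/
noncomputable def E (i : Fin n) (s : R) : R ⊗[A] B := s • P.idem i + (1 - P.idem i)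

theorem ev_E (i j : Fin n) (s : R) : P.ev j (P.E i s) = if i = j then s else 1 := by
  rw [E, map_add, map_smul, map_sub, map_one, show P.ev j (P.idem i) = _ from P.eval_idem i j]
  split_ifs <;> simp

theorem prod_E (x : R ⊗[A] B) : ∏ i, P.E i (P.ev i x) = x := by
  refine P.ext fun j => ?_
  rw [map_prod, Finset.prod_eq_single j]
  · rw [ev_E, if_pos rfl]
  · intro i _ h; rw [ev_E, if_neg h]
  · simp

theorem exists_exponents [ConnectedSpace (PrimeSpectrum R)] [Nontrivial R] :
    ∃ k : Fin n → ℕ, (∑ i, k i) = d ∧ ∀ x, val F R x = ∏ i, P.ev i x ^ k i := by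
  classical
  let S := Polynomial R
  have hE : ∀ {R' : Type u} [CommRing R'] [Algebra A R'] (φ : R →ₐ[A] R') (i : Fin n) (s : R'),
      (P.map φ).E i s = s • φ.toLinearMap.rTensor B (P.idem i) + (1 - φ.toLinearMap.rTensor B (P.idem i)) :=
    fun φ i s => rfl
  let p : Fin n → Polynomial R := fun i => val F S ((P.map (IsScalarTower.toAlgHom A R S)).E i Polynomial.X)
  have hp : ∀ i (R' : Type u) [CommRing R'] [Algebra A R'] [Algebra R R'] [IsScalarTower A R R'] (s : R'),
      Polynomial.aeval s (p i) = val F R' ((P.map (IsScalarTower.toAlgHom A R R')).E i s) := by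
    intro i R' _ _ _ _ s
    let ψ : S →ₐ[A] R' := (Polynomial.aeval s : S →ₐ[R] R').restrictScalars A
    show ψ (p i) = _
    rw [val_map, hE, hE, map_add, rTensor_smul_elt, map_sub, PolLaw.rTensor_algHom_apply ψ 1, map_one,
      ← LinearMap.rTensor_comp_apply,
      show ψ.toLinearMap ∘ₗ (IsScalarTower.toAlgHom A R S).toLinearMap = (IsScalarTower.toAlgHom A R R').toLinearMap from
        LinearMap.ext fun r => by simp [ψ, S],
      show ψ Polynomial.X = s from Polynomial.aeval_X s]
  have hk : ∀ i, ∃ k, p i = Polynomial.X ^ k := fun i => by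
    refine eq_X_pow_of_mult (p i) ?_ fun R' _ _ s t => ?_
    · rw [hp, show (P.map (IsScalarTower.toAlgHom A R R)).E i 1 = 1 by simp [E], val_one]
    · letI : Algebra A R' := Algebra.compHom R' (algebraMap A R)
      haveI : IsScalarTower A R R' := IsScalarTower.of_algebraMap_eq fun _ => rfl
      rw [hp, hp, hp, ← val_mul]
      congr 1
      refine (P.map (IsScalarTower.toAlgHom A R R')).ext fun j => ?_
      rw [map_mul, ev_E, ev_E, ev_E]
      split_ifs <;> simp
  choose k hk using hk
  have hR : ∀ i (s : R), val F R (P.E i s) = s ^ k i := fun i s => by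
    have h := hp i R s
    have h2 : (P.map (IsScalarTower.toAlgHom A R R)).E i s = P.E i s := by
      rw [hE, show (IsScalarTower.toAlgHom A R R).toLinearMap = LinearMap.id from rfl, LinearMap.rTensor_id]; rfl
    rw [h2, hk, map_pow, Polynomial.aeval_X] at h
    exact h.symm
  have hval : ∀ x, val F R x = ∏ i, P.ev i x ^ k i := fun x => by
    conv_lhs => rw [← P.prod_E x, val_prod]
    exact Finset.prod_congr rfl fun i _ => hR i _
  refine ⟨k, ?_, hval⟩
  -- homogeneity over the polynomial ring
  let Q := P.map (IsScalarTower.toAlgHom A R S)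
  have hX : val F S ((Polynomial.X : S) • 1) = (Polynomial.X : S) ^ d := by rw [val_smul, val_one, mul_one]
  rw [← Q.prod_E ((Polynomial.X : S) • 1), val_prod] at hX
  have : ∀ i, val F S (Q.E i (Q.ev i ((Polynomial.X : S) • 1))) = (Polynomial.X : S) ^ k i := fun i => by
    rw [map_smul, map_one, smul_eq_mul, mul_one]
    exact hk i
  rw [Finset.prod_congr rfl fun i _ => this i, Finset.prod_pow_eq_pow_sum] at hX
  have := congrArg Polynomial.natDegree hX
  rwa [Polynomial.natDegree_X_pow, Polynomial.natDegree_X_pow] at this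

end Splitting

section
variable [Algebra.Etale A B]

/-- The element detecting the points where the exponent of `F` is zero. -/
noncomputable def zeroElt : B :=
  val F B (1 - (Algebra.FormallyUnramified.elem A B))

theorem ev_elem {R : Type u} [CommRing R] [Algebra A R] (P : Splitting (A := A) (B := B) R n) (i : Fin n) :
    (P.pt i).toLinearMap.rTensor B (Algebra.FormallyUnramified.elem A B) = P.idem i := by
  classical
  set e := Algebra.FormallyUnramified.elem A B
  set e' := (P.pt i).toLinearMap.rTensor B e with he'
  refine P.ext fun j => ?_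
  rw [show P.ev j (P.idem i) = _ from P.eval_idem i j]
  have hmap : ∀ j (z : B ⊗[A] B), P.ev j ((P.pt i).toLinearMap.rTensor B z) =
      Algebra.TensorProduct.lift (P.pt i) (P.pt j) (fun _ _ => Commute.all _ _) z := fun j z => by
    induction z using TensorProduct.induction_on with
    | zero => simp
    | tmul a b => simp [Splitting.ev_tmul, LinearMap.rTensor_tmul]
    | add a b ha hb => simp only [map_add, ha, hb]
  split_ifs with h
  · subst h
    rw [hmap]
    have : ∀ z : B ⊗[A] B, Algebra.TensorProduct.lift (P.pt i) (P.pt i) (fun _ _ => Commute.all _ _) z =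
        P.pt i (Algebra.TensorProduct.lmul' A (S := B) z) := fun z => by
      induction z using TensorProduct.induction_on with
      | zero => simp
      | tmul a b => simp
      | add a b ha hb => simp only [map_add, ha, hb]
    rw [this, Algebra.FormallyUnramified.lmul_elem, map_one]
  · have hb : ∀ b : B, (P.pt j b - P.pt i b) * P.ev j e' = 0 := fun b => by
      have h0 := congrArg (Algebra.TensorProduct.lift (P.pt i) (P.pt j) (fun _ _ => Commute.all _ _))
        (Algebra.FormallyUnramified.one_tmul_sub_tmul_one_mul_elem (R := A) b)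
      rw [map_mul, map_sub, map_zero, Algebra.TensorProduct.lift_tmul, Algebra.TensorProduct.lift_tmul, map_one, map_one,
        one_mul, mul_one, ← hmap] at h0
      exact h0
    have key : ∀ z : R ⊗[A] B, (P.ev j z - P.ev i z) * P.ev j e' = 0 := fun z => by
      induction z using TensorProduct.induction_on with
      | zero => simp
      | tmul r b => rw [P.ev_tmul, P.ev_tmul, ← mul_sub, mul_assoc, hb, mul_zero]
      | add a b ha hb => rw [map_add, map_add, add_sub_add_comm, add_mul, ha, hb, add_zero]
    have := key (P.idem j)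
    rw [show P.ev j (P.idem j) = _ from P.eval_idem j j, show P.ev i (P.idem j) = _ from P.eval_idem j i, if_pos rfl,
      if_neg (Ne.symm h), sub_zero, one_mul] at this
    exact this

theorem pt_zeroElt {R : Type u} [CommRing R] [Algebra A R] (P : Splitting (A := A) (B := B) R n) {k : Fin n → ℕ}
    (hk : ∀ x, val F R x = ∏ i, P.ev i x ^ k i) (i : Fin n) : P.pt i (zeroElt F) = 0 ^ k i := by
  rw [zeroElt, val_map, map_sub, PolLaw.rTensor_algHom_apply (P.pt i) 1, map_one, ev_elem P i, hk,
    Finset.prod_eq_single i]
  · rw [map_sub, map_one, show P.ev i (P.idem i) = _ from P.eval_idem i i, if_pos rfl, sub_self]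
  · intro j _ h
    rw [map_sub, map_one, show P.ev j (P.idem i) = _ from P.eval_idem i j, if_neg (Ne.symm h), sub_zero, one_pow]
  · simp

end

section split
variable [Module.Free A B] [Module.Finite A B]

theorem exists_splitting_of_isFiniteSplit (hd : Module.finrank A B = d) (T : Type u) [CommRing T] [Algebra A T] [Nontrivial T]
    [Algebra.IsFiniteSplit T (T ⊗[A] B)] : Nonempty (Splitting (A := A) (B := B) T d) := by
  classical
  haveI : Nontrivial A := (algebraMap A T).domain_nontrivial
  obtain ⟨m, ⟨e⟩⟩ := Algebra.IsFiniteSplit.nonempty_algEquiv_fun T (T ⊗[A] B)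
  have hm : m = d := by
    have := e.toLinearEquiv.finrank_eq
    rw [Module.finrank_baseChange, hd, Module.finrank_fin_fun] at this
    exact this.symm
  subst hm
  let pt : Fin m → (B →ₐ[A] T) := fun i =>
    ((Pi.evalAlgHom T (fun _ : Fin m => T) i).comp e.toAlgHom).restrictScalars A |>.comp Algebra.TensorProduct.includeRight
  have hev : ∀ i x, Algebra.TensorProduct.lift (Algebra.ofId T T) (pt i) (fun _ _ => Commute.all _ _) x = e x i := fun i x => by
    induction x using TensorProduct.induction_on with
    | zero => simp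
    | tmul t b =>
      rw [show t ⊗ₜ[A] b = t • ((1 : T) ⊗ₜ[A] b) by rw [TensorProduct.smul_tmul', smul_eq_mul, mul_one], map_smul, map_smul]
      simp [pt]
    | add a b ha hb => simp only [map_add, Pi.add_apply, ha, hb]
  refine ⟨⟨pt, fun i => e.symm (Pi.single i 1), fun i j => ?_, fun x => ?_⟩⟩
  · rw [hev, AlgEquiv.apply_symm_apply, Pi.single_apply]
    exact if_congr eq_comm rfl rfl
  · apply e.injective
    simp only [map_sum, map_smul, AlgEquiv.apply_symm_apply, hev]
    funext i
    simp [Finset.sum_apply, Pi.single_apply]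

theorem norm_eq_prod {R : Type u} [CommRing R] [Algebra A R] (P : Splitting (A := A) (B := B) R n) (x : R ⊗[A] B) :
    Algebra.norm R x = ∏ i, P.ev i x := by
  classical
  let e : (R ⊗[A] B) ≃ₐ[R] (Fin n → R) := AlgEquiv.ofBijective (Pi.algHom R _ fun i => P.ev i)
    ⟨fun a b h => P.ext fun i => congrFun h i, fun v => ⟨∑ i, v i • P.idem i, by
      funext j
      show P.ev j (∑ i, v i • P.idem i) = v j
      rw [map_sum, Finset.sum_eq_single j]
      · rw [map_smul, show P.ev j (P.idem j) = _ from P.eval_idem j j, if_pos rfl, smul_eq_mul, mul_one]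
      · intro i _ h
        rw [map_smul, show P.ev j (P.idem i) = _ from P.eval_idem i j, if_neg h, smul_zero]
      · simp⟩⟩
  rw [← Algebra.norm_eq_of_algEquiv e x, Algebra.norm_eq_matrix_det (Pi.basisFun R (Fin n))]
  rw [show Algebra.leftMulMatrix (Pi.basisFun R (Fin n)) (e x) = Matrix.diagonal (e x) from ?_, Matrix.det_diagonal]
  · rfl
  · ext i j
    rw [Algebra.leftMulMatrix_eq_repr_mul, Pi.basisFun_repr, Pi.basisFun_apply, Matrix.diagonal_apply]
    by_cases h : i = j
    · subst h; simp
    · simp [h]

end split

variable [Module.Free A B] [Module.Finite A B] [Algebra.Etale A B]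

/-- Work in the local rings of a split cover. -/
theorem exists_cover (hd : Module.finrank A B = d) : ∃ (T : Type u) (_ : CommRing T) (_ : Algebra A T),
    Module.FaithfullyFlat A T ∧ (Nontrivial A → Nonempty (Splitting (A := A) (B := B) T d)) := by
  obtain ⟨T, _, _, hff, _, _, hsp⟩ := Algebra.IsFiniteSplit.exists_tensorProduct_of_etale (R := A) (S := B) (n := d) (by
    rcases subsingleton_or_nontrivial A with h | h
    · ext p; exact (p.2.ne_top (Subsingleton.elim _ _)).elim
    · rw [Module.rankAtStalk_eq_finrank_of_free, hd])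
  refine ⟨T, ‹_›, ‹_›, hff, fun hA => ?_⟩
  haveI := hff
  haveI : Nontrivial (T ⊗[A] A) := (Module.FaithfullyFlat.tensorProduct_mk_injective (A := A) (B := T) A).nontrivial
  haveI : Nontrivial T := (TensorProduct.rid A T).toEquiv.symm.nontrivial
  exact exists_splitting_of_isFiniteSplit hd T

theorem eq_of_localSplit (hd : Module.finrank A B = d) (S : Type u) [CommRing S] [Algebra A S] (a b : S)
    (h : ∀ (R : Type u) [CommRing R] [IsLocalRing R] [Algebra A R] (φ : S →ₐ[A] R),
      Nonempty (Splitting (A := A) (B := B) R d) → φ a = φ b) : a = b := by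
  obtain ⟨T, _, _, hff, hsp⟩ := exists_cover (B := B) hd
  rcases subsingleton_or_nontrivial A with hA | hA
  · haveI : Subsingleton S := RingHom.codomain_trivial (algebraMap A S)
    exact Subsingleton.elim _ _
  obtain ⟨P⟩ := hsp hA
  have hinj : Function.Injective (Algebra.TensorProduct.includeRight : S →ₐ[A] T ⊗[A] S) := by
    haveI := hff
    exact Module.FaithfullyFlat.tensorProduct_mk_injective (A := A) (B := T) S
  refine hinj (sub_eq_zero.mp (eq_zero_of_localization _ fun J hJ => ?_))
  let R := Localization.AtPrime J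
  let φ : S →ₐ[A] R := (IsScalarTower.toAlgHom A (T ⊗[A] S) R).comp Algebra.TensorProduct.includeRight
  rw [map_sub, sub_eq_zero]
  exact h R φ ⟨P.map ((IsScalarTower.toAlgHom A (T ⊗[A] S) R).comp Algebra.TensorProduct.includeLeft)⟩

theorem zeroElt_mem_ker (hd : Module.finrank A B = d) : zeroElt F ∈ PolLaw.ker F.law := by
  intro S _ _ x w
  letI : CommRing S := { (inferInstance : CommSemiring S), Algebra.semiringToRing A (A := S) with }
  rw [toFun'_eq_val, toFun'_eq_val]
  congr 1
  refine eq_of_localSplit hd S _ _ fun R _ _ _ φ ⟨P⟩ => ?_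
  haveI := connectedSpace_primeSpectrum R
  obtain ⟨k, -, hk⟩ := Splitting.exists_exponents F P
  rw [val_map, val_map, hk, hk]
  refine Finset.prod_congr rfl fun i _ => ?_
  rw [map_add, map_add]
  by_cases h : k i = 0
  · rw [h, pow_zero, pow_zero]
  · rw [PolLaw.rTensor_algHom_apply φ (w * _), map_mul, map_mul, Algebra.TensorProduct.map_tmul, map_one, AlgHom.id_apply,
      P.ev_tmul, pt_zeroElt F P hk, zero_pow h, mul_zero, mul_zero, add_zero]

theorem val_eq_prod (hd : Module.finrank A B = d) (hF : PolLaw.ker F.law ≤ nilradical B)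
    {R : Type u} [CommRing R] [IsLocalRing R] [Algebra A R] (P : Splitting (A := A) (B := B) R d) (x : R ⊗[A] B) :
    val F R x = ∏ i, P.ev i x := by
  haveI := connectedSpace_primeSpectrum R
  obtain ⟨k, hsum, hk⟩ := Splitting.exists_exponents F P
  have h1 : ∀ i, 1 ≤ k i := fun i => by
    by_contra h
    have h0 : k i = 0 := by omega
    have hn := (mem_nilradical.mp (hF (zeroElt_mem_ker F hd))).map (P.pt i)
    rw [pt_zeroElt F P hk, h0, pow_zero] at hn
    exact not_isNilpotent_one hn
  have h2 : ∀ i, k i = 1 := fun i => by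
    have hs : ∑ j : Fin d, 1 = ∑ j, k j := by simp [hsum]
    exact ((Finset.sum_eq_sum_iff_of_le fun j _ => h1 j).mp hs i (Finset.mem_univ _)).symm
  rw [hk]
  simp [h2]

theorem normLaw_ker_unique (hd : Module.finrank A B = d) (N : PolLaw.MulLaw A B A d)
    (hN : ∀ (S : Type u) [CommRing S] [Algebra A S] (x : S ⊗[A] B),
      N.law.toFun' S x = Algebra.norm S x ⊗ₜ[A] (1 : A)) :
    PolLaw.ker N.law = ⊥ ∧ ∀ F : PolLaw.MulLaw A B A d, PolLaw.ker F.law ≤ nilradical B → F = N := by
  classical
  have hval : ∀ (R : Type u) [CommRing R] [Algebra A R] (P : Splitting (A := A) (B := B) R d) (x : R ⊗[A] B),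
      val N R x = ∏ i, P.ev i x := fun R _ _ P x => by
    rw [← norm_eq_prod P, val, hN]; simp
  refine ⟨(Submodule.eq_bot_iff _).mpr fun b hb => ?_, fun F hF => ?_⟩
  · refine (Module.Free.chooseBasis A B).repr.injective (Finsupp.ext fun j => ?_)
    rw [map_zero, Finsupp.zero_apply]
    refine eq_of_localSplit hd A _ _ fun R _ _ _ φ ⟨P⟩ => ?_
    have hb0 : (1 : R) ⊗ₜ[A] b = 0 := by
      refine P.ext fun i => ?_
      have h := congrArg (Algebra.TensorProduct.rid A R R) (hb R 1 (P.idem i))
      rw [show Algebra.TensorProduct.rid A R R (N.law.toFun' R _) = val N R _ from rfl,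
        show Algebra.TensorProduct.rid A R R (N.law.toFun' R 1) = val N R 1 from rfl, hval R P, hval R P,
        Finset.prod_eq_single i, Finset.prod_eq_one (fun j _ => map_one _), map_add, map_mul, map_one,
        show P.ev i (P.idem i) = _ from P.eval_idem i i, if_pos rfl, one_mul] at h
      · rw [map_zero]; simpa using h
      · intro j _ hji
        rw [map_add, map_mul, map_one, show P.ev j (P.idem i) = _ from P.eval_idem i j, if_neg (Ne.symm hji), zero_mul, add_zero]
      · simp
    have h2 := congrArg (fun z => (Algebra.TensorProduct.basis R (Module.Free.chooseBasis A B)).repr z j) hb0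
    simp only [map_zero, Finsupp.zero_apply, Algebra.TensorProduct.basis_repr_tmul, one_smul, Finsupp.mapRange_apply] at h2
    rw [map_zero, ← h2]
    exact φ.commutes _
  · refine PolLaw.MulLaw.ext ?_
    ext S _ _ x
    letI : CommRing S := { (inferInstance : CommSemiring S), Algebra.semiringToRing A (A := S) with }
    rw [toFun'_eq_val, toFun'_eq_val]
    congr 1
    refine eq_of_localSplit hd S _ _ fun R _ _ _ φ ⟨P⟩ => ?_
    rw [val_map, val_map, val_eq_prod F hd hF P, hval R P]

end Groth.Agent.PolLawLib
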