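import Mathlib
import Groth.Agent.PolLawLib.Gamma

/-!
# Generators of `Γ^d`
-/

set_option autoImplicit false

universe u

open scoped TensorProduct
open MvPolynomial

namespace Groth.Agent.PolLawLib

variable {A : Type u} [CommRing A] {B : Type u} [CommRing B] [Algebra A B] {C : Type u} [CommRing C] [Algebra A C]
  {d : ℕ} {σ : Type u}

section Psi

variable (F : PolLaw.MulLaw A (MvPolynomial σ A) C d)

/-- Symmetric polynomials into the target. -/
noncomputable def Psi : symAlg A σ d →ₐ[A] C where
  toFun z := TensorProduct.lid A C (Phi F A z.1)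
  map_one' := by simp [Phi_one, Algebra.TensorProduct.one_def]
  map_mul' z w := by
    show TensorProduct.lid A C (Phi F A (z.1 * w.1)) = _
    rw [Phi_mul F z.2 w.2, show TensorProduct.lid A C (Phi F A z.1 * Phi F A w.1) =
      (Algebra.TensorProduct.lid A C) (Phi F A z.1 * Phi F A w.1) from rfl, map_mul]
    rfl
  map_zero' := by simp
  map_add' z w := by simp
  commutes' a := by
    show TensorProduct.lid A C (Phi F A (MvPolynomial.C a)) = _
    rw [Phi_C, TensorProduct.lid_tmul, Algebra.smul_def, mul_one]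

theorem Psi_orb (κ : (σ →₀ ℕ) →₀ ℕ) (h : IsSym (orb (σ := σ) A d κ)) :
    Psi F ⟨_, h⟩ = coefA κ (lawP F _ (gen κ.support)) :=
  (Phi_orb F κ).trans (congrArg _ (lawP_gen F κ.support).symm)

theorem isSym_orb (R : Type u) [CommSemiring R] (κ : (σ →₀ ℕ) →₀ ℕ) : IsSym (orb (σ := σ) R d κ) := by
  classical
  intro π
  ext e
  have hinj : Function.Injective fun p : Fin d × σ => (π p.1, p.2) := fun p q h => by
    simp only [Prod.mk.injEq] at h; exact Prod.ext (π.injective h.1) h.2
  obtain ⟨e', rfl⟩ := Finsupp.mapDomain_surjective (M := ℕ) (f := fun p : Fin d × σ => (π p.1, p.2))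
    (fun q => ⟨(π.symm q.1, q.2), by simp⟩) e
  rw [coeff_rename_mapDomain _ hinj, coeff_orb, coeff_orb]
  congr 2
  have : split (e'.mapDomain fun p : Fin d × σ => (π p.1, p.2)) = split e' ∘ π.symm := by
    funext l; ext s
    obtain ⟨k, rfl⟩ := π.surjective l
    rw [Function.comp_apply, π.symm_apply_apply, split_apply, split_apply]
    exact Finsupp.mapDomain_apply hinj e' (k, s)
  rw [this]
  simp only [kap]
  exact (Fintype.sum_equiv π.symm _ _ fun l => rfl).symm

theorem Phi_mem_range (N₀ : Submodule A C) {R : Type u} [CommRing R] [Algebra A R] {z : MvPolynomial (Fin d × σ) R}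
    (hz : IsSym z) (h : ∀ e ∈ z.support, Psi F ⟨_, isSym_orb A (kap (split e))⟩ ∈ N₀) :
    Phi F R z ∈ LinearMap.range (N₀.subtype.lTensor R) := by
  classical
  rw [hz.eq_sum, map_sum]
  refine Submodule.sum_mem _ fun κ hκ => ?_
  obtain ⟨e, he, rfl⟩ := Finset.mem_image.mp hκ
  rw [← smul_eq_C_mul, map_smul, ← map_orb (algebraMap A R), Phi_map_algebraMap]
  refine ⟨z.coeff (join (rep (kap (split e)))) • ((1 : R) ⊗ₜ[A] ⟨_, h e he⟩), ?_⟩
  rw [TensorProduct.smul_tmul', LinearMap.lTensor_tmul, TensorProduct.smul_tmul']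
  rfl

end Psi

section pres

variable (γ : PolLaw.MulLaw A B C d) (π : MvPolynomial σ A →ₐ[A] B)

theorem lawP_precomp (R : Type u) [CommRing R] [Algebra A R] (y : MvPolynomial σ R) :
    lawP (γ.precomp π) R y = γ.law.toFun' R (π.toLinearMap.lTensor R ((algebraTensorAlgEquiv A R).symm y)) := rfl

theorem coefA_mem {M : Type u} (N₀ : Submodule A C) (κ : M →₀ ℕ) {z : MvPolynomial M A ⊗[A] C}
    (hz : z ∈ LinearMap.range (N₀.subtype.lTensor (MvPolynomial M A))) : coefA κ z ∈ N₀ := by
  obtain ⟨w, rfl⟩ := hz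
  induction w using TensorProduct.induction_on with
  | zero => simp
  | tmul p c => rw [LinearMap.lTensor_tmul, coefA_tmul]; exact N₀.smul_mem _ c.2
  | add a b ha hb => rw [map_add, map_add]; exact N₀.add_mem ha hb

variable {γ π}

theorem Psi_surjective (hγ : PolLaw.IsGammaD γ) (hπ : Function.Surjective π) :
    Function.Surjective (Psi (γ.precomp π)) := by
  classical
  rw [← AlgHom.range_eq_top]
  refine eq_top_of_isGammaD γ _ (fun τ r => ?_) hγ
  obtain ⟨r', rfl⟩ := LinearMap.lTensor_surjective (MvPolynomial τ A) (g := π.toLinearMap) hπ r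
  obtain ⟨y, rfl⟩ := (algebraTensorAlgEquiv A (MvPolynomial τ A)).symm.surjective r'
  rw [← lawP_precomp, lawP_eq]
  exact Phi_mem_range _ (Psi (γ.precomp π)).range.toSubmodule (isSym_blockProd y) fun e _ => ⟨_, rfl⟩

theorem eq_top_of_values (hγ : PolLaw.IsGammaD γ) (N₀ : Submodule A C)
    (h : ∀ (τ : Type u) (r : MvPolynomial τ A ⊗[A] B),
      γ.law.toFun' (MvPolynomial τ A) r ∈ LinearMap.range (N₀.subtype.lTensor (MvPolynomial τ A))) : N₀ = ⊤ := by
  classical
  rw [eq_top_iff]
  intro c _
  obtain ⟨⟨z, hz⟩, rfl⟩ := Psi_surjective hγ (π := (aeval id : MvPolynomial B A →ₐ[A] B))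
    (fun b => ⟨X b, aeval_X _ _⟩) c
  have h2 : (⟨z, hz⟩ : symAlg A B d) = ∑ κ ∈ z.support.image (fun e => kap (split e)),
      z.coeff (join (rep κ)) • (⟨_, isSym_orb A κ⟩ : symAlg A B d) := by
    apply Subtype.ext
    rw [AddSubmonoidClass.coe_finsetSum]
    exact hz.eq_sum.trans (Finset.sum_congr rfl fun κ _ => (smul_eq_C_mul _ _).symm)
  rw [h2, map_sum]
  refine Submodule.sum_mem _ fun κ _ => ?_
  rw [map_smul, Psi_orb, lawP_precomp]
  exact N₀.smul_mem _ (coefA_mem N₀ κ (h _ _))

end pres

theorem surjective_map {B' : Type u} [CommRing B'] [Algebra A B'] {C' : Type u} [CommRing C'] [Algebra A C']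
    (γ : PolLaw.MulLaw A B C d) (γ' : PolLaw.MulLaw A B' C' d) (hγ' : PolLaw.IsGammaD γ')
    (π : B →ₐ[A] B') (hπ : Function.Surjective π) (φ : C →ₐ[A] C')
    (hφ : PolLaw.postcomp φ.toLinearMap γ.law = (γ'.precomp π).law) : Function.Surjective φ := by
  rw [← AlgHom.range_eq_top]
  refine eq_top_of_isGammaD γ' _ (fun τ r => ?_) hγ'
  obtain ⟨r', rfl⟩ := LinearMap.lTensor_surjective (MvPolynomial τ A) (g := π.toLinearMap) hπ r
  have h := congrFun (congrArg (fun G => PolynomialLaw.toFun' G (MvPolynomial τ A)) hφ) r'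
  refine ⟨(φ.rangeRestrict).toLinearMap.lTensor _ (γ.law.toFun' _ r'), ?_⟩
  rw [← LinearMap.comp_apply, ← LinearMap.lTensor_comp]
  exact h

theorem moduleFinite_of_isGammaD (γ : PolLaw.MulLaw A B C d) (hγ : PolLaw.IsGammaD γ) [Module.Finite A B] :
    Module.Finite A C := by
  classical
  obtain ⟨s, hs⟩ := (inferInstance : Module.Finite A B).fg_top
  let σ := {b // b ∈ s}
  let π : MvPolynomial σ A →ₐ[A] B := aeval fun b => (b : B)
  let deg1 : Finset (σ →₀ ℕ) := Finset.univ.image fun b => Finsupp.single b 1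
  let K : Finset ((σ →₀ ℕ) →₀ ℕ) := (Fintype.piFinset fun _ : Fin d => deg1).image kap
  let N₀ : Submodule A C := Submodule.span A ↑(K.image fun κ => Psi (γ.precomp π) ⟨_, isSym_orb A κ⟩)
  suffices N₀ = ⊤ from ⟨⟨_, this⟩⟩
  refine eq_top_of_values hγ N₀ fun τ r => ?_
  have hy : ∃ y : MvPolynomial σ (MvPolynomial τ A), y.support ⊆ deg1 ∧
      π.toLinearMap.lTensor _ ((algebraTensorAlgEquiv A (MvPolynomial τ A)).symm y) = r := by
    induction r using TensorProduct.induction_on with
    | zero => exact ⟨0, by simp, by simp⟩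
    | add a b ha hb =>
      obtain ⟨y, hy, rfl⟩ := ha
      obtain ⟨y', hy', rfl⟩ := hb
      exact ⟨y + y', support_add.trans (Finset.union_subset hy hy'), by simp⟩
    | tmul a b =>
      have hb : b ∈ Submodule.span A (Set.range fun x : σ => (x : B)) := by
        rw [show (Set.range fun x : σ => (x : B)) = (s : Set B) by ext; simp [σ], hs]; trivial
      obtain ⟨c, rfl⟩ := (Submodule.mem_span_range_iff_exists_fun A).mp hb
      refine ⟨∑ i, monomial (Finsupp.single i 1) (c i • a), ?_, ?_⟩
      · refine Finset.Subset.trans support_sum ?_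
        intro e he
        obtain ⟨i, _, hi⟩ := Finset.mem_biUnion.mp he
        rw [Finset.mem_singleton.mp (support_monomial_subset hi)]
        exact Finset.mem_image_of_mem _ (Finset.mem_univ _)
      · rw [map_sum, map_sum, TensorProduct.tmul_sum]
        refine Finset.sum_congr rfl fun i _ => ?_
        rw [algebraTensorAlgEquiv_symm_monomial, LinearMap.lTensor_tmul, TensorProduct.tmul_smul,
          TensorProduct.smul_tmul']
        simp [π, aeval_monomial]
  obtain ⟨y, hy, rfl⟩ := hy
  rw [← lawP_precomp, lawP_eq]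
  refine Phi_mem_range _ _ (isSym_blockProd y) fun e he => Submodule.subset_span ?_
  refine Finset.mem_coe.mpr (Finset.mem_image.mpr ⟨kap (split e), Finset.mem_image.mpr ⟨split e, ?_, rfl⟩, rfl⟩)
  rw [as_sum y, blockProd_sum] at he
  obtain ⟨c, hc, hce⟩ := Finset.mem_biUnion.mp (support_sum he)
  rw [Finset.mem_singleton.mp (support_monomial_subset hce), split_join]
  exact Fintype.mem_piFinset.mpr fun l => hy (Fintype.mem_piFinset.mp hc l)

theorem fg_symAlg_int (n : Type u) [Finite n] : (symAlg (ULift.{u} ℤ) n d).FG := by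
  classical
  let R := ULift.{u} ℤ
  let P := MvPolynomial (Fin d × n) R
  let T := symAlg R n d
  haveI : IsNoetherianRing R := isNoetherianRing_of_ringEquiv ℤ ULift.ringEquiv.symm
  have hint : Algebra.IsIntegral T P := by
    refine ⟨fun x => ?_⟩
    induction x using MvPolynomial.induction_on with
    | C a => exact isIntegral_algebraMap (x := (algebraMap R T a))
    | add p q hp hq => exact hp.add hq
    | mul_X p v hp =>
      refine hp.mul ?_
      obtain ⟨l, s⟩ := v
      let q : Polynomial P := Polynomial.C ((-1 : P) ^ d) * cpoly d (X s : MvPolynomial n R)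
      have hcoef : ∀ k, q.coeff k ∈ T := fun k => by
        rw [Polynomial.coeff_C_mul]
        exact T.mul_mem (T.pow_mem (T.neg_mem T.one_mem) d) (isSym_coeff_cpoly _ k)
      obtain ⟨q', hq'⟩ : ∃ q' : Polynomial T, q'.map (algebraMap T P) = q := by
        refine (Polynomial.mem_map_range (algebraMap T P)).mpr fun k => ⟨⟨_, hcoef k⟩, rfl⟩
      have hdeg : q.natDegree ≤ d := (Polynomial.natDegree_C_mul_le _ _).trans (natDegree_cpoly_le _)
      have htop : q.coeff d = 1 := by
        rw [Polynomial.coeff_C_mul, coeff_cpoly_top]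
        exact (mul_pow (-1 : P) (-1) d).symm.trans
          ((congrArg (· ^ d) ((neg_mul_neg (1 : P) 1).trans (one_mul (1 : P)))).trans (one_pow d))
      have hmonic : q.Monic := Polynomial.monic_of_natDegree_le_of_coeff_eq_one d hdeg htop
      refine ⟨q', ?_, ?_⟩
      · exact (Function.Injective.monic_map_iff Subtype.val_injective).mpr (hq' ▸ hmonic)
      · rw [← Polynomial.eval_map, hq', Polynomial.eval_mul]
        have := cpoly_eval_self (d := d) (X s : MvPolynomial n R) l
        rw [rename_X] at this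
        rw [this, mul_zero]
  haveI := hint
  haveI : Algebra.FiniteType T P := Algebra.FiniteType.of_restrictScalars_finiteType R T P
  haveI : Module.Finite T P := Algebra.IsIntegral.finite
  refine (Subalgebra.fg_top T).mp (fg_of_fg_of_fg R T P ?_ Module.Finite.fg_top Subtype.val_injective)
  exact (inferInstance : Algebra.FiniteType R P).out

theorem fg_symAlg (n : Type u) [Finite n] : (symAlg A n d).FG := by
  classical
  obtain ⟨s, hs⟩ := fg_symAlg_int (d := d) n
  let f : ULift.{u} ℤ →+* A := (Int.castRingHom A).comp ULift.ringEquiv.toRingHom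
  let T' : Subalgebra A (MvPolynomial (Fin d × n) A) :=
    Algebra.adjoin A ↑(s.image (MvPolynomial.map f))
  refine ⟨s.image (MvPolynomial.map f), le_antisymm (Algebra.adjoin_le fun x hx => ?_) fun z hz => ?_⟩
  · obtain ⟨y, hy, rfl⟩ := Finset.mem_image.mp hx
    have : IsSym y := show y ∈ symAlg (ULift.{u} ℤ) n d from hs ▸ Algebra.subset_adjoin hy
    intro π
    rw [← map_rename, this π]
  · have horb : ∀ κ, orb A d κ ∈ T' := fun κ => by
      rw [← map_orb f κ]
      have h1 : orb (ULift.{u} ℤ) d κ ∈ Algebra.adjoin (ULift.{u} ℤ) (s : Set _) := hs ▸ isSym_orb _ κ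
      generalize orb (ULift.{u} ℤ) d κ = w at h1
      induction h1 using Algebra.adjoin_induction with
      | mem x hx => exact Algebra.subset_adjoin (Finset.mem_coe.mpr (Finset.mem_image_of_mem _ hx))
      | algebraMap r => rw [MvPolynomial.algebraMap_eq, map_C]; exact T'.algebraMap_mem _
      | add x y _ _ hx hy => rw [map_add]; exact T'.add_mem hx hy
      | mul x y _ _ hx hy => rw [map_mul]; exact T'.mul_mem hx hy
    rw [(hz : IsSym z).eq_sum]
    exact T'.sum_mem fun κ _ => T'.mul_mem (T'.algebraMap_mem _) (horb κ)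

theorem finiteType_of_isGammaD (γ : PolLaw.MulLaw A B C d) (hγ : PolLaw.IsGammaD γ) [Algebra.FiniteType A B] :
    Algebra.FiniteType A C := by
  obtain ⟨n, _, π, hπ⟩ := Algebra.FiniteType.iff_quotient_mvPolynomial'.mp ‹Algebra.FiniteType A B›
  haveI : Algebra.FiniteType A (symAlg A n d) := ⟨(Subalgebra.fg_top _).mpr (fg_symAlg n)⟩
  exact Algebra.FiniteType.of_surjective _ (Psi_surjective hγ hπ)

end Groth.Agent.PolLawLib
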