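import Mathlib
import Groth.Prelude.Def_SymTen
import Groth.Agent.PolLawLib.GammaGen

/-!
# The law `x ↦ x ⊗ ⋯ ⊗ x` into symmetric tensors, and naturality of `Ψ`
-/

set_option autoImplicit false

universe u

open scoped TensorProduct
open MvPolynomial

namespace Groth.Agent.PolLawLib

variable {A : Type u} [CommRing A] {B : Type u} [CommRing B] [Algebra A B] {C : Type u} [CommRing C] [Algebra A C]
  {d : ℕ} {σ σ' : Type u}

section natural

/-- Blockwise substitution, linear on monomials. -/
noncomputable def bwm (S : Type u) [CommRing S] [Algebra A S] (q : (σ →₀ ℕ) → MvPolynomial σ' A) :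
    MvPolynomial (Fin d × σ) S →ₗ[S] MvPolynomial (Fin d × σ') S :=
  (basisMonomials (Fin d × σ) S).constr S fun e =>
    ∏ l, rename (Prod.mk l) (MvPolynomial.map (algebraMap A S) (q (split e l)))

theorem bwm_monomial (S : Type u) [CommRing S] [Algebra A S] (q : (σ →₀ ℕ) → MvPolynomial σ' A)
    (c : Fin d → σ →₀ ℕ) (s : S) :
    bwm S q (monomial (join c) s) =
      s • ∏ l, rename (Prod.mk l) (MvPolynomial.map (algebraMap A S) (q (c l))) := by
  rw [show monomial (join c) s = s • (basisMonomials (Fin d × σ) S) (join c) by simp [coe_basisMonomials, smul_monomial],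
    map_smul, bwm, Module.Basis.constr_basis, split_join]

theorem bwm_blockProd (S : Type u) [CommRing S] [Algebra A S] (q : (σ →₀ ℕ) → MvPolynomial σ' A)
    (T : Finset (σ →₀ ℕ)) (s : (σ →₀ ℕ) → S) :
    bwm S q (blockProd d (∑ m ∈ T, monomial m (s m))) =
      blockProd d (∑ m ∈ T, s m • MvPolynomial.map (algebraMap A S) (q m)) := by
  classical
  rw [blockProd_sum, map_sum, blockProd]
  simp only [map_sum, map_smul, bwm_monomial]
  rw [Finset.prod_univ_sum]
  refine Finset.sum_congr rfl fun c _ => ?_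
  simp only [smul_eq_C_mul, Finset.prod_mul_distrib, map_prod]

open Classical in
theorem coefA_sum_eq {T : Finset (σ →₀ ℕ)} (κ : (σ →₀ ℕ) →₀ ℕ) (hT : T = κ.support)
    (v : (Fin d → σ →₀ ℕ) → C) :
    coefA κ (∑ c ∈ Fintype.piFinset fun _ : Fin d => T,
      (∏ l, (X (c l) : MvPolynomial (σ →₀ ℕ) A)) ⊗ₜ[A] v c) =
    ∑ c ∈ (Fintype.piFinset fun _ : Fin d => κ.support).filter (fun c => kap c = κ), v c := by
  classical
  subst hT
  rw [map_sum, Finset.sum_filter]
  refine Finset.sum_congr rfl fun c _ => ?_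
  rw [coefA_tmul, show (∏ l, (X (c l) : MvPolynomial (σ →₀ ℕ) A)) = monomial (kap c) 1 by
    rw [kap, monomial_sum_one]; rfl, coeff_monomial, ite_smul, one_smul, zero_smul]

theorem lid_Phi_natural (F : PolLaw.MulLaw A B C d) (π : MvPolynomial σ A →ₐ[A] B) (π' : MvPolynomial σ' A →ₐ[A] B)
    (q : (σ →₀ ℕ) → MvPolynomial σ' A) (hq : ∀ m, π' (q m) = π (monomial m 1))
    {z : MvPolynomial (Fin d × σ) A} (hz : IsSym z) :
    TensorProduct.lid A C (Phi (F.precomp π') A (bwm A q z)) = TensorProduct.lid A C (Phi (F.precomp π) A z) := by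
  classical
  rw [hz.eq_sum, map_sum, map_sum, map_sum, map_sum, map_sum]
  refine Finset.sum_congr rfl fun κ _ => ?_
  rw [← smul_eq_C_mul, map_smul, map_smul, map_smul, map_smul, map_smul]
  congr 1
  let R := MvPolynomial (σ →₀ ℕ) A
  have hval : lawP (F.precomp π') R (∑ m ∈ κ.support, (X m : R) • MvPolynomial.map (algebraMap A R) (q m)) =
      lawP (F.precomp π) R (gen κ.support) := by
    rw [lawP_precomp, lawP_precomp]
    congr 1
    simp only [gen, map_sum]
    refine Finset.sum_congr rfl fun m _ => ?_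
    rw [algebraTensorAlgEquiv_symm_monomial, LinearMap.lTensor_tmul, AlgHom.toLinearMap_apply, ← hq,
      show (X m : R) • MvPolynomial.map (algebraMap A R) (q m) = algebraTensorAlgEquiv A R ((X m : R) ⊗ₜ[A] q m) from
        (algebraTensorAlgEquiv_tmul (R := A) (A := R) (X m : R) (q m)).symm, AlgEquiv.symm_apply_apply, LinearMap.lTensor_tmul]
    rfl
  rw [lawP_eq, lawP_gen, ← bwm_blockProd] at hval
  have h1 := congrArg (coefA κ) hval
  rw [gen, blockProd_sum] at h1
  simp only [map_sum, bwm_monomial, map_smul, Phi_monomial, ← map_rename, ← map_prod, Phi_map_algebraMap,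
    TensorProduct.smul_tmul', smul_eq_mul, mul_one] at h1
  rw [← map_sum (coefA κ), ← map_sum (coefA κ), coefA_sum_eq κ rfl, coefA_sum_eq κ rfl] at h1
  rw [orb, map_sum, map_sum, map_sum, map_sum, map_sum]
  refine Eq.trans (Finset.sum_congr rfl fun c _ => ?_) (h1.trans (Finset.sum_congr rfl fun c _ => ?_))
  · rw [bwm_monomial, one_smul]
    simp [MvPolynomial.map_id]
  · rw [Phi_monomial, TensorProduct.lid_tmul, one_smul]

theorem lid_Phi_postcomp {C' : Type u} [CommRing C'] [Algebra A C'] (F : PolLaw.MulLaw A (MvPolynomial σ A) C d)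
    (f : C →ₐ[A] C') {z : MvPolynomial (Fin d × σ) A} (hz : IsSym z) :
    TensorProduct.lid A C' (Phi (PolLaw.MulLaw.postcomp f F : PolLaw.MulLaw A (MvPolynomial σ A) C' d) A z) = f (TensorProduct.lid A C (Phi F A z)) := by
  classical
  rw [hz.eq_sum, map_sum, map_sum, map_sum, map_sum, map_sum]
  refine Finset.sum_congr rfl fun κ _ => ?_
  rw [← smul_eq_C_mul, map_smul, map_smul, map_smul, map_smul, map_smul]
  congr 1
  rw [Phi_orb, Phi_orb, ← lawP_gen, ← lawP_gen]
  show coefA κ (f.toLinearMap.lTensor (MvPolynomial (σ →₀ ℕ) A) (lawP F (MvPolynomial (σ →₀ ℕ) A) (gen κ.support))) =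
    f (coefA κ (lawP F (MvPolynomial (σ →₀ ℕ) A) (gen κ.support)))
  generalize lawP F (MvPolynomial (σ →₀ ℕ) A) (gen κ.support) = w
  induction w using TensorProduct.induction_on with
  | zero => simp
  | tmul p c => rw [LinearMap.lTensor_tmul, coefA_tmul, coefA_tmul, map_smul]; rfl
  | add a b ha hb => simp only [map_add, ha, hb]

end natural

section SymT

variable (A B d)

/-- The `d`-fold tensor power. -/
abbrev T : Type u := ⨂[A] _ : Fin d, B

/-- The `l`-th factor. -/
noncomputable def ι (l : Fin d) : B →ₐ[A] T A B d :=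
  PiTensorProduct.singleAlgHom (R := A) (A := fun _ : Fin d => B) l

theorem prod_ι (f : Fin d → B) : (∏ l, ι A B d l (f l)) = PiTensorProduct.tprod A f := by
  classical
  have h1 : ∀ l, ι A B d l (f l) = PiTensorProduct.tprodMonoidHom A (Pi.mulSingle (M := fun _ : Fin d => B) l (f l)) :=
    fun l => rfl
  simp only [h1]
  rw [← map_prod, Finset.univ_prod_mulSingle]
  rfl

theorem perm_ι (π : Equiv.Perm (Fin d)) (l : Fin d) (b : B) :
    SymTen.perm A B d π (ι A B d l b) = ι A B d (π l) b := by
  classical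
  show SymTen.perm A B d π (PiTensorProduct.tprod A (Pi.mulSingle (M := fun _ : Fin d => B) l b)) =
    PiTensorProduct.tprod A (Pi.mulSingle (M := fun _ : Fin d => B) (π l) b)
  rw [SymTen.perm_tprod]
  congr 1
  funext i
  by_cases h : i = π l
  · subst h; simp
  · rw [Pi.mulSingle_eq_of_ne h, Pi.mulSingle_eq_of_ne fun h' => h (by rw [← h', Equiv.apply_symm_apply])]

/-- `x ↦ x ⊗ ⋯ ⊗ x` into the tensor power. -/
noncomputable def lawT : PolLaw.MulLaw A B (T A B d) d where
  law :=
    { toFun' := fun S _ _ x => ∏ l, Algebra.TensorProduct.map (AlgHom.id S S) (ι A B d l) x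
      isCompat' := fun {S} _ _ {S'} _ _ φ => by
        funext x
        simp only [Function.comp_apply]
        have h : ∀ (N : Type u) [CommRing N] [Algebra A N] (z : S ⊗[A] N),
            φ.toLinearMap.rTensor N z = Algebra.TensorProduct.map φ (AlgHom.id A N) z := by
          intro N _ _ z
          induction z using TensorProduct.induction_on with
          | zero => simp
          | tmul a b => rfl
          | add a b ha hb => simp only [map_add, ha, hb]
        rw [h, h, map_prod]
        refine Finset.prod_congr rfl fun l _ => ?_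
        induction x using TensorProduct.induction_on with
        | zero => simp
        | tmul a b => rfl
        | add a b ha hb => simp only [map_add, ha, hb] }
  homog S _ _ s x := by
    show (∏ l, Algebra.TensorProduct.map (AlgHom.id S S) (ι A B d l) (s • x)) =
      s ^ d • ∏ l, Algebra.TensorProduct.map (AlgHom.id S S) (ι A B d l) x
    simp only [Algebra.smul_def, map_mul, AlgHom.commutes, Finset.prod_mul_distrib, Finset.prod_const, Finset.card_univ,
      Fintype.card_fin, map_pow]
  mult S _ _ := by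
    refine ⟨?_, fun x y => ?_⟩
    · show (∏ l, Algebra.TensorProduct.map (AlgHom.id S S) (ι A B d l) 1) = 1
      simp
    · show (∏ l, Algebra.TensorProduct.map (AlgHom.id S S) (ι A B d l) (x * y)) =
        (∏ l, Algebra.TensorProduct.map (AlgHom.id S S) (ι A B d l) x) *
          ∏ l, Algebra.TensorProduct.map (AlgHom.id S S) (ι A B d l) y
      simp [Finset.prod_mul_distrib]

theorem lawT_sum (S : Type u) [CommSemiring S] [Algebra A S] {α : Type*} (s : Finset α) (r : α → S) (b : α → B) :
    (lawT A B d).law.toFun' S (∑ j ∈ s, r j ⊗ₜ[A] b j) =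
      ∑ c ∈ Fintype.piFinset fun _ : Fin d => s, (∏ i, r (c i)) ⊗ₜ[A] PiTensorProduct.tprod A (fun i => b (c i)) := by
  classical
  show (∏ l, Algebra.TensorProduct.map (AlgHom.id S S) (ι A B d l) (∑ j ∈ s, r j ⊗ₜ[A] b j)) = _
  simp only [map_sum, Algebra.TensorProduct.map_tmul, AlgHom.coe_id, id_eq]
  rw [Finset.prod_univ_sum]
  refine Finset.sum_congr rfl fun c _ => ?_
  rw [← prod_ι A B d fun i => b (c i)]
  induction (Finset.univ : Finset (Fin d)) using Finset.induction with
  | empty => simp [Algebra.TensorProduct.one_def]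
  | insert a t hat ih => rw [Finset.prod_insert hat, Finset.prod_insert hat, Finset.prod_insert hat, ih,
      Algebra.TensorProduct.tmul_mul_tmul]

variable {A B d}

/-- Evaluation in the tensor power. -/
noncomputable def ev (π : MvPolynomial σ A →ₐ[A] B) : MvPolynomial (Fin d × σ) A →ₐ[A] T A B d :=
  aeval fun v => ι A B d v.1 (π (X v.2))

theorem ev_rename (π : MvPolynomial σ A →ₐ[A] B) (l : Fin d) (p : MvPolynomial σ A) :
    ev π (rename (Prod.mk l) p) = ι A B d l (π p) := by
  rw [ev, aeval_rename]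
  exact DFunLike.congr_fun (MvPolynomial.aeval_unique ((ι A B d l).comp π)).symm p

theorem ev_monomial_join (π : MvPolynomial σ A →ₐ[A] B) (c : Fin d → σ →₀ ℕ) :
    ev π (monomial (join c) 1) = PiTensorProduct.tprod A fun l => π (monomial (c l) 1) := by
  classical
  have : monomial (join c) (1 : A) = ∏ l, rename (Prod.mk l) (monomial (c l) (1 : A)) := by
    simp only [rename_monomial]
    exact monomial_sum_one _ _
  rw [this, map_prod, ← prod_ι]
  exact Finset.prod_congr rfl fun l _ => ev_rename π l _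

theorem perm_ev (π : MvPolynomial σ A →ₐ[A] B) (τ : Equiv.Perm (Fin d)) (z : MvPolynomial (Fin d × σ) A) :
    SymTen.perm A B d τ (ev π z) = ev π (rename (fun p => (τ p.1, p.2)) z) := by
  rw [ev, ← AlgHom.comp_apply, MvPolynomial.comp_aeval, aeval_rename]
  congr 1
  refine MvPolynomial.algHom_ext fun v => ?_
  simp [perm_ι]

theorem lid_Phi_lawT (π : MvPolynomial σ A →ₐ[A] B) {z : MvPolynomial (Fin d × σ) A} (hz : IsSym z) :
    TensorProduct.lid A (T A B d) (Phi ((lawT A B d).precomp π) A z) = ev π z := by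
  classical
  rw [hz.eq_sum, map_sum, map_sum, map_sum]
  refine Finset.sum_congr rfl fun κ _ => ?_
  rw [← smul_eq_C_mul, map_smul, map_smul, map_smul]
  congr 1
  rw [Phi_orb, ← lawP_gen, lawP_precomp]
  simp only [gen, map_sum, algebraTensorAlgEquiv_symm_monomial, LinearMap.lTensor_tmul]
  rw [lawT_sum A B d (MvPolynomial (σ →₀ ℕ) A) κ.support, coefA_sum_eq κ rfl, orb, map_sum]
  exact Finset.sum_congr rfl fun c _ => (ev_monomial_join π c).symm

/-- An element of `R ⊗ T` fixed by all permutations lies in `R ⊗ TS` for a polynomial ring `R`. -/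
theorem mem_range_TS {M : Type u} (w : MvPolynomial M A ⊗[A] T A B d)
    (hw : ∀ π : Equiv.Perm (Fin d), (SymTen.perm A B d π).toLinearMap.lTensor _ w = w) :
    w ∈ LinearMap.range ((SymTen.TS A B d).val.toLinearMap.lTensor (MvPolynomial M A)) := by
  classical
  have hmem : ∀ κ : M →₀ ℕ, coefA κ w ∈ SymTen.TS A B d := fun κ => (SymTen.mem_TS_iff A B d _).mpr fun π => by
    rw [← SymTen.perm_apply]
    conv_rhs => rw [← hw π]
    generalize w = v
    induction v using TensorProduct.induction_on with
    | zero => simp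
    | tmul p c => rw [LinearMap.lTensor_tmul, coefA_tmul, coefA_tmul, map_smul]; rfl
    | add a b ha hb => simp only [map_add, ha, hb]
  obtain ⟨s, hs⟩ : ∃ s : Finset (M →₀ ℕ), w = ∑ κ ∈ s, monomial κ (1 : A) ⊗ₜ[A] coefA κ w := by
    refine ⟨(TensorProduct.equivFinsuppOfBasisLeft (basisMonomials M A) (N := T A B d) w).support, ?_⟩
    refine coefA_ext fun κ => ?_
    rw [map_sum]
    simp only [coefA_tmul, coeff_monomial, ite_smul, one_smul, zero_smul, Finset.sum_ite_eq']
    have key : ∀ v : MvPolynomial M A ⊗[A] T A B d,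
        TensorProduct.equivFinsuppOfBasisLeft (basisMonomials M A) v κ = coefA κ v := by
      intro v
      induction v using TensorProduct.induction_on with
      | zero => simp
      | tmul p c => rw [TensorProduct.equivFinsuppOfBasisLeft_apply_tmul_apply, coefA_tmul]; rfl
      | add a b ha hb => rw [map_add, map_add, Finsupp.add_apply, ha, hb]
    split_ifs with h
    · rfl
    · rw [← key]; exact Finsupp.notMem_support_iff.mp h
  rw [hs]
  exact Submodule.sum_mem _ fun κ _ => ⟨monomial κ (1 : A) ⊗ₜ[A] ⟨_, hmem κ⟩, rfl⟩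

theorem perm_lawT (π : Equiv.Perm (Fin d)) (S : Type u) [CommSemiring S] [Algebra A S] (x : S ⊗[A] B) :
    (SymTen.perm A B d π).toLinearMap.lTensor S ((lawT A B d).law.toFun' S x) = (lawT A B d).law.toFun' S x := by
  show _ = ∏ l, Algebra.TensorProduct.map (AlgHom.id S S) (ι A B d l) x
  rw [PolLaw.lTensor_algHom_apply]
  show Algebra.TensorProduct.map (AlgHom.id S S) (SymTen.perm A B d π)
    (∏ l, Algebra.TensorProduct.map (AlgHom.id S S) (ι A B d l) x) = _
  rw [map_prod]
  refine Fintype.prod_equiv π _ _ fun l => ?_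
  induction x using TensorProduct.induction_on with
  | zero => simp
  | tmul a b => simp [perm_ι]
  | add a b ha hb => simp only [map_add, ha, hb]

theorem lawT_mem (M : Type u) (r : MvPolynomial M A ⊗[A] B) :
    (lawT A B d).law.toFun' (MvPolynomial M A) r ∈
      LinearMap.range ((SymTen.TS A B d).val.toLinearMap.lTensor (MvPolynomial M A)) :=
  mem_range_TS _ fun π => perm_lawT π _ r

variable (A B d)

/-- `x ↦ x ⊗ ⋯ ⊗ x` into the symmetric tensors. -/
noncomputable def tauLaw : PolLaw.MulLaw A B (SymTen.TS A B d) d :=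
  coLaw (lawT A B d) (SymTen.TS A B d) lawT_mem

theorem val_tauLaw : PolLaw.MulLaw.postcomp (SymTen.TS A B d).val (tauLaw A B d) = lawT A B d :=
  PolLaw.MulLaw.ext (postcomp_coLaw (lawT A B d) (SymTen.TS A B d) lawT_mem)

variable {A B d}

theorem val_Psi_tau (π : MvPolynomial σ A →ₐ[A] B) (z : symAlg A σ d) :
    ((Psi ((tauLaw A B d).precomp π) z : SymTen.TS A B d) : T A B d) = ev π z.1 := by
  refine Eq.trans ?_ (lid_Phi_lawT π z.2)
  show (SymTen.TS A B d).val (TensorProduct.lid A _ (Phi ((tauLaw A B d).precomp π) A z.1)) = _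
  rw [← lid_Phi_postcomp _ _ z.2, ← val_tauLaw]
  rfl

end SymT

end Groth.Agent.PolLawLib
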