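import Mathlib

/-!
# Killing vanishing tensors in tensor powers of a flat module
-/

set_option autoImplicit false

universe u

open scoped TensorProduct

namespace Groth.Agent.PolLawLib

variable {A : Type u} [CommRing A] {M : Type u} [AddCommGroup M] [Module A M]

/-- The value of a coefficient family in the tensor power. -/
noncomputable def tev {d : ℕ} {σ : Type u} [Fintype σ] (b : σ → M) (u : (Fin d → σ) → A) : ⨂[A] _ : Fin d, M :=
  ∑ c, u c • PiTensorProduct.tprod A fun l => b (c l)

/-- A matrix acting in every slot. -/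
noncomputable def mact {d : ℕ} {σ σ' : Type u} [Fintype σ] (a : σ → σ' → A) (u : (Fin d → σ) → A) :
    (Fin d → σ') → A :=
  fun c' => ∑ c, u c * ∏ l, a (c l) (c' l)

theorem tev_mact {d : ℕ} {σ σ' : Type u} [Fintype σ] [Fintype σ'] {b : σ → M} {b' : σ' → M} {a : σ → σ' → A}
    (h : ∀ s, b s = ∑ j, a s j • b' j) (u : (Fin d → σ) → A) : tev b' (mact a u) = tev b u := by
  classical
  simp only [tev, mact, Finset.sum_smul]
  rw [Finset.sum_comm]
  refine Finset.sum_congr rfl fun c _ => ?_
  rw [show (fun l => b (c l)) = fun l => ∑ j, a (c l) j • b' j from funext fun l => h (c l), MultilinearMap.map_sum,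
    Finset.smul_sum]
  refine Finset.sum_congr rfl fun c' _ => ?_
  rw [MultilinearMap.map_smul_univ, smul_smul]

theorem mact_mact {d : ℕ} {σ σ' σ'' : Type u} [Fintype σ] [Fintype σ'] (a : σ → σ' → A) (a' : σ' → σ'' → A)
    (u : (Fin d → σ) → A) : mact a' (mact a u) = mact (fun s k => ∑ j, a s j * a' j k) u := by
  classical
  funext c''
  simp only [mact, Finset.sum_mul]
  rw [Finset.sum_comm]
  refine Finset.sum_congr rfl fun c _ => ?_
  rw [Fintype.prod_sum, Finset.mul_sum]
  refine Finset.sum_congr rfl fun c' _ => ?_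
  rw [Finset.prod_mul_distrib]
  ring

theorem mact_comp_perm {d : ℕ} {σ σ' : Type u} [Fintype σ] (a : σ → σ' → A) (u : (Fin d → σ) → A)
    (τ : Equiv.Perm (Fin d)) (c' : Fin d → σ') : mact a u (c' ∘ τ) = mact a (fun c => u (c ∘ τ)) c' := by
  classical
  simp only [mact]
  refine Fintype.sum_equiv (Equiv.arrowCongr τ (Equiv.refl σ)) _ _ fun c => ?_
  have h : (Equiv.arrowCongr τ (Equiv.refl σ) c) ∘ τ = c := by funext l; simp
  rw [h]
  congr 1
  exact Fintype.prod_equiv τ _ _ fun l => by simp

/-- Splitting off the first factor. -/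
noncomputable def headTail (d : ℕ) : (⨂[A] _ : Fin (d + 1), M) →ₗ[A] (⨂[A] _ : Fin d, M) ⊗[A] M :=
  PiTensorProduct.lift (LinearMap.uncurryLeft
    { toFun := fun b => ((TensorProduct.mk A (⨂[A] _ : Fin d, M) M).flip b).compMultilinearMap (PiTensorProduct.tprod A)
      map_add' := fun x y => by ext v; simp [TensorProduct.tmul_add]
      map_smul' := fun r x => by ext v; simp })

theorem headTail_tprod (d : ℕ) (v : Fin (d + 1) → M) :
    headTail (A := A) d (PiTensorProduct.tprod A v) = PiTensorProduct.tprod A (Fin.tail v) ⊗ₜ[A] v 0 := by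
  simp [headTail]

/-- **A finite family of tensors vanishing in the power of a flat module is killed by one matrix.** -/
theorem exists_kill [Module.Flat A M] : ∀ (d : ℕ) {σ : Type u} [Fintype σ] (b : σ → M) {K : Type u} [Fintype K]
    (u : K → (Fin d → σ) → A), (∀ k, tev b (u k) = 0) →
    ∃ (σ' : Type u) (_ : Fintype σ') (b' : σ' → M) (a : σ → σ' → A),
      (∀ s, b s = ∑ j, a s j • b' j) ∧ ∀ k, mact a (u k) = 0 := by
  intro d
  induction d with
  | zero =>
    classical
    intro σ _ b K _ u hu
    refine ⟨σ, inferInstance, b, fun s j => if s = j then 1 else 0, fun s => by simp, fun k => ?_⟩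
    have h := congrArg (PiTensorProduct.isEmptyEquiv (R := A) (s := fun _ => M) (Fin 0)) (hu k)
    simp only [tev, map_sum, map_smul, PiTensorProduct.isEmptyEquiv_apply_tprod, map_zero, smul_eq_mul, mul_one] at h
    funext c'
    simp only [mact, Finset.univ_eq_empty, Finset.prod_empty, mul_one]
    exact h
  | succ d ih =>
    classical
    intro σ _ b K _ u hu
    let W : σ → K → ⨂[A] _ : Fin d, M := fun s k => tev b fun c => u k (Fin.cons s c)
    have hk : ∀ k, (∑ s, (W s k) ⊗ₜ[A] b s) = (0 : (⨂[A] _ : Fin d, M) ⊗[A] M) := fun k => by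
      have h := congrArg (headTail (A := A) (M := M) d) (hu k)
      rw [map_zero, tev, map_sum, ← (Fin.consEquiv fun _ : Fin (d + 1) => σ).sum_comp, Fintype.sum_prod_type] at h
      rw [← h]
      refine Finset.sum_congr rfl fun s _ => ?_
      simp only [W, tev, TensorProduct.sum_tmul]
      refine Finset.sum_congr rfl fun c _ => ?_
      rw [map_smul, headTail_tprod, TensorProduct.smul_tmul']
      congr 2
    have h0 : (∑ s, W s ⊗ₜ[A] b s) = (0 : (K → ⨂[A] _ : Fin d, M) ⊗[A] M) := by
      apply (TensorProduct.piLeft A M (fun _ : K => ⨂[A] _ : Fin d, M)).injective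
      rw [map_zero]
      funext k
      rw [map_sum, Finset.sum_apply, Pi.zero_apply, ← hk k]
      exact Finset.sum_congr rfl fun s _ => by simp
    obtain ⟨n, a, y, hy, ha⟩ := TensorProduct.vanishesTrivially_of_sum_tmul_eq_zero_of_rTensor_injective A
      (Module.Flat.rTensor_preserves_injective_linearMap _ Subtype.val_injective) h0
    let y' : ULift.{u} (Fin n) → M := fun j => y j.down
    let a1 : σ → ULift.{u} (Fin n) → A := fun s j => a s j.down
    have hb : ∀ s, b s = ∑ j, a1 s j • y' j := fun s => by
      rw [hy s, ← Equiv.sum_comp Equiv.ulift.{u}]; rfl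
    let v : K × ULift.{u} (Fin n) → (Fin d → ULift.{u} (Fin n)) → A := fun kj => fun c' => mact a1 (u kj.1) (Fin.cons kj.2 c')
    obtain ⟨σ', i', b', a', hb', ha'⟩ := ih y' v (fun ⟨k, j⟩ => by
      have hrow : (fun c' => mact a1 (u k) (Fin.cons j c')) =
          ∑ s, a1 s j • mact a1 (fun c => u k (Fin.cons s c)) := by
        funext c'
        rw [mact, ← (Fin.consEquiv fun _ : Fin (d + 1) => σ).sum_comp, Fintype.sum_prod_type, Finset.sum_apply]
        refine Finset.sum_congr rfl fun s _ => ?_
        rw [Pi.smul_apply, smul_eq_mul, mact, Finset.mul_sum]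
        refine Finset.sum_congr rfl fun c _ => ?_
        simp [Fin.prod_univ_succ, Fin.consEquiv]
        ring
      show tev y' (fun c' => mact a1 (u k) (Fin.cons j c')) = 0
      rw [hrow]
      have hlin : tev y' (∑ s, a1 s j • mact a1 (fun c => u k (Fin.cons s c))) =
          ∑ s, a1 s j • tev y' (mact a1 (fun c => u k (Fin.cons s c))) := by
        simp only [tev, Finset.sum_apply, Pi.smul_apply, smul_eq_mul, Finset.sum_smul, Finset.smul_sum, smul_smul]
        rw [Finset.sum_comm]
      rw [hlin]
      simp only [tev_mact hb]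
      have := congrFun (ha j.down) k
      simp only [Finset.sum_apply, Pi.smul_apply, Pi.zero_apply] at this
      exact this)
    refine ⟨σ', i', b', fun s k => ∑ j, a1 s j * a' j k, fun s => ?_, fun k => ?_⟩
    · rw [hb s]
      simp only [hb', Finset.smul_sum, smul_smul, Finset.sum_smul]
      rw [Finset.sum_comm]
    · rw [← mact_mact]
      funext c
      rw [mact, ← (Fin.consEquiv fun _ : Fin (d + 1) => ULift.{u} (Fin n)).sum_comp, Fintype.sum_prod_type,
        Pi.zero_apply]
      refine Finset.sum_eq_zero fun j _ => ?_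
      have h1 := congrArg (fun z => a' j (c 0) * z) (congrFun (ha' (k, j)) (Fin.tail c))
      simp only [mact, Pi.zero_apply, mul_zero, Finset.mul_sum] at h1
      refine Eq.trans (Finset.sum_congr rfl fun c' _ => ?_) h1
      simp [v, mact, Fin.prod_univ_succ, Fin.tail_def]
      ring

end Groth.Agent.PolLawLib
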