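import Mathlib
import Groth.Agent.PolLawLib.SymT
import Groth.Agent.PolLawLib.TensorKill

/-!
# `Γ^d` and symmetric tensors: kernel and image
-/

set_option autoImplicit false

universe u

open scoped TensorProduct
open MvPolynomial

namespace Groth.Agent.PolLawLib

variable {A : Type u} [CommRing A] {B : Type u} [CommRing B] [Algebra A B] {C : Type u} [CommRing C] [Algebra A C]
  {d : ℕ} {σ σ' : Type u}

/-- The multilinear exponent of a word. -/
noncomputable def word (c : Fin d → σ) : Fin d × σ →₀ ℕ := join fun l => Finsupp.single (c l) 1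

theorem word_injective : Function.Injective (word (d := d) (σ := σ)) := fun c c' h => by
  funext l
  have := congrArg (fun e => split e l) h
  simp only [word, split_join] at this
  exact ((Finsupp.single_eq_single_iff _ _ _ _).mp this).resolve_right (by simp) |>.1

theorem word_perm (c : Fin d → σ) (τ : Equiv.Perm (Fin d)) :
    (word c).mapDomain (fun p : Fin d × σ => (τ p.1, p.2)) = word (c ∘ τ.symm) := by
  classical
  have hinj : Function.Injective fun p : Fin d × σ => (τ p.1, p.2) := fun p q h => by
    simp only [Prod.mk.injEq] at h; exact Prod.ext (τ.injective h.1) h.2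
  refine Finsupp.ext fun ⟨l, s⟩ => ?_
  obtain ⟨k, rfl⟩ := τ.surjective l
  rw [show ((τ k, s) : Fin d × σ) = (fun p : Fin d × σ => (τ p.1, p.2)) (k, s) from rfl,
    Finsupp.mapDomain_apply hinj]
  simp [word, join_apply]

/-- The polynomial of a coefficient family of words. -/
noncomputable def mlP [Fintype σ] (u : (Fin d → σ) → A) : MvPolynomial (Fin d × σ) A :=
  ∑ c, monomial (word c) (u c)

theorem coeff_mlP [Fintype σ] (u : (Fin d → σ) → A) (c : Fin d → σ) : (mlP u).coeff (word c) = u c := by
  classical
  rw [mlP, coeff_sum, Finset.sum_eq_single c]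
  · simp
  · intro c' _ h; rw [coeff_monomial, if_neg fun h' => h (word_injective h')]
  · simp

theorem mlP_add [Fintype σ] (u v : (Fin d → σ) → A) : mlP (u + v) = mlP u + mlP v := by
  simp [mlP, Finset.sum_add_distrib]

theorem mlP_smul [Fintype σ] (a : A) (u : (Fin d → σ) → A) : mlP (a • u) = a • mlP u := by
  simp [mlP, Finset.smul_sum, smul_monomial]

theorem mlP_zero [Fintype σ] : mlP (0 : (Fin d → σ) → A) = 0 := by simp [mlP]

theorem isSym_mlP [Fintype σ] {u : (Fin d → σ) → A} (hu : ∀ (τ : Equiv.Perm (Fin d)) c, u (c ∘ τ) = u c) :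
    IsSym (mlP u) := by
  classical
  intro τ
  rw [mlP, map_sum]
  simp only [rename_monomial, word_perm]
  refine Fintype.sum_equiv (Equiv.arrowCongr τ (Equiv.refl σ)) _ _ fun c => ?_
  rw [show Equiv.arrowCongr τ (Equiv.refl σ) c = c ∘ τ.symm from rfl, hu τ.symm c]

theorem ev_mlP [Fintype σ] (π : MvPolynomial σ A →ₐ[A] B) (u : (Fin d → σ) → A) :
    ev π (mlP u) = tev (fun s => π (X s)) u := by
  rw [mlP, map_sum, tev]
  refine Finset.sum_congr rfl fun c _ => ?_
  rw [show monomial (word c) (u c) = u c • monomial (word c) (1 : A) by simp [smul_monomial], map_smul, word,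
    ev_monomial_join]
  rfl

/-- The substitution of monomials given by a matrix. -/
noncomputable def matQ [Fintype σ'] (a : σ → σ' → A) (m : σ →₀ ℕ) : MvPolynomial σ' A :=
  aeval (fun s => ∑ j, a s j • (X j : MvPolynomial σ' A)) (monomial m (1 : A))

theorem matQ_spec [Fintype σ'] {π : MvPolynomial σ A →ₐ[A] B} {π' : MvPolynomial σ' A →ₐ[A] B} {a : σ → σ' → A}
    (h : ∀ s, π (X s) = ∑ j, a s j • π' (X j)) (m : σ →₀ ℕ) : π' (matQ a m) = π (monomial m 1) := by
  rw [matQ, ← AlgHom.comp_apply, MvPolynomial.comp_aeval]
  conv_rhs => rw [MvPolynomial.aeval_unique π]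
  congr 2
  funext s
  simp [h]

theorem bwm_mlP [Fintype σ] [Fintype σ'] (a : σ → σ' → A) (u : (Fin d → σ) → A) :
    bwm A (matQ a) (mlP u) = mlP (mact a u) := by
  classical
  have h : ∀ c : Fin d → σ, (∏ l, rename (Prod.mk l) (MvPolynomial.map (algebraMap A A) (matQ a (Finsupp.single (c l) 1)))) =
      ∑ c' : Fin d → σ', monomial (word c') (∏ l, a (c l) (c' l)) := by
    intro c
    have h1 : ∀ s, matQ a (Finsupp.single s 1) = ∑ j, a s j • (X j : MvPolynomial σ' A) := fun s => by
      rw [matQ, ← X, aeval_X]
    simp only [Algebra.algebraMap_self, MvPolynomial.map_id, RingHom.id_apply, h1, map_sum, map_smul, rename_X]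
    rw [Fintype.prod_sum]
    refine Finset.sum_congr rfl fun c' _ => ?_
    simp only [smul_eq_C_mul, Finset.prod_mul_distrib, ← map_prod]
    rw [show (∏ l, (X (l, c' l) : MvPolynomial (Fin d × σ') A)) = monomial (word c') 1 by
      rw [word, join, monomial_sum_one]
      exact Finset.prod_congr rfl fun l _ => by simp [X], C_mul_monomial, mul_one]
  rw [mlP, map_sum]
  simp only [word, bwm_monomial]
  simp only [h, Finset.smul_sum, smul_monomial, smul_eq_mul]
  rw [Finset.sum_comm, mlP]
  refine Finset.sum_congr rfl fun c' _ => ?_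
  rw [← map_sum]
  rfl

/-- The value of `Φ` at degree `A`, as a linear map. -/
noncomputable def PhiA (F : PolLaw.MulLaw A B C d) (π : MvPolynomial σ A →ₐ[A] B) :
    MvPolynomial (Fin d × σ) A →ₗ[A] C :=
  (TensorProduct.lid A C).toLinearMap ∘ₗ Phi (F.precomp π) A

theorem PhiA_mact [Fintype σ] [Fintype σ'] (F : PolLaw.MulLaw A B C d) {π : MvPolynomial σ A →ₐ[A] B}
    {π' : MvPolynomial σ' A →ₐ[A] B} {a : σ → σ' → A} (h : ∀ s, π (X s) = ∑ j, a s j • π' (X j))
    {u : (Fin d → σ) → A} (hu : IsSym (mlP u)) : PhiA F π' (mlP (mact a u)) = PhiA F π (mlP u) := by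
  rw [← bwm_mlP]
  exact lid_Phi_natural F π π' _ (matQ_spec h) hu

theorem mact_sym [Fintype σ] {u : (Fin d → σ) → A} (hu : ∀ (τ : Equiv.Perm (Fin d)) c, u (c ∘ τ) = u c)
    (a : σ → σ' → A) (τ : Equiv.Perm (Fin d)) (c : Fin d → σ') : mact a u (c ∘ τ) = mact a u c := by
  rw [mact_comp_perm]
  exact congrArg (fun v => mact a v c) (funext fun c => hu τ c)

theorem bwm_perm (q : (σ →₀ ℕ) → MvPolynomial σ' A) (τ : Equiv.Perm (Fin d)) (z : MvPolynomial (Fin d × σ) A) :
    bwm A q (rename (fun p : Fin d × σ => (τ p.1, p.2)) z) =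
      rename (fun p : Fin d × σ' => (τ p.1, p.2)) (bwm A q z) := by
  classical
  induction z using MvPolynomial.induction_on' with
  | add p p' hp hp' => simp only [map_add, hp, hp']
  | monomial e r =>
    have hinj : Function.Injective fun p : Fin d × σ => (τ p.1, p.2) := fun p q h => by
      simp only [Prod.mk.injEq] at h; exact Prod.ext (τ.injective h.1) h.2
    have hjoin : Finsupp.mapDomain (fun p : Fin d × σ => (τ p.1, p.2)) e = join (split e ∘ τ.symm) := by
      refine Finsupp.ext fun ⟨l, s⟩ => ?_
      obtain ⟨k, rfl⟩ := τ.surjective l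
      rw [show ((τ k, s) : Fin d × σ) = (fun p : Fin d × σ => (τ p.1, p.2)) (k, s) from rfl,
        Finsupp.mapDomain_apply hinj]
      simp [join_apply, split_apply]
    rw [rename_monomial, hjoin, bwm_monomial]
    conv_rhs => rw [← join_split e, bwm_monomial, map_smul, map_prod]
    congr 1
    refine Fintype.prod_equiv τ.symm _ _ fun l => ?_
    rw [rename_rename]
    simp [Function.comp_def]

theorem isSym_bwm (q : (σ →₀ ℕ) → MvPolynomial σ' A) {z : MvPolynomial (Fin d × σ) A} (hz : IsSym z) :
    IsSym (bwm A q z) := fun τ => by rw [← bwm_perm, hz τ]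

/-- The presentation of a finite family of elements. -/
noncomputable def pres (b : σ → B) : MvPolynomial σ A →ₐ[A] B := aeval b

theorem pres_X (b : σ → B) (s : σ) : pres (A := A) b (X s) = b s := aeval_X _ _

/-- **Every symmetric polynomial is a multilinear one, for all laws at once.** -/
theorem exists_multilinear (π : MvPolynomial σ A →ₐ[A] B) {z : MvPolynomial (Fin d × σ) A} (hz : IsSym z) :
    ∃ (σ' : Type u) (_ : Fintype σ') (b : σ' → B) (u : (Fin d → σ') → A),
      (∀ (τ : Equiv.Perm (Fin d)) c, u (c ∘ τ) = u c) ∧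
      (∀ {C' : Type u} [CommRing C'] [Algebra A C'] (F : PolLaw.MulLaw A B C' d),
        PhiA F π z = PhiA F (pres b) (mlP u)) ∧ ev π z = tev b u := by
  classical
  let g : (Fin d × σ →₀ ℕ) → Fin d → B := fun e l => π (monomial (split e l) 1)
  let s0 : Finset B := z.support.biUnion fun e => Finset.univ.image (g e)
  let q : (σ →₀ ℕ) → MvPolynomial B A := fun m => X (π (monomial m 1))
  have hq : ∀ m, (aeval id : MvPolynomial B A →ₐ[A] B) (q m) = π (monomial m 1) := fun m => aeval_X _ _
  let σ' := {x // x ∈ s0}
  let b : σ' → B := fun x => x.1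
  let z1 := bwm A q z
  have hz1 : IsSym z1 := isSym_bwm q hz
  have hgmem : ∀ e ∈ z.support, ∀ l, g e l ∈ s0 := fun e he l =>
    Finset.mem_biUnion.mpr ⟨e, he, Finset.mem_image_of_mem _ (Finset.mem_univ l)⟩
  let u : (Fin d → σ') → A := fun c => z1.coeff (word (b ∘ c))
  have hu : ∀ (τ : Equiv.Perm (Fin d)) c, u (c ∘ τ) = u c := fun τ c => by
    have hinj : Function.Injective fun p : Fin d × B => (τ.symm p.1, p.2) := fun p q h => by
      simp only [Prod.mk.injEq] at h; exact Prod.ext (τ.symm.injective h.1) h.2
    show z1.coeff (word ((b ∘ c) ∘ τ)) = z1.coeff (word (b ∘ c))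
    conv_lhs => rw [← hz1 τ.symm]
    have hw := word_perm (b ∘ c) τ.symm
    rw [Equiv.symm_symm] at hw
    rw [← hw, coeff_rename_mapDomain _ hinj]
  have hz1eq : z1 = ∑ e ∈ z.support, monomial (word (g e)) (z.coeff e) := by
    show bwm A q z = _
    conv_lhs => rw [as_sum z]
    rw [map_sum]
    refine Finset.sum_congr rfl fun e _ => ?_
    conv_lhs => rw [← join_split e, bwm_monomial]
    simp only [Algebra.algebraMap_self, MvPolynomial.map_id, RingHom.id_apply, q, rename_X, join_split]
    rw [show (∏ l, (X (l, g e l) : MvPolynomial (Fin d × B) A)) = monomial (word (g e)) 1 by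
      rw [word, join, monomial_sum_one]
      exact Finset.prod_congr rfl fun l _ => by simp [X], smul_monomial, smul_eq_mul, mul_one]
  have hren : rename (fun p : Fin d × σ' => (p.1, b p.2)) (mlP u) = z1 := by
    have hw : ∀ c : Fin d → σ', (word c).mapDomain (fun p : Fin d × σ' => (p.1, b p.2)) = word (b ∘ c) := fun c => by
      rw [word, word, join, join, Finsupp.mapDomain_finsetSum]
      refine Finset.sum_congr rfl fun l _ => ?_
      simp [Finsupp.mapDomain_single, Function.comp_def]
    rw [mlP, map_sum]
    simp only [rename_monomial, hw]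
    ext e
    rw [coeff_sum]
    simp only [coeff_monomial]
    by_cases he : ∃ c : Fin d → σ', word (b ∘ c) = e
    · obtain ⟨c, rfl⟩ := he
      rw [Finset.sum_eq_single c]
      · rw [if_pos rfl]
      · intro c' _ h
        rw [if_neg]
        intro h'
        exact h (funext fun l => Subtype.ext (congrFun (word_injective h') l))
      · simp
    · push Not at he
      rw [Finset.sum_eq_zero fun c _ => if_neg (he c), hz1eq, coeff_sum]
      refine (Finset.sum_eq_zero fun e' he' => ?_).symm
      rw [coeff_monomial, if_neg fun h => he (fun l => ⟨g e' l, hgmem e' he' l⟩) ?_]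
      exact h
  let qi : (σ' →₀ ℕ) → MvPolynomial B A := fun m => rename b (monomial m 1)
  have hqi : ∀ m, (aeval id : MvPolynomial B A →ₐ[A] B) (qi m) = pres b (monomial m 1) := fun m => aeval_rename _ _ _
  have hbwm : ∀ p, bwm A qi p = rename (fun p : Fin d × σ' => (p.1, b p.2)) p := fun p => by
    induction p using MvPolynomial.induction_on' with
    | add p p' hp hp' => simp only [map_add, hp, hp']
    | monomial e r =>
      conv_lhs => rw [← join_split e, bwm_monomial]
      simp only [Algebra.algebraMap_self, MvPolynomial.map_id, RingHom.id_apply, qi, rename_rename]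
      conv_rhs => rw [show monomial e r = r • monomial (join (split e)) (1 : A) by rw [join_split, smul_monomial]; simp,
        map_smul, show monomial (join (split e)) (1 : A) = ∏ l, rename (Prod.mk l) (monomial (split e l) (1 : A)) by
          simp only [rename_monomial]; exact monomial_sum_one _ _, map_prod]
      simp only [rename_rename]
      rfl
  refine ⟨σ', inferInstance, b, u, hu, fun {C'} _ _ F => ?_, ?_⟩
  · show TensorProduct.lid A C' (Phi (F.precomp π) A z) = TensorProduct.lid A C' (Phi (F.precomp (pres b)) A (mlP u))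
    rw [← lid_Phi_natural F π (aeval id) q hq hz, ← lid_Phi_natural F (pres b) (aeval id) qi hqi (isSym_mlP hu),
      hbwm, hren]
  · rw [← lid_Phi_lawT π hz, ← lid_Phi_natural (lawT A B d) π (aeval id) q hq hz,
      show bwm A q z = bwm A qi (mlP u) by rw [hbwm, hren],
      lid_Phi_natural (lawT A B d) (pres b) (aeval id) qi hqi (isSym_mlP hu), lid_Phi_lawT _ (isSym_mlP hu), ev_mlP]
    simp only [pres_X]

/-- **Flat case: `Ψ` kills the symmetric kernel.** -/
theorem PhiA_eq_zero_of_ev [Module.Flat A B] (F : PolLaw.MulLaw A B C d) (π : MvPolynomial σ A →ₐ[A] B)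
    {z : MvPolynomial (Fin d × σ) A} (hz : IsSym z) (h0 : ev π z = 0) : PhiA F π z = 0 := by
  obtain ⟨σ', _, b, u, hu, hF, hev⟩ := exists_multilinear π hz
  obtain ⟨σ'', _, b', a, hb, ha⟩ := exists_kill d b (K := PUnit.{u+1}) (fun _ => u) fun _ => by rw [← hev, h0]
  rw [hF, ← PhiA_mact F (π' := pres b') (a := a) (fun s => by simp only [pres_X]; exact hb s) (isSym_mlP hu),
    ha PUnit.unit, mlP_zero, map_zero]

/-- All orderings of a word without repetition. -/
noncomputable def dl (A : Type u) [CommRing A] (d : ℕ) : (Fin d → ULift.{u} (Fin d)) → A :=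
  open Classical in fun c => ∑ τ : Equiv.Perm (Fin d), if c = (fun l => ULift.up (τ l)) then 1 else 0

theorem dl_sym (τ : Equiv.Perm (Fin d)) (c : Fin d → ULift.{u} (Fin d)) : dl A d (c ∘ τ) = dl A d c := by
  classical
  simp only [dl]
  refine Fintype.sum_equiv (Equiv.mulRight τ⁻¹) _ _ fun π => if_congr ⟨fun h => ?_, fun h => ?_⟩ rfl rfl
  · funext l
    have := congrFun h (τ⁻¹ l)
    simpa using this
  · funext l
    have := congrFun h (τ l)
    simpa using this

theorem mact_dl (a : ULift.{u} (Fin d) → σ → A) (c' : Fin d → σ) :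
    mact a (dl A d) c' = ∑ τ : Equiv.Perm (Fin d), ∏ l, a (ULift.up (τ l)) (c' l) := by
  classical
  simp only [mact, dl, Finset.sum_mul, ite_mul, one_mul, zero_mul]
  rw [Finset.sum_comm]
  refine Finset.sum_congr rfl fun τ _ => ?_
  simp [Finset.sum_ite_eq']

theorem mact_dl_update_add [DecidableEq (Fin d)] (a : Fin d → σ → A) (i : Fin d) (r r' : σ → A) :
    mact (fun s => Function.update a i (r + r') s.down) (dl A d) =
      mact (fun s => Function.update a i r s.down) (dl A d) + mact (fun s => Function.update a i r' s.down) (dl A d) := by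
  classical
  funext c'
  rw [Pi.add_apply, mact_dl, mact_dl, mact_dl, ← Finset.sum_add_distrib]
  refine Finset.sum_congr rfl fun τ _ => ?_
  have hsplit : ∀ w : σ → A, (∏ l, Function.update a i w (τ l) (c' l)) =
      w (c' (τ.symm i)) * ∏ l ∈ Finset.univ.erase (τ.symm i), a (τ l) (c' l) := fun w => by
    rw [← Finset.mul_prod_erase _ _ (Finset.mem_univ (τ.symm i)), Equiv.apply_symm_apply, Function.update_self]
    congr 1
    refine Finset.prod_congr rfl fun l hl => ?_
    rw [Function.update_of_ne fun h => (Finset.mem_erase.mp hl).1 (by rw [← h, Equiv.symm_apply_apply])]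
  rw [hsplit, hsplit, hsplit, Pi.add_apply, add_mul]

theorem mact_dl_update_smul [DecidableEq (Fin d)] (a : Fin d → σ → A) (i : Fin d) (x : A) (r : σ → A) :
    mact (fun s => Function.update a i (x • r) s.down) (dl A d) =
      x • mact (fun s => Function.update a i r s.down) (dl A d) := by
  classical
  funext c'
  rw [Pi.smul_apply, mact_dl, mact_dl, Finset.smul_sum]
  refine Finset.sum_congr rfl fun τ _ => ?_
  have hsplit : ∀ w : σ → A, (∏ l, Function.update a i w (τ l) (c' l)) =
      w (c' (τ.symm i)) * ∏ l ∈ Finset.univ.erase (τ.symm i), a (τ l) (c' l) := fun w => by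
    rw [← Finset.mul_prod_erase _ _ (Finset.mem_univ (τ.symm i)), Equiv.apply_symm_apply, Function.update_self]
    congr 1
    refine Finset.prod_congr rfl fun l hl => ?_
    rw [Function.update_of_ne fun h => (Finset.mem_erase.mp hl).1 (by rw [← h, Equiv.symm_apply_apply])]
  rw [hsplit, hsplit, Pi.smul_apply, smul_eq_mul, smul_eq_mul, mul_assoc]

/-- The polarisation of a law. -/
noncomputable def polVal (F : PolLaw.MulLaw A B C d) (v : Fin d → B) : C :=
  PhiA F (pres fun s : ULift.{u} (Fin d) => v s.down) (mlP (dl A d))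

theorem PhiA_mact_dl [Fintype σ] (F : PolLaw.MulLaw A B C d) (b : σ → B) (a : Fin d → σ → A) :
    PhiA F (pres b) (mlP (mact (fun s => a s.down) (dl A d))) = polVal F fun i => ∑ j, a i j • b j :=
  PhiA_mact F (π := pres fun s : ULift.{u} (Fin d) => ∑ j, a s.down j • b j) (a := fun s => a s.down)
    (fun s => by simp [pres_X]) (isSym_mlP dl_sym)

/-- The polarisation as a multilinear map. -/
noncomputable def polMap (F : PolLaw.MulLaw A B C d) : MultilinearMap A (fun _ : Fin d => B) C where
  toFun := polVal F
  map_update_add' {inst} v i x y := by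
    classical
    let b : Option (Option (Fin d)) → B := fun o => o.elim y fun o' => o'.elim x v
    let σ0 := ULift.{u} (Option (Option (Fin d)))
    let b0 : σ0 → B := fun o => b o.down
    let a : Fin d → σ0 → A := fun j o => if o.down = some (some j) then 1 else 0
    let r : σ0 → A := fun o => if o.down = some none then 1 else 0
    let r' : σ0 → A := fun o => if o.down = none then 1 else 0
    have key : ∀ w : σ0 → A, (fun j => ∑ o, Function.update a i w j o • b0 o) =
        Function.update v i (∑ o, w o • b0 o) := fun w => by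
      funext j
      by_cases hj : j = i
      · subst hj; simp
      · rw [Function.update_of_ne hj, Function.update_of_ne hj, Finset.sum_eq_single (ULift.up (some (some j)))]
        · simp [a, b0, b]
        · intro o _ ho
          rw [show a j o = 0 from if_neg fun h => ho (ULift.ext _ _ h), zero_smul]
        · simp
    have hx : (∑ o, r o • b0 o) = x := by
      rw [Finset.sum_eq_single (ULift.up (some none))]
      · simp [r, b0, b]
      · intro o _ ho; rw [show r o = 0 from if_neg fun h => ho (ULift.ext _ _ h), zero_smul]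
      · simp
    have hy : (∑ o, r' o • b0 o) = y := by
      rw [Finset.sum_eq_single (ULift.up none)]
      · simp [r', b0, b]
      · intro o _ ho; rw [show r' o = 0 from if_neg fun h => ho (ULift.ext _ _ h), zero_smul]
      · simp
    have hxy : (∑ o, (r + r') o • b0 o) = x + y := by
      simp only [Pi.add_apply, add_smul, Finset.sum_add_distrib, hx, hy]
    have h := congrArg (fun w => PhiA F (pres b0) (mlP w)) (mact_dl_update_add a i r r')
    simp only [mlP_add, map_add, PhiA_mact_dl, key, hx, hy, hxy] at h
    convert h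
  map_update_smul' {inst} v i x y := by
    classical
    let b : Option (Fin d) → B := fun o => o.elim y v
    let σ0 := ULift.{u} (Option (Fin d))
    let b0 : σ0 → B := fun o => b o.down
    let a : Fin d → σ0 → A := fun j o => if o.down = some j then 1 else 0
    let r : σ0 → A := fun o => if o.down = none then 1 else 0
    have key : ∀ w : σ0 → A, (fun j => ∑ o, Function.update a i w j o • b0 o) =
        Function.update v i (∑ o, w o • b0 o) := fun w => by
      funext j
      by_cases hj : j = i
      · subst hj; simp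
      · rw [Function.update_of_ne hj, Function.update_of_ne hj, Finset.sum_eq_single (ULift.up (some j))]
        · simp [a, b0, b]
        · intro o _ ho
          rw [show a j o = 0 from if_neg fun h => ho (ULift.ext _ _ h), zero_smul]
        · simp
    have hy : (∑ o, r o • b0 o) = y := by
      rw [Finset.sum_eq_single (ULift.up none)]
      · simp [r, b0, b]
      · intro o _ ho; rw [show r o = 0 from if_neg fun h => ho (ULift.ext _ _ h), zero_smul]
      · simp
    have hxy : (∑ o, (x • r) o • b0 o) = x • y := by
      simp only [Pi.smul_apply, smul_eq_mul, ← smul_smul, ← Finset.smul_sum, hy]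
    have h := congrArg (fun w => PhiA F (pres b0) (mlP w)) (mact_dl_update_smul a i x r)
    simp only [mlP_smul, map_smul, PhiA_mact_dl, key, hy, hxy] at h
    convert h

theorem factorial_smul_PhiA (F : PolLaw.MulLaw A B C d) [Fintype σ] (b : σ → B) {u : (Fin d → σ) → A}
    (hu : ∀ (τ : Equiv.Perm (Fin d)) c, u (c ∘ τ) = u c) :
    d.factorial • PhiA F (pres b) (mlP u) = PiTensorProduct.lift (polMap F) (tev b u) := by
  classical
  let e : (Fin d → σ) → Fin d → σ → A := fun c i s => if s = c i then 1 else 0
  have hsum : (∑ c, u c • mact (fun s => e c s.down) (dl A d)) = d.factorial • u := by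
    funext c'
    rw [Finset.sum_apply, Pi.smul_apply]
    simp only [Pi.smul_apply, mact_dl, smul_eq_mul, Finset.mul_sum, e]
    rw [Finset.sum_comm, show d.factorial = (Finset.univ : Finset (Equiv.Perm (Fin d))).card by
      simp [Fintype.card_perm], ← Finset.sum_const]
    refine Finset.sum_congr rfl fun τ _ => ?_
    rw [Finset.sum_eq_single (c' ∘ τ.symm)]
    · rw [hu, Finset.prod_eq_one fun l _ => by simp, mul_one]
    · intro c _ hc
      obtain ⟨l, hl⟩ : ∃ l, c' l ≠ c (τ l) := by
        by_contra hne
        push Not at hne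
        exact hc (funext fun l => by simpa using (hne (τ.symm l)).symm)
      rw [Finset.prod_eq_zero (Finset.mem_univ l) (if_neg hl), mul_zero]
    · simp
  rw [← map_nsmul, show d.factorial • mlP u = mlP (d.factorial • u) by
    simp [mlP, Finset.smul_sum, smul_monomial, nsmul_eq_mul, ← map_natCast (MvPolynomial.C (σ := Fin d × σ) (R := A)), C_mul_monomial],
    ← hsum, tev, map_sum]
  rw [show mlP (∑ c, u c • mact (fun s => e c s.down) (dl A d)) =
    ∑ c, u c • mlP (mact (fun s => e c s.down) (dl A d)) by
      induction (Finset.univ : Finset (Fin d → σ)) using Finset.induction with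
      | empty => simp [mlP_zero]
      | insert c t hc ih => rw [Finset.sum_insert hc, Finset.sum_insert hc, mlP_add, mlP_smul, ih], map_sum]
  refine Finset.sum_congr rfl fun c _ => ?_
  rw [map_smul, map_smul, PhiA_mact_dl, PiTensorProduct.lift.tprod]
  congr 1
  show polVal F _ = polVal F fun l => b (c l)
  congr 1
  funext i
  simp [e]

/-- **`d!` kills the symmetric kernel.** -/
theorem factorial_smul_PhiA_eq_zero (F : PolLaw.MulLaw A B C d) (π : MvPolynomial σ A →ₐ[A] B)
    {z : MvPolynomial (Fin d × σ) A} (hz : IsSym z) (h0 : ev π z = 0) : d.factorial • PhiA F π z = 0 := by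
  obtain ⟨σ', _, b, u, hu, hF, hev⟩ := exists_multilinear π hz
  rw [hF, factorial_smul_PhiA F b hu, ← hev, h0, map_zero]

end Groth.Agent.PolLawLib
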