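import Mathlib
import Groth.Agent.PolLawLib.SymKer

/-!
# Symmetric tensors as `Γ^d`
-/

set_option autoImplicit false

universe u

open scoped TensorProduct
open MvPolynomial

namespace Groth.Agent.PolLawLib

variable {A : Type u} [CommRing A] {B : Type u} [CommRing B] [Algebra A B] {C : Type u} [CommRing C] [Algebra A C]
  {d : ℕ} {σ σ' : Type u}

section module

variable {M : Type u} [AddCommGroup M] [Module A M]

theorem tev_add [Fintype σ] (b : σ → M) (u v : (Fin d → σ) → A) : tev b (u + v) = tev b u + tev b v := by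
  simp [tev, add_smul, Finset.sum_add_distrib]

theorem tev_smul [Fintype σ] (b : σ → M) (a : A) (u : (Fin d → σ) → A) : tev b (a • u) = a • tev b u := by
  simp [tev, Finset.smul_sum, smul_smul]

theorem mact_sub [Fintype σ] (a : σ → σ' → A) (u v : (Fin d → σ) → A) : mact a (u - v) = mact a u - mact a v := by
  funext c; simp [mact, sub_mul, Finset.sum_sub_distrib]

theorem exists_tev (t : ⨂[A] _ : Fin d, M) :
    ∃ (σ : Type u) (_ : Fintype σ) (b : σ → M) (u : (Fin d → σ) → A), tev b u = t := by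
  classical
  induction t using PiTensorProduct.induction_on with
  | smul_tprod r f =>
    refine ⟨ULift.{u} (Fin d), inferInstance, fun s => f s.down, fun c => if c = ULift.up then r else 0, ?_⟩
    rw [tev, Finset.sum_eq_single (ULift.up : Fin d → ULift.{u} (Fin d))]
    · simp
    · intro c _ hc; rw [if_neg hc, zero_smul]
    · simp
  | add x y hx hy =>
    obtain ⟨σ₁, _, b₁, u₁, rfl⟩ := hx
    obtain ⟨σ₂, _, b₂, u₂, rfl⟩ := hy
    let a₁ : σ₁ → σ₁ ⊕ σ₂ → A := fun s j => if j = Sum.inl s then 1 else 0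
    let a₂ : σ₂ → σ₁ ⊕ σ₂ → A := fun s j => if j = Sum.inr s then 1 else 0
    refine ⟨σ₁ ⊕ σ₂, inferInstance, Sum.elim b₁ b₂, mact a₁ u₁ + mact a₂ u₂, ?_⟩
    rw [tev_add, tev_mact (b := b₁) (fun s => by simp [a₁, -Fintype.sum_sum_type]),
      tev_mact (b := b₂) (fun s => by simp [a₂, -Fintype.sum_sum_type])]

theorem reindex_tev [Fintype σ] (τ : Equiv.Perm (Fin d)) (b : σ → M) (u : (Fin d → σ) → A) :
    PiTensorProduct.reindex A (fun _ : Fin d => M) τ (tev b u) = tev b fun c => u (c ∘ τ) := by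
  classical
  simp only [tev, map_sum, map_smul, PiTensorProduct.reindex_tprod]
  refine Fintype.sum_equiv (Equiv.arrowCongr τ (Equiv.refl σ)) _ _ fun c => ?_
  rw [show (Equiv.arrowCongr τ (Equiv.refl σ) c) ∘ τ = c by funext l; simp]
  rfl

end module

variable (A B) in
/-- The presentation of `B` by all its elements. -/
noncomputable abbrev pi0 : MvPolynomial B A →ₐ[A] B := aeval id

theorem pi0_surjective : Function.Surjective (pi0 A B) := fun b => ⟨X b, aeval_X _ _⟩

/-- Moving a multilinear symmetric polynomial to the tautological presentation. -/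
theorem exists_pi0 [Fintype σ] (b : σ → B) {u : (Fin d → σ) → A}
    (hu : ∀ (τ : Equiv.Perm (Fin d)) c, u (c ∘ τ) = u c) :
    ∃ z : symAlg A B d, ev (pi0 A B) z.1 = tev b u ∧
      ∀ {C' : Type u} [CommRing C'] [Algebra A C'] (F : PolLaw.MulLaw A B C' d),
        Psi (F.precomp (pi0 A B)) z = PhiA F (pres b) (mlP u) := by
  let qi : (σ →₀ ℕ) → MvPolynomial B A := fun m => rename b (monomial m 1)
  have hqi : ∀ m, pi0 A B (qi m) = pres b (monomial m 1) := fun m => aeval_rename _ _ _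
  refine ⟨⟨bwm A qi (mlP u), isSym_bwm qi (isSym_mlP hu)⟩, ?_, fun F => ?_⟩
  · rw [← lid_Phi_lawT (pi0 A B) (isSym_bwm qi (isSym_mlP hu)), lid_Phi_natural (lawT A B d) (pres b) _ qi hqi (isSym_mlP hu),
      lid_Phi_lawT _ (isSym_mlP hu), ev_mlP]
    simp only [pres_X]
  · exact lid_Phi_natural F (pres b) _ qi hqi (isSym_mlP hu)

theorem exists_sym_ev_of_flat [Module.Flat A B] (t : SymTen.TS A B d) :
    ∃ z : symAlg A B d, ev (pi0 A B) z.1 = t.1 := by
  obtain ⟨σ, _, b, u, hu⟩ := exists_tev t.1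
  obtain ⟨σ', _, b', a, hb, ha⟩ := exists_kill d b (K := ULift.{u} (Equiv.Perm (Fin d)))
    (fun τ => (fun c => u (c ∘ τ.down)) - u) fun τ => by
      have h : tev b (fun c => u (c ∘ τ.down)) = tev b u := by
        rw [← reindex_tev, hu]; exact t.2 τ.down
      have h2 := tev_add b ((fun c => u (c ∘ τ.down)) - u) u
      rw [sub_add_cancel, h] at h2
      exact right_eq_add.mp h2
  have hsym : ∀ (τ : Equiv.Perm (Fin d)) c, mact a u (c ∘ τ) = mact a u c := fun τ c => by
    have h := congrFun (ha ⟨τ⟩) c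
    rw [mact_sub, Pi.sub_apply, Pi.zero_apply, sub_eq_zero] at h
    rw [mact_comp_perm]; exact h
  obtain ⟨z, hz, -⟩ := exists_pi0 b' hsym
  exact ⟨z, by rw [hz, tev_mact hb, hu]⟩

theorem exists_sym_ev_factorial (t : SymTen.TS A B d) :
    ∃ z : symAlg A B d, ev (pi0 A B) z.1 = d.factorial • t.1 := by
  classical
  obtain ⟨σ, _, b, u, hu⟩ := exists_tev t.1
  let v : (Fin d → σ) → A := fun c => ∑ τ : Equiv.Perm (Fin d), u (c ∘ τ)
  have hv : ∀ (τ : Equiv.Perm (Fin d)) c, v (c ∘ τ) = v c := fun τ c => by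
    refine Fintype.sum_equiv (Equiv.mulLeft τ) _ _ fun π => ?_
    rfl
  obtain ⟨z, hz, -⟩ := exists_pi0 b hv
  refine ⟨z, hz.trans ?_⟩
  have h : ∀ τ : Equiv.Perm (Fin d), tev b (fun c => u (c ∘ τ)) = t.1 := fun τ => by
    rw [← reindex_tev, hu]; exact t.2 τ
  rw [show d.factorial = (Finset.univ : Finset (Equiv.Perm (Fin d))).card by simp [Fintype.card_perm],
    ← Finset.sum_const]
  conv_rhs => enter [2, τ]; rw [← h τ]
  simp only [tev, v, Finset.sum_smul]
  exact Finset.sum_comm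

theorem exists_sym_ev_of_isUnit (h : IsUnit ((d.factorial : ℕ) : A)) (t : SymTen.TS A B d) :
    ∃ z : symAlg A B d, ev (pi0 A B) z.1 = t.1 := by
  obtain ⟨z, hz⟩ := exists_sym_ev_factorial t
  obtain ⟨e, he⟩ := h.exists_left_inv
  refine ⟨e • z, ?_⟩
  rw [SetLike.val_smul, map_smul, hz, ← Nat.cast_smul_eq_nsmul A, smul_smul, he, one_smul]

theorem law_ext {F G : PolLaw.MulLaw A B C d}
    (h : ∀ z : symAlg A B d, Psi (F.precomp (pi0 A B)) z = Psi (G.precomp (pi0 A B)) z) : F = G := by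
  refine PolLaw.MulLaw.ext ?_
  ext S _ _ x
  letI : CommRing S := { (inferInstance : CommSemiring S), Algebra.semiringToRing A (A := S) with }
  obtain ⟨y, rfl⟩ := prB_surjective (A := A) (B := B) S x
  rw [toFun_prB, toFun_prB, (isSym_blockProd y).eq_sum, map_sum, map_sum]
  refine Finset.sum_congr rfl fun κ _ => ?_
  rw [← smul_eq_C_mul, map_smul, map_smul, ← map_orb (algebraMap A S), Phi_map_algebraMap, Phi_map_algebraMap]
  exact congrArg _ (congrArg _ (h ⟨_, isSym_orb A κ⟩))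

theorem lawT_fin (S : Type u) [CommSemiring S] [Algebra A S] (n : ℕ) (s : Fin n → S) (b : Fin n → B) :
    (lawT A B d).law.toFun' S (∑ j, s j ⊗ₜ[A] b j) =
      ∑ c : Fin d → Fin n, (∏ i, s (c i)) ⊗ₜ[A] PiTensorProduct.tprod A (fun i => b (c i)) := by
  rw [lawT_sum A B d S Finset.univ s b, Fintype.piFinset_univ]

theorem exists_fin_sum (S : Type u) [CommSemiring S] [Algebra A S] (x : S ⊗[A] B) :
    ∃ (n : ℕ) (s : Fin n → S) (b : Fin n → B), x = ∑ j, s j ⊗ₜ[A] b j := by
  obtain ⟨T, hT⟩ := TensorProduct.exists_finset x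
  refine ⟨_, fun j => (T.equivFin.symm j).1.1, fun j => (T.equivFin.symm j).1.2, ?_⟩
  rw [hT, ← Finset.sum_coe_sort T]
  exact (T.equivFin.symm.sum_comp fun i : T => i.1.1 ⊗ₜ[A] i.1.2).symm

/-- **Symmetric tensors are `Γ^d` in the flat case and when `d!` is invertible.** -/
theorem isGammaD_tauLaw (h : Module.Flat A B ∨ IsUnit ((d.factorial : ℕ) : A)) :
    PolLaw.IsGammaD (tauLaw A B d) := by
  intro C' _ _ F
  let ΨT := Psi ((tauLaw A B d).precomp (pi0 A B))
  let ΨF := Psi (F.precomp (pi0 A B))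
  have hsurj : Function.Surjective ΨT := fun t => by
    obtain ⟨z, hz⟩ := h.elim (fun _ => exists_sym_ev_of_flat t) fun hu => exists_sym_ev_of_isUnit hu t
    exact ⟨z, Subtype.ext ((val_Psi_tau _ z).trans hz)⟩
  have hker : ∀ z, ΨT z = 0 → ΨF z = 0 := fun z hz => by
    have h0 : ev (pi0 A B) z.1 = 0 := by rw [← val_Psi_tau, show Psi _ z = ΨT z from rfl, hz]; rfl
    rcases h with hf | hu
    · exact PhiA_eq_zero_of_ev F _ z.2 h0
    · have h1 : ((d.factorial : ℕ) : A) • ΨF z = 0 := by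
        rw [Nat.cast_smul_eq_nsmul]; exact factorial_smul_PhiA_eq_zero F _ z.2 h0
      exact hu.smul_eq_zero.mp h1
  let f : SymTen.TS A B d →ₐ[A] C' := (Ideal.Quotient.liftₐ (RingHom.ker ΨT) ΨF fun z hz => hker z hz).comp
    (Ideal.quotientKerAlgEquivOfSurjective hsurj).symm.toAlgHom
  have hf : ∀ z, f (ΨT z) = ΨF z := fun z => by
    show (Ideal.Quotient.liftₐ (RingHom.ker ΨT) ΨF fun z hz => hker z hz)
      ((Ideal.quotientKerAlgEquivOfSurjective hsurj).symm (ΨT z)) = ΨF z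
    rw [show (Ideal.quotientKerAlgEquivOfSurjective hsurj).symm (ΨT z) = Ideal.Quotient.mk _ z from
      (AlgEquiv.symm_apply_eq _).mpr rfl]
    rfl
  refine ⟨f, congrArg PolLaw.MulLaw.law (law_ext (F := PolLaw.MulLaw.postcomp f (tauLaw A B d)) fun z => ?_), fun g hg => ?_⟩
  · exact (lid_Phi_postcomp ((tauLaw A B d).precomp (pi0 A B)) f z.2).trans (hf z)
  · refine AlgHom.ext fun t => ?_
    obtain ⟨z, rfl⟩ := hsurj t
    rw [hf]
    refine ((lid_Phi_postcomp ((tauLaw A B d).precomp (pi0 A B)) g z.2).symm.trans ?_)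
    have : PolLaw.MulLaw.postcomp g (tauLaw A B d) = F := PolLaw.MulLaw.ext hg
    show TensorProduct.lid A C' (Phi ((PolLaw.MulLaw.postcomp g (tauLaw A B d)).precomp (pi0 A B)) A z.1) = _
    rw [this]
    rfl

theorem tau_formula (S : Type u) [CommSemiring S] [Algebra A S] (n : ℕ) (s : Fin n → S) (b : Fin n → B) :
    (SymTen.TS A B d).val.toLinearMap.lTensor S ((tauLaw A B d).law.toFun' S (∑ j, s j ⊗ₜ[A] b j)) =
      ∑ c : Fin d → Fin n, (∏ i, s (c i)) ⊗ₜ[A] PiTensorProduct.tprod A (fun i => b (c i)) := by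
  rw [← lawT_fin, ← val_tauLaw]
  rfl

section phi

variable {γ : PolLaw.MulLaw A B C d} {φ : C →ₐ[A] SymTen.TS A B d}
  (hφ : ∀ (S : Type u) [CommSemiring S] [Algebra A S] (n : ℕ) (s : Fin n → S) (b : Fin n → B),
      ((SymTen.TS A B d).val.comp φ).toLinearMap.lTensor S (γ.law.toFun' S (∑ j, s j ⊗ₜ[A] b j)) =
        ∑ c : Fin d → Fin n, (∏ i, s (c i)) ⊗ₜ[A] PiTensorProduct.tprod A (fun i => b (c i)))

include hφ in
theorem postcomp_phi : PolLaw.MulLaw.postcomp ((SymTen.TS A B d).val.comp φ) γ = lawT A B d := by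
  refine PolLaw.MulLaw.ext ?_
  ext S _ _ x
  obtain ⟨n, s, b, rfl⟩ := exists_fin_sum S x
  exact (hφ S n s b).trans (lawT_fin S n s b).symm

include hφ in
theorem val_phi_Psi (π : MvPolynomial σ A →ₐ[A] B) (z : symAlg A σ d) :
    ((φ (Psi (γ.precomp π) z) : SymTen.TS A B d) : T A B d) = ev π z.1 := by
  rw [← lid_Phi_lawT π z.2, ← postcomp_phi hφ]
  exact (lid_Phi_postcomp (γ.precomp π) ((SymTen.TS A B d).val.comp φ) z.2).symm

include hφ in
theorem factorial_ker (hγ : PolLaw.IsGammaD γ) :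
    (∀ x : C, φ x = 0 → d.factorial • x = 0) ∧ (∀ y : SymTen.TS A B d, d.factorial • y ∈ φ.range) := by
  refine ⟨fun x hx => ?_, fun y => ?_⟩
  · obtain ⟨z, rfl⟩ := Psi_surjective hγ pi0_surjective x
    exact factorial_smul_PhiA_eq_zero γ _ z.2 (by rw [← val_phi_Psi hφ, hx]; rfl)
  · obtain ⟨z, hz⟩ := exists_sym_ev_factorial y
    exact ⟨Psi (γ.precomp (pi0 A B)) z, Subtype.ext (((val_phi_Psi hφ _ z).trans hz).trans (by simp))⟩

end phi

end Groth.Agent.PolLawLib
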