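import Mathlib
import Groth.Agent.PolLawLib.SymNorm

/-!
# `Γ^d` of a finitely presented algebra is finitely presented
-/

set_option autoImplicit false

universe u

open scoped TensorProduct
open MvPolynomial

namespace Groth.Agent.PolLawLib

variable {A : Type u} [CommRing A] {d : ℕ}

section freeLaw

variable (A d) (σ : Type u)

/-- `x ↦ ∏_l x(X_l)` on polynomials. -/
noncomputable def lawPP : PolLaw.MulLaw A (MvPolynomial σ A) (MvPolynomial (Fin d × σ) A) d where
  law :=
    { toFun' := fun S _ _ x => ∏ l : Fin d, Algebra.TensorProduct.map (AlgHom.id S S) (rename (Prod.mk l)) x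
      isCompat' := fun {S} _ _ {S'} _ _ φ => by
        funext x
        simp only [Function.comp_apply]
        rw [rTensor_eq_map _ φ, rTensor_eq_map _ φ, map_prod]
        refine Finset.prod_congr rfl fun l _ => ?_
        induction x using TensorProduct.induction_on with
        | zero => simp
        | tmul a b => rfl
        | add a b ha hb => simp only [map_add, ha, hb] }
  homog S _ _ s x := by
    show (∏ l : Fin d, Algebra.TensorProduct.map (AlgHom.id S S) (rename (Prod.mk l)) (s • x)) =
      s ^ d • ∏ l : Fin d, Algebra.TensorProduct.map (AlgHom.id S S) (rename (Prod.mk l)) x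
    simp only [map_smul]
    rw [Finset.prod_congr rfl fun l _ => Algebra.smul_def s _, Finset.prod_mul_distrib, Finset.prod_const,
      Finset.card_univ, Fintype.card_fin, ← map_pow, ← Algebra.smul_def]
  mult S _ _ := by
    refine ⟨?_, fun x y => ?_⟩
    · show (∏ l : Fin d, Algebra.TensorProduct.map (AlgHom.id S S) (rename (Prod.mk l)) 1) = 1
      simp
    · show (∏ l : Fin d, Algebra.TensorProduct.map (AlgHom.id S S) (rename (Prod.mk l)) (x * y)) =
        (∏ l : Fin d, Algebra.TensorProduct.map (AlgHom.id S S) (rename (Prod.mk l)) x) *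
          ∏ l : Fin d, Algebra.TensorProduct.map (AlgHom.id S S) (rename (Prod.mk l)) y
      simp [Finset.prod_mul_distrib]

variable {A d}

theorem lawPP_lTensor_perm (π : Equiv.Perm (Fin d)) (S : Type u) [CommSemiring S] [Algebra A S]
    (x : S ⊗[A] MvPolynomial σ A) :
    (rename fun p : Fin d × σ => (π p.1, p.2)).toLinearMap.lTensor S ((lawPP A d σ).law.toFun' S x) =
      (lawPP A d σ).law.toFun' S x := by
  show _ = ∏ l : Fin d, Algebra.TensorProduct.map (AlgHom.id S S) (rename (Prod.mk l)) x
  rw [PolLaw.lTensor_algHom_apply]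
  show Algebra.TensorProduct.map (AlgHom.id S S) (rename fun p : Fin d × σ => (π p.1, p.2))
    (∏ l : Fin d, Algebra.TensorProduct.map (AlgHom.id S S) (rename (Prod.mk l)) x) = _
  rw [map_prod]
  refine Fintype.prod_equiv π _ _ fun l => ?_
  induction x using TensorProduct.induction_on with
  | zero => simp
  | tmul a b => simp only [Algebra.TensorProduct.map_tmul, rename_rename]; rfl
  | add a b ha hb => simp only [map_add, ha, hb]

theorem lawPP_mem (M : Type u) (r : MvPolynomial M A ⊗[A] MvPolynomial σ A) :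
    (lawPP A d σ).law.toFun' (MvPolynomial M A) r ∈
      LinearMap.range ((symAlg A σ d).val.toLinearMap.lTensor (MvPolynomial M A)) := by
  classical
  set w := (lawPP A d σ).law.toFun' (MvPolynomial M A) r with hw
  have hmem : ∀ κ : M →₀ ℕ, coefA κ w ∈ symAlg A σ d := fun κ π => by
    conv_rhs => rw [hw, ← lawPP_lTensor_perm σ π _ r, ← hw]
    generalize w = v
    induction v using TensorProduct.induction_on with
    | zero => simp
    | tmul p c => rw [LinearMap.lTensor_tmul, coefA_tmul, coefA_tmul, map_smul]; rfl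
    | add a b ha hb => simp only [map_add, ha, hb]
  obtain ⟨s, hs⟩ : ∃ s : Finset (M →₀ ℕ), w = ∑ κ ∈ s, monomial κ (1 : A) ⊗ₜ[A] coefA κ w := by
    refine ⟨(TensorProduct.equivFinsuppOfBasisLeft (basisMonomials M A) (N := MvPolynomial (Fin d × σ) A) w).support, ?_⟩
    refine coefA_ext fun κ => ?_
    rw [map_sum]
    simp only [coefA_tmul, coeff_monomial, ite_smul, one_smul, zero_smul, Finset.sum_ite_eq']
    have key : ∀ v : MvPolynomial M A ⊗[A] MvPolynomial (Fin d × σ) A,
        TensorProduct.equivFinsuppOfBasisLeft (basisMonomials M A) v κ = coefA κ v := by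
      intro v
      induction v using TensorProduct.induction_on with
      | zero => simp
      | tmul p c => rw [TensorProduct.equivFinsuppOfBasisLeft_apply_tmul_apply, coefA_tmul]; rfl
      | add a b ha hb => rw [map_add, map_add, Finsupp.add_apply, ha, hb]
    split_ifs with h
    · rfl
    · rw [← key]; exact Finsupp.notMem_support_iff.mp h
  rw [hs]
  exact Submodule.sum_mem _ fun κ _ => ⟨monomial κ (1 : A) ⊗ₜ[A] ⟨_, hmem κ⟩, rfl⟩

variable (A d)

/-- The universal law into symmetric polynomials. -/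
noncomputable def lawSym : PolLaw.MulLaw A (MvPolynomial σ A) (symAlg A σ d) d :=
  coLaw (lawPP A d σ) (symAlg A σ d) (lawPP_mem σ)

theorem val_lawSym : PolLaw.MulLaw.postcomp (symAlg A σ d).val (lawSym A d σ) = lawPP A d σ :=
  PolLaw.MulLaw.ext (postcomp_coLaw (lawPP A d σ) (symAlg A σ d) (lawPP_mem σ))

variable {A d σ}

theorem lid_Phi_lawPP {z : MvPolynomial (Fin d × σ) A} (hz : IsSym z) :
    TensorProduct.lid A (MvPolynomial (Fin d × σ) A) (Phi (lawPP A d σ) A z) = z := by
  classical
  conv_lhs => rw [hz.eq_sum]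
  rw [map_sum, map_sum]
  conv_rhs => rw [hz.eq_sum]
  refine Finset.sum_congr rfl fun κ _ => ?_
  rw [← smul_eq_C_mul, map_smul, map_smul]
  congr 1
  rw [Phi_orb, ← lawP_gen, lawP]
  simp only [gen, map_sum, algebraTensorAlgEquiv_symm_monomial]
  show coefA κ (∏ l : Fin d, Algebra.TensorProduct.map (AlgHom.id _ _) (rename (Prod.mk l))
    (∑ m ∈ κ.support, (X m : MvPolynomial (σ →₀ ℕ) A) ⊗ₜ[A] monomial m (1 : A))) = _
  simp only [map_sum, Algebra.TensorProduct.map_tmul, AlgHom.coe_id, id_eq, rename_monomial]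
  rw [Finset.prod_univ_sum]
  rw [show (∑ c ∈ Fintype.piFinset fun _ : Fin d => κ.support, ∏ l, ((X (c l) : MvPolynomial (σ →₀ ℕ) A) ⊗ₜ[A]
      monomial ((c l).mapDomain (Prod.mk l)) (1 : A))) =
    ∑ c ∈ Fintype.piFinset fun _ : Fin d => κ.support, (∏ l, (X (c l) : MvPolynomial (σ →₀ ℕ) A)) ⊗ₜ[A]
      monomial (join c) (1 : A) from Finset.sum_congr rfl fun c _ => by
    rw [show monomial (join c) (1 : A) = ∏ l, monomial ((c l).mapDomain (Prod.mk l)) (1 : A) from monomial_sum_one _ _]
    induction (Finset.univ : Finset (Fin d)) using Finset.induction with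
    | empty => simp [Algebra.TensorProduct.one_def]
    | insert a t hat ih => rw [Finset.prod_insert hat, Finset.prod_insert hat, Finset.prod_insert hat, ih,
        Algebra.TensorProduct.tmul_mul_tmul], coefA_sum_eq κ rfl, orb]

theorem Psi_lawSym (z : symAlg A σ d) : Psi (lawSym A d σ) z = z := by
  refine Subtype.ext ?_
  show (symAlg A σ d).val (TensorProduct.lid A _ (Phi (lawSym A d σ) A z.1)) = z.1
  rw [← lid_Phi_postcomp _ _ z.2, val_lawSym, lid_Phi_lawPP z.2]

/-- Blockwise substitution on symmetric polynomials. -/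
noncomputable def bwSym {τ : Type u} (g : MvPolynomial σ A →ₐ[A] MvPolynomial τ A) :
    symAlg A σ d →ₐ[A] symAlg A τ d :=
  ((bw A g).comp (symAlg A σ d).val).codRestrict (symAlg A τ d) fun z π => by
    show rename _ (bw A g z.1) = bw A g z.1
    rw [← bw_perm, z.2 π]

theorem lawSym_natural {τ : Type u} (g : MvPolynomial σ A →ₐ[A] MvPolynomial τ A) :
    PolLaw.MulLaw.postcomp (bwSym g) (lawSym A d σ) = (lawSym A d τ).precomp g := by
  refine law_ext_free fun M x => ?_
  apply lTensor_val_injective (symAlg A τ d) M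
  let R := MvPolynomial M A
  have e : ∀ (ρ : Type u) (y : R ⊗[A] MvPolynomial ρ A),
      (symAlg A ρ d).val.toLinearMap.lTensor R ((lawSym A d ρ).law.toFun' R y) = (lawPP A d ρ).law.toFun' R y := fun ρ y => by
    rw [← val_lawSym A d ρ]; rfl
  show (symAlg A τ d).val.toLinearMap.lTensor R ((bwSym g).toLinearMap.lTensor R ((lawSym A d σ).law.toFun' R x)) =
    (symAlg A τ d).val.toLinearMap.lTensor R ((lawSym A d τ).law.toFun' R (g.toLinearMap.lTensor R x))
  rw [e, ← LinearMap.lTensor_comp_apply,
    show (symAlg A τ d).val.toLinearMap ∘ₗ (bwSym g).toLinearMap = (bw A g).toLinearMap ∘ₗ (symAlg A σ d).val.toLinearMap from rfl,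
    LinearMap.lTensor_comp_apply, e, PolLaw.lTensor_algHom_apply g]
  rw [PolLaw.lTensor_algHom_apply]
  show Algebra.TensorProduct.map (AlgHom.id R R) (bw A g) (∏ l : Fin d, Algebra.TensorProduct.map (AlgHom.id R R) (rename (Prod.mk l)) x) =
    ∏ l : Fin d, Algebra.TensorProduct.map (AlgHom.id R R) (rename (Prod.mk l)) (Algebra.TensorProduct.map (AlgHom.id R R) g x)
  rw [map_prod]
  refine Finset.prod_congr rfl fun l _ => ?_
  induction x using TensorProduct.induction_on with
  | zero => simp
  | tmul a b =>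
    simp only [Algebra.TensorProduct.map_tmul, AlgHom.coe_id, id_eq]
    congr 1
    rw [← AlgHom.comp_apply, ← AlgHom.comp_apply (φ₁ := rename (Prod.mk l))]
    congr 1
    refine MvPolynomial.algHom_ext fun v => ?_
    simp [bw, Algebra.algebraMap_self, MvPolynomial.map_id]
  | add a b ha hb => simp only [map_add, ha, hb]

theorem finitePresentation_symAlg_of [Finite σ] (Z : Type u) [CommRing Z] [IsNoetherianRing Z] [Algebra Z A]
    (hT : (symAlg Z σ d).FG) : Algebra.FinitePresentation A (symAlg A σ d) := by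
  classical
  let f : Z →+* A := algebraMap Z A
  haveI : Algebra.FiniteType Z (symAlg Z σ d) := ⟨(Subalgebra.fg_top _).mpr hT⟩
  haveI : Algebra.FinitePresentation Z (symAlg Z σ d) := Algebra.FinitePresentation.of_finiteType.mp inferInstance
  let e : A ⊗[Z] symAlg Z σ d →ₐ[A] MvPolynomial (Fin d × σ) A :=
    (algebraTensorAlgEquiv Z A).toAlgHom.comp (Algebra.TensorProduct.map (AlgHom.id A A) (symAlg Z σ d).val)
  have he : ∀ (a : A) (z : symAlg Z σ d), e (a ⊗ₜ[Z] z) = a • MvPolynomial.map f z.1 := fun a z => by simp [e]; rfl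
  have hrange : ∀ x, e x ∈ symAlg A σ d := fun x => by
    induction x using TensorProduct.induction_on with
    | zero => rw [map_zero]; exact Subalgebra.zero_mem _
    | tmul a z =>
      rw [he]
      refine Subalgebra.smul_mem _ (fun π => ?_) a
      rw [← map_rename, z.2 π]
    | add x y hx hy => rw [map_add]; exact Subalgebra.add_mem _ hx hy
  let e' : A ⊗[Z] symAlg Z σ d →ₐ[A] symAlg A σ d := e.codRestrict _ hrange
  let r : MvPolynomial (Fin d × σ) Z →ₗ[Z] (symAlg Z σ d) :=
    (basisMonomials (Fin d × σ) Z).constr Z fun e =>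
      if rep (kap (split e)) = split e then ⟨orb Z d (kap (split e)), isSym_orb Z _⟩ else 0
  have hr : r ∘ₗ (symAlg Z σ d).val.toLinearMap = LinearMap.id := LinearMap.ext fun z => by
    obtain ⟨z, hz⟩ := z
    show r z = (⟨z, hz⟩ : (symAlg Z σ d))
    have horb : ∀ κ, r (orb Z d κ) = (⟨orb Z d κ, isSym_orb Z κ⟩ : (symAlg Z σ d)) := fun κ => by
      by_cases hk : ∃ c : Fin d → σ →₀ ℕ, kap c = κ
      · unfold orb
        simp only [map_sum]
        rw [Finset.sum_eq_single (rep κ)]
        · show r (monomial (join (rep κ)) 1) = _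
          rw [show (monomial (join (rep (d := d) κ)) (1 : Z)) = basisMonomials (Fin d × σ) Z (join (rep κ)) by simp [coe_basisMonomials]]
          simp only [r, Module.Basis.constr_basis, split_join, kap_rep hk, if_pos]
          rfl
        · intro c hc hne
          rw [show (monomial (join c) (1 : Z)) = basisMonomials (Fin d × σ) Z (join c) by simp [coe_basisMonomials]]
          simp only [r, Module.Basis.constr_basis, split_join, (Finset.mem_filter.mp hc).2, if_neg (Ne.symm hne)]
        · intro h
          refine absurd (Finset.mem_filter.mpr ⟨Fintype.mem_piFinset.mpr fun l => ?_, kap_rep hk⟩) h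
          conv_lhs => rw [← kap_rep hk]
          exact (mem_support_kap _ _).mpr ⟨l, rfl⟩
      · have h0 : orb Z d κ = 0 := Finset.sum_eq_zero fun c hc => absurd ⟨c, (Finset.mem_filter.mp hc).2⟩ hk
        rw [show r (orb Z d κ) = 0 by rw [h0, map_zero]]
        exact Subtype.ext h0.symm
    conv_lhs => rw [(hz : IsSym z).eq_sum, map_sum]
    have h2 : (⟨z, hz⟩ : (symAlg Z σ d)) = ∑ κ ∈ z.support.image (fun e => kap (split e)),
        z.coeff (join (rep κ)) • (⟨_, isSym_orb Z κ⟩ : (symAlg Z σ d)) := by
      apply Subtype.ext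
      rw [AddSubmonoidClass.coe_finsetSum]
      exact (hz : IsSym z).eq_sum.trans (Finset.sum_congr rfl fun κ _ => (smul_eq_C_mul _ _).symm)
    conv_rhs => rw [h2]
    refine Finset.sum_congr rfl fun κ _ => ?_
    rw [← smul_eq_C_mul, map_smul, horb]
  have hinj : Function.Injective e := by
    have h1 : Function.Injective ((symAlg Z σ d).val.toLinearMap.lTensor A) :=
      Function.LeftInverse.injective (g := r.lTensor A) fun x => by
        rw [← LinearMap.lTensor_comp_apply, hr, LinearMap.lTensor_id, LinearMap.id_apply]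
    intro x y hxy
    have := (algebraTensorAlgEquiv Z A).injective hxy
    have hm : ∀ v : A ⊗[Z] symAlg Z σ d, (symAlg Z σ d).val.toLinearMap.lTensor A v =
        Algebra.TensorProduct.map (AlgHom.id A A) (symAlg Z σ d).val v := fun v => PolLaw.lTensor_algHom_apply _ A v
    exact h1 ((hm x).trans (this.trans (hm y).symm))
  have hsurj : Function.Surjective e' := by
    rintro ⟨z, hz⟩
    refine ⟨∑ κ ∈ z.support.image (fun e => kap (split e)), z.coeff (join (rep κ)) ⊗ₜ[Z] ⟨orb Z d κ, isSym_orb Z κ⟩,
      Subtype.ext ?_⟩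
    show e _ = z
    conv_rhs => rw [(hz : IsSym z).eq_sum]
    rw [map_sum]
    refine Finset.sum_congr rfl fun κ _ => ?_
    rw [he, smul_eq_C_mul]
    congr 1
    exact map_orb f κ
  exact Algebra.FinitePresentation.equiv (AlgEquiv.ofBijective e'
    ⟨fun x y h => hinj (congrArg Subtype.val h), hsurj⟩)

theorem finitePresentation_symAlg [Finite σ] : Algebra.FinitePresentation A (symAlg A σ d) := by
  letI : Algebra (ULift.{u} ℤ) A := ((Int.castRingHom A).comp ULift.ringEquiv.toRingHom).toAlgebra
  haveI : IsNoetherianRing (ULift.{u} ℤ) := isNoetherianRing_of_ringEquiv ℤ ULift.ringEquiv.symm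
  exact finitePresentation_symAlg_of (ULift.{u} ℤ) (fg_symAlg_int σ)

end freeLaw

section factor

variable {B B' C : Type u} [CommRing B] [Algebra A B] [CommRing B'] [Algebra A B'] [CommRing C] [Algebra A C]
  (π : B →ₐ[A] B') (hπ : Function.Surjective π) (G : PolLaw.MulLaw A B C d)
  (hG : ∀ b, π b = 0 → b ∈ PolLaw.ker G.law)

include hπ hG in
theorem exists_factor_law : ∃ G' : PolLaw.MulLaw A B' C d, G'.precomp π = G := by
  classical
  have hsurj : ∀ (S : Type u) [CommSemiring S] [Algebra A S], Function.Surjective (π.toLinearMap.lTensor S) :=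
    fun S _ _ => LinearMap.lTensor_surjective S hπ
  have hwd : ∀ (S : Type u) [CommSemiring S] [Algebra A S] (x y : S ⊗[A] B),
      π.toLinearMap.lTensor S x = π.toLinearMap.lTensor S y → G.law.toFun' S x = G.law.toFun' S y := by
    intro S _ _ x y h
    letI : CommRing S := { (inferInstance : CommSemiring S), Algebra.semiringToRing A (A := S) with }
    have hex : Function.Exact (LinearMap.ker π.toLinearMap).subtype π.toLinearMap := fun x =>
      ⟨fun hx => ⟨⟨x, hx⟩, rfl⟩, fun ⟨z, hz⟩ => by rw [← hz]; exact z.2⟩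
    obtain ⟨z, hz⟩ := ((lTensor_exact S hex hπ) (x - y)).mp (by rw [map_sub, h, sub_self])
    have key : ∀ (z : S ⊗[A] LinearMap.ker π.toLinearMap) (v : S ⊗[A] B),
        G.law.toFun' S (v + (LinearMap.ker π.toLinearMap).subtype.lTensor S z) = G.law.toFun' S v := by
      intro z
      induction z using TensorProduct.induction_on with
      | zero => simp
      | tmul s k =>
        intro v
        rw [LinearMap.lTensor_tmul, Submodule.subtype_apply,
          show s ⊗ₜ[A] k.1 = (s ⊗ₜ[A] (1 : B)) * ((1 : S) ⊗ₜ[A] k.1) by simp]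
        exact hG k.1 k.2 S v _
      | add a b ha hb => intro v; rw [map_add, ← add_assoc, hb, ha]
    rw [← key z y, hz, add_sub_cancel]
  choose lift hlift using fun (S : Type u) (_ : CommSemiring S) (_ : Algebra A S) (x : S ⊗[A] B') => hsurj S x
  let L : B' →ₚₗ[A] C :=
    { toFun' := fun S i j x => G.law.toFun' S (lift S i j x)
      isCompat' := fun {S} _ _ {S'} _ _ φ => funext fun x => by
        show φ.toLinearMap.rTensor C (G.law.toFun' S (lift S _ _ x)) = G.law.toFun' S' (lift S' _ _ (φ.toLinearMap.rTensor B' x))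
        rw [PolynomialLaw.isCompat_apply' (f := G.law) φ]
        refine hwd S' _ _ ?_
        rw [hlift, ← LinearMap.comp_apply, LinearMap.lTensor_comp_rTensor, ← LinearMap.rTensor_comp_lTensor,
          LinearMap.comp_apply, hlift] }
  refine ⟨⟨L, fun S _ _ s x => ?_, fun S _ _ => ⟨?_, fun x y => ?_⟩⟩, ?_⟩
  · show G.law.toFun' S (lift S _ _ (s • x)) = s ^ d • G.law.toFun' S (lift S _ _ x)
    rw [← G.homog S]
    refine hwd S _ _ ?_
    rw [hlift, PolLaw.lTensor_algHom_apply, map_smul, ← PolLaw.lTensor_algHom_apply, hlift]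
  · show G.law.toFun' S (lift S _ _ 1) = 1
    rw [← (G.mult S).1]
    refine hwd S _ _ ?_
    rw [hlift, PolLaw.lTensor_algHom_apply, map_one]
  · show G.law.toFun' S (lift S _ _ (x * y)) = G.law.toFun' S (lift S _ _ x) * G.law.toFun' S (lift S _ _ y)
    rw [← (G.mult S).2]
    refine hwd S _ _ ?_
    rw [hlift, PolLaw.lTensor_algHom_apply, map_mul, ← PolLaw.lTensor_algHom_apply, ← PolLaw.lTensor_algHom_apply,
      hlift, hlift]
  · refine PolLaw.MulLaw.ext ?_
    ext S i j x
    exact hwd S _ _ (hlift S i j _)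

end factor

theorem finitePresentation_of_isGammaD {B C : Type u} [CommRing B] [Algebra A B] [CommRing C] [Algebra A C]
    (γ : PolLaw.MulLaw A B C d) (hγ : PolLaw.IsGammaD γ) [Algebra.FinitePresentation A B] :
    Algebra.FinitePresentation A C := by
  classical
  obtain ⟨n, p0, hp0, hker0⟩ := ‹Algebra.FinitePresentation A B›
  let σ := ULift.{u} (Fin n)
  let π : MvPolynomial σ A →ₐ[A] B := p0.comp (renameEquiv A Equiv.ulift).toAlgHom
  have hπ : Function.Surjective π := hp0.comp (renameEquiv A Equiv.ulift).surjective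
  obtain ⟨s, hs⟩ : (RingHom.ker π.toRingHom).FG := by
    rw [show RingHom.ker π.toRingHom =
        (RingHom.ker p0.toRingHom).map (renameEquiv (R := A) (Equiv.ulift.{u} (α := Fin n))).symm.toRingEquiv.toRingHom from ?_]
    · exact hker0.map _
    · refine le_antisymm (fun x hx => ?_) (Ideal.map_le_iff_le_comap.mpr fun y hy => ?_)
      · exact (Ideal.mem_map_iff_of_surjective _
          (renameEquiv (R := A) (Equiv.ulift.{u} (α := Fin n))).symm.surjective).mpr ⟨_, hx, AlgEquiv.symm_apply_apply _ x⟩
      · show p0 (renameEquiv A Equiv.ulift ((renameEquiv A (Equiv.ulift.{u} (α := Fin n))).symm y)) = 0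
        rw [AlgEquiv.apply_symm_apply]
        exact hy
  let τ := σ ⊕ {x // x ∈ s}
  let g1 : MvPolynomial τ A →ₐ[A] MvPolynomial σ A := aeval (Sum.elim X fun x : {x // x ∈ s} => x.1)
  let g0 : MvPolynomial τ A →ₐ[A] MvPolynomial σ A := aeval (Sum.elim X fun _ => 0)
  have hs0 : ∀ x : {x // x ∈ s}, π x.1 = 0 := fun x => by
    have : x.1 ∈ RingHom.ker π.toRingHom := hs ▸ Ideal.subset_span x.2
    exact this
  have hg : π.comp g1 = π.comp g0 := MvPolynomial.algHom_ext fun v => by
    rcases v with v | x
    · simp [g1, g0]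
    · simp [g1, g0, hs0 x]
  let a1 : symAlg A τ d →ₐ[A] symAlg A σ d := bwSym g1
  let a0 : symAlg A τ d →ₐ[A] symAlg A σ d := bwSym g0
  obtain ⟨E, hE⟩ := (Subalgebra.fg_top _).mpr (fg_symAlg (A := A) (d := d) τ)
  let I : Ideal (symAlg A σ d) := Ideal.span ↑(E.image fun z => a1 z - a0 z)
  have hI : ∀ z, a1 z - a0 z ∈ I := fun z => by
    have hz : z ∈ Algebra.adjoin A (E : Set (symAlg A τ d)) := hE ▸ trivial
    induction hz using Algebra.adjoin_induction with
    | mem x hx => exact Ideal.subset_span (Finset.mem_coe.mpr (Finset.mem_image_of_mem _ hx))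
    | algebraMap r => rw [AlgHom.commutes, AlgHom.commutes, sub_self]; exact I.zero_mem
    | add x y _ _ hx hy => rw [map_add, map_add, add_sub_add_comm]; exact I.add_mem hx hy
    | mul x y _ _ hx hy =>
      rw [map_mul, map_mul, show a1 x * a1 y - a0 x * a0 y = a1 x * (a1 y - a0 y) + (a1 x - a0 x) * a0 y by ring]
      exact I.add_mem (I.mul_mem_left _ hy) (I.mul_mem_right _ hx)
  have hIker : ∀ z ∈ I, Psi (γ.precomp π) z = 0 := by
    intro z hz
    refine (Ideal.span_le (I := RingHom.ker (Psi (γ.precomp π))).mpr ?_) hz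
    intro x hx
    obtain ⟨e, _, rfl⟩ := Finset.mem_image.mp hx
    rw [SetLike.mem_coe, RingHom.mem_ker, map_sub, sub_eq_zero]
    have key : ∀ g : MvPolynomial τ A →ₐ[A] MvPolynomial σ A,
        Psi (γ.precomp π) (bwSym g e) = Psi (γ.precomp (π.comp g)) e := fun g => by
      show TensorProduct.lid A C (Phi (γ.precomp π) A (bw A g e.1)) = _
      rw [bw_eq_bwm, lid_Phi_natural γ (π.comp g) π (fun m => g (monomial m 1)) (fun m => rfl) e.2]
      rfl
    rw [key, key, hg]
  let q : symAlg A σ d →ₐ[A] symAlg A σ d ⧸ I := Ideal.Quotient.mkₐ A I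
  let G := PolLaw.MulLaw.postcomp (C' := symAlg A σ d ⧸ I) q (lawSym A d σ)
  have hq : q.comp a1 = q.comp a0 := AlgHom.ext fun z => Ideal.Quotient.eq.mpr (hI z)
  have hG : ∀ b, π b = 0 → b ∈ PolLaw.ker G.law := by
    intro b hb
    have hb' : b ∈ RingHom.ker π.toRingHom := hb
    rw [← hs] at hb'
    refine (Ideal.span_le (I := PolLaw.ker G.law).mpr fun j hj => ?_) hb'
    intro S _ _ x w
    let y : S ⊗[A] MvPolynomial τ A :=
      Algebra.TensorProduct.map (AlgHom.id S S) (rename Sum.inl) x +
        Algebra.TensorProduct.map (AlgHom.id S S) (rename Sum.inl) w * ((1 : S) ⊗ₜ[A] X (Sum.inr ⟨j, hj⟩))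
    have hinl : ∀ g : MvPolynomial τ A →ₐ[A] MvPolynomial σ A, g.comp (rename Sum.inl) = AlgHom.id A _ →
        ∀ v : S ⊗[A] MvPolynomial σ A, Algebra.TensorProduct.map (AlgHom.id S S) g
          (Algebra.TensorProduct.map (AlgHom.id S S) (rename Sum.inl) v) = v := fun g hg v => by
      induction v using TensorProduct.induction_on with
      | zero => simp
      | tmul a c => simp only [Algebra.TensorProduct.map_tmul, AlgHom.coe_id, id_eq]; rw [← AlgHom.comp_apply, hg, AlgHom.id_apply]
      | add a c ha hc => simp only [map_add, ha, hc]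
    have h1 : g1.toLinearMap.lTensor S y = x + w * ((1 : S) ⊗ₜ[A] j) := by
      rw [PolLaw.lTensor_algHom_apply, map_add, map_mul, hinl g1 (by ext; simp [g1]), hinl g1 (by ext; simp [g1]),
        Algebra.TensorProduct.map_tmul]
      simp [g1]
    have h0 : g0.toLinearMap.lTensor S y = x := by
      rw [PolLaw.lTensor_algHom_apply, map_add, map_mul, hinl g0 (by ext; simp [g0]), hinl g0 (by ext; simp [g0]),
        Algebra.TensorProduct.map_tmul]
      simp [g0]
    have key : ∀ g : MvPolynomial τ A →ₐ[A] MvPolynomial σ A,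
        G.law.toFun' S (g.toLinearMap.lTensor S y) =
          (q.comp (bwSym g)).toLinearMap.lTensor S ((lawSym A d τ).law.toFun' S y) := fun g => by
      show q.toLinearMap.lTensor S (((lawSym A d σ).precomp g).law.toFun' S y) = _
      rw [← lawSym_natural, AlgHom.comp_toLinearMap, LinearMap.lTensor_comp_apply]
      rfl
    rw [← h1, key, show q.comp (bwSym g1) = q.comp (bwSym g0) from hq, ← key, h0]
  obtain ⟨G', hG'⟩ := exists_factor_law π hπ G hG
  obtain ⟨f, hf, -⟩ := hγ _ G'
  let g : symAlg A σ d ⧸ I →ₐ[A] C := Ideal.Quotient.liftₐ I (Psi (γ.precomp π)) hIker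
  have hgs : Function.Surjective g := fun c => by
    obtain ⟨z, rfl⟩ := Psi_surjective hγ hπ c
    exact ⟨Ideal.Quotient.mk I z, rfl⟩
  have hfg : ∀ x, f (g x) = x := fun x => by
    obtain ⟨z, rfl⟩ := Ideal.Quotient.mk_surjective x
    show f (TensorProduct.lid A C (Phi (γ.precomp π) A z.1)) = q z
    refine ((lid_Phi_postcomp (C' := symAlg A σ d ⧸ I) _ f z.2).symm.trans ?_)
    rw [
      show (PolLaw.MulLaw.postcomp f (γ.precomp π) : PolLaw.MulLaw A (MvPolynomial σ A) (symAlg A σ d ⧸ I) d) = G from by
        rw [← hG']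
        refine PolLaw.MulLaw.ext ?_
        ext S _ _ y
        exact congrFun (congrArg (fun H => PolynomialLaw.toFun' H S) hf) _,
      lid_Phi_postcomp (C' := symAlg A σ d ⧸ I) _ q z.2]
    exact congrArg q (Psi_lawSym z)
  haveI : Algebra.FinitePresentation A (symAlg A σ d) := finitePresentation_symAlg
  haveI : Algebra.FinitePresentation A (symAlg A σ d ⧸ I) :=
    Algebra.FinitePresentation.quotient ⟨E.image fun z => a1 z - a0 z, rfl⟩
  exact Algebra.FinitePresentation.equiv
    (AlgEquiv.ofBijective g ⟨fun x y hxy => ((hfg x).symm.trans (congrArg f hxy)).trans (hfg y), hgs⟩)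

end Groth.Agent.PolLawLib
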