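import Mathlib
import Groth.Agent.PolLawLib.Kernel
import Groth.Agent.PolLawLib.BaseChange

/-!
# The geometric points of a multiplicative law
-/

set_option autoImplicit false

universe u

open scoped TensorProduct
open MvPolynomial

namespace Groth.Agent.PolLawLib

variable {A : Type u} [CommRing A] {B : Type u} [CommRing B] [Algebra A B] {d : ℕ} (G : PolLaw.MulLaw A B A d)

theorem isSym_map {S S' : Type u} [CommRing S] [CommRing S'] (f : S →+* S') {σ : Type u}
    {z : MvPolynomial (Fin d × σ) S} (hz : IsSym z) : IsSym (MvPolynomial.map f z) := fun π => by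
  conv_rhs => rw [← hz π, map_rename]

theorem psi_blockProd {S : Type u} [CommRing S] [Algebra A S] (y : MvPolynomial B S) :
    G.law.toFun' S (prB (A := A) B S y) = psi G S ⟨blockProd d y, isSym_blockProd y⟩ ⊗ₜ[A] (1 : A) := by
  rw [toFun_prB, ← phiHom_eq]
  rfl

section field

variable (K : Type u) [Field K] [IsAlgClosed K] [Algebra A K]

theorem exists_extension : ∃ g : MvPolynomial (Fin d × B) K →ₐ[K] K, ∀ z : symAlg K B d, g z.1 = psi G K z := by
  classical
  let Q := MvPolynomial (Fin d × B) K
  let Sy := symAlg K B d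
  have hsurj : Function.Surjective (psi G K) := fun s => ⟨algebraMap K Sy s, by rw [AlgHom.commutes]; rfl⟩
  set 𝔭 := RingHom.ker (psi G K).toRingHom with h𝔭
  haveI : 𝔭.IsMaximal := RingHom.ker_isMaximal_of_surjective _ hsurj
  haveI : Algebra.IsIntegral Sy Q := by
    refine ⟨fun z => ?_⟩
    induction z using MvPolynomial.induction_on with
    | C a => exact isIntegral_algebraMap (x := algebraMap K Sy a)
    | add p q hp hq => exact hp.add hq
    | mul_X p v hp =>
      refine hp.mul ?_
      obtain ⟨l, b⟩ := v
      let q : Polynomial Sy := ∑ k ∈ Finset.range (d + 1),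
        Polynomial.monomial k ⟨(cpoly d (X b : MvPolynomial B K)).coeff k, isSym_coeff_cpoly _ k⟩
      have hq : q.map (algebraMap Sy Q) = cpoly d (X b : MvPolynomial B K) := by
        conv_rhs => rw [(cpoly d (X b : MvPolynomial B K)).as_sum_range' (d + 1) (Nat.lt_succ_iff.mpr (natDegree_cpoly_le _))]
        simp only [q, Polynomial.map_sum, Polynomial.map_monomial]
        rfl
      refine ⟨(-1 : Sy) ^ d • q, ?_, ?_⟩
      · refine Polynomial.monic_of_natDegree_le_of_coeff_eq_one d
          ((Polynomial.natDegree_smul_le _ _).trans (Polynomial.natDegree_sum_le_of_forall_le _ _ fun k hk =>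
            (Polynomial.natDegree_monomial_le _).trans (by simp at hk; omega))) ?_
        rw [Polynomial.coeff_smul, Polynomial.finsetSum_coeff, Finset.sum_eq_single d]
        · refine Subtype.ext ?_
          rw [Polynomial.coeff_monomial, if_pos rfl]
          show ((-1 : Sy) ^ d : Sy).1 * (cpoly d (X b : MvPolynomial B K)).coeff d = 1
          rw [coeff_cpoly_top]
          simp [← mul_pow]
        · intro k _ hk; rw [Polynomial.coeff_monomial, if_neg hk]
        · simp
      · rw [Polynomial.eval₂_smul, ← Polynomial.eval_map, hq,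
          show (X (l, b) : Q) = rename (Prod.mk l) (X b : MvPolynomial B K) by simp, cpoly_eval_self, mul_zero]
  obtain ⟨𝔓, h𝔓, hcomap⟩ := Ideal.exists_ideal_over_maximal_of_isIntegral (S := Q) 𝔭 (by
    rw [(RingHom.injective_iff_ker_eq_bot _).mp (show Function.Injective (algebraMap Sy Q) from Subtype.val_injective)]
    exact bot_le)
  haveI := h𝔓
  letI : Field (Q ⧸ 𝔓) := Ideal.Quotient.field 𝔓
  have hSy : ∀ z : Sy, Ideal.Quotient.mk 𝔓 z.1 = algebraMap K (Q ⧸ 𝔓) (psi G K z) := fun z => by
    rw [IsScalarTower.algebraMap_apply K Q (Q ⧸ 𝔓), Ideal.Quotient.algebraMap_eq, Ideal.Quotient.mk_eq_mk_iff_sub_mem]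
    have : z - algebraMap K Sy (psi G K z) ∈ 𝔭 := by
      show psi G K (z - algebraMap K Sy (psi G K z)) = 0
      rw [map_sub, AlgHom.commutes]
      exact sub_self _
    rw [← hcomap] at this
    exact this
  haveI : Algebra.IsIntegral K (Q ⧸ 𝔓) := ⟨fun w => by
    obtain ⟨w, rfl⟩ := Ideal.Quotient.mk_surjective w
    obtain ⟨q, hq, hq0⟩ := Algebra.IsIntegral.isIntegral (R := Sy) w
    refine ⟨q.map (psi G K).toRingHom, hq.map _, ?_⟩
    rw [Polynomial.eval₂_map, show (algebraMap K (Q ⧸ 𝔓)).comp (psi G K).toRingHom =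
      (Ideal.Quotient.mk 𝔓).comp (algebraMap Sy Q) from RingHom.ext fun z => (hSy z).symm, ← Polynomial.hom_eval₂, hq0, map_zero]⟩
  let e : K ≃ₐ[K] (Q ⧸ 𝔓) := AlgEquiv.ofBijective (Algebra.ofId K _)
    (IsAlgClosed.algebraMap_bijective_of_isIntegral (k := K) (K := Q ⧸ 𝔓))
  refine ⟨e.symm.toAlgHom.comp (Ideal.Quotient.mkₐ K 𝔓), fun z => ?_⟩
  show e.symm (Ideal.Quotient.mk 𝔓 z.1) = _
  rw [hSy]
  exact e.symm_apply_apply _

variable {K} in
/-- The extension of a point to an algebra over its field. -/
noncomputable def extPt (ψ : B →ₐ[A] K) (R : Type u) [CommRing R] [Algebra A R] [Algebra K R] [IsScalarTower A K R] :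
    R ⊗[A] B →ₐ[R] R :=
  Algebra.TensorProduct.lift (Algebra.ofId R R) ((IsScalarTower.toAlgHom A K R).comp ψ) fun _ _ => Commute.all _ _

variable {K} in
theorem extPt_tmul (ψ : B →ₐ[A] K) (R : Type u) [CommRing R] [Algebra A R] [Algebra K R] [IsScalarTower A K R]
    (r : R) (b : B) : extPt ψ R (r ⊗ₜ[A] b) = r * algebraMap K R (ψ b) := by
  simp [extPt]

/-- The points of `G` over an algebraically closed field. -/
structure Points where
  /-- the points -/
  pt : Fin d → (B →ₐ[A] K)
  formula : ∀ (R : Type u) [CommRing R] [Algebra A R] [Algebra K R] [IsScalarTower A K R] (x : R ⊗[A] B),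
    G.law.toFun' R x = (∏ l, extPt (pt l) R x) ⊗ₜ[A] (1 : A)
  chi_eq : ∀ (R : Type u) [CommRing R] [Algebra A R] [Algebra K R] [IsScalarTower A K R] (p : MvPolynomial B R),
    chi G p = ∏ l, (Polynomial.C (extPt (pt l) R (prB (A := A) B R p)) - Polynomial.X)

theorem exists_points : Nonempty (Points G K) := by
  classical
  obtain ⟨g, hg⟩ := exists_extension G K
  have hR : ∀ (R : Type u) [CommRing R] [Algebra A R] [Algebra K R] [IsScalarTower A K R] (z : symAlg R B d),
      psi G R z = aeval (fun v => algebraMap K R (g (X v))) z.1 := by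
    intro R _ _ _ _ z
    have horb : ∀ κ : (B →₀ ℕ) →₀ ℕ, IsSym (orb (σ := B) R d κ) := fun κ π => by
      have hκ : orb (σ := B) R d κ = MvPolynomial.map (algebraMap A R) (orb A d κ) := (map_orb _ κ).symm
      rw [hκ]
      refine isSym_map _ (fun π => ?_) π
      ext e
      have hinj : Function.Injective fun p : Fin d × B => (π p.1, p.2) := fun p q h => by
        simp only [Prod.mk.injEq] at h; exact Prod.ext (π.injective h.1) h.2
      obtain ⟨e', rfl⟩ := Finsupp.mapDomain_surjective (M := ℕ) (f := fun p : Fin d × B => (π p.1, p.2))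
        (fun q => ⟨(π.symm q.1, q.2), by simp⟩) e
      rw [coeff_rename_mapDomain _ hinj, coeff_orb, coeff_orb]
      congr 1
      have : split (e'.mapDomain fun p : Fin d × B => (π p.1, p.2)) = split e' ∘ π.symm := by
        funext l; ext s
        obtain ⟨k, rfl⟩ := π.surjective l
        rw [Function.comp_apply, π.symm_apply_apply, split_apply, split_apply]
        exact Finsupp.mapDomain_apply hinj e' (k, s)
      rw [this]
      refine propext (Eq.congr_left ?_)
      rw [kap, kap]
      exact (Fintype.sum_equiv π.symm _ _ fun l => rfl).symm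
    have key : ∀ κ : (B →₀ ℕ) →₀ ℕ, psi G R ⟨orb R d κ, horb κ⟩ = aeval (fun v => algebraMap K R (g (X v))) (orb R d κ) := by
      intro κ
      have hK : IsSym (orb (σ := B) K d κ) := by
        intro π
        have h0 := horb κ π
        have hz : MvPolynomial.map (algebraMap K R) (orb (σ := B) K d κ) = orb R d κ := map_orb _ κ
        rw [← hz] at h0
        rw [← map_rename] at h0
        by_cases hR : Nontrivial R
        · exact MvPolynomial.map_injective _ (algebraMap K R).injective h0
        · haveI := not_nontrivial_iff_subsingleton.mp hR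
          -- use the generic ring
          ext e
          have hinj : Function.Injective fun p : Fin d × B => (π p.1, p.2) := fun p q h => by
            simp only [Prod.mk.injEq] at h; exact Prod.ext (π.injective h.1) h.2
          obtain ⟨e', rfl⟩ := Finsupp.mapDomain_surjective (M := ℕ) (f := fun p : Fin d × B => (π p.1, p.2))
            (fun q => ⟨(π.symm q.1, q.2), by simp⟩) e
          rw [coeff_rename_mapDomain _ hinj, coeff_orb, coeff_orb]
          congr 1
          have : split (e'.mapDomain fun p : Fin d × B => (π p.1, p.2)) = split e' ∘ π.symm := by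
            funext l; ext s
            obtain ⟨k, rfl⟩ := π.surjective l
            rw [Function.comp_apply, π.symm_apply_apply, split_apply, split_apply]
            exact Finsupp.mapDomain_apply hinj e' (k, s)
          rw [this]
          refine propext (Eq.congr_left ?_)
          rw [kap, kap]
          exact (Fintype.sum_equiv π.symm _ _ fun l => rfl).symm
      have h1 := psi_map G (IsScalarTower.toAlgHom A K R) ⟨orb K d κ, hK⟩ (isSym_map _ hK)
      have h2 : (⟨_, isSym_map (IsScalarTower.toAlgHom A K R).toRingHom hK⟩ : symAlg R B d) = ⟨orb R d κ, horb κ⟩ :=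
        Subtype.ext (map_orb _ κ)
      rw [h2] at h1
      rw [← h1, ← hg]
      show algebraMap K R (g (orb K d κ)) = _
      rw [← map_orb (algebraMap K R) κ, aeval_map_algebraMap, show g (orb K d κ) = aeval (fun v => g (X v)) (orb K d κ) from
        DFunLike.congr_fun (aeval_unique g) _]
      rw [← aeval_algebraMap_apply]
      rfl
    have hz : z = ∑ κ ∈ z.1.support.image (fun e => kap (split e)),
        algebraMap R _ (z.1.coeff (join (rep κ))) * ⟨orb R d κ, horb κ⟩ := by
      refine Subtype.ext ?_
      conv_lhs => rw [(show IsSym z.1 from z.2).eq_sum]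
      rw [AddSubmonoidClass.coe_finsetSum]
      rfl
    conv_lhs => rw [hz]
    conv_rhs => rw [(show IsSym z.1 from z.2).eq_sum]
    rw [map_sum, map_sum]
    refine Finset.sum_congr rfl fun κ _ => ?_
    rw [map_mul, map_mul, AlgHom.commutes, key, algHom_C]
  let ρ : Fin d → MvPolynomial B A →ₐ[A] K := fun l =>
    ((g.restrictScalars A).comp ((rename (Prod.mk l)).restrictScalars A)).comp
      (MvPolynomial.mapAlgHom (Algebra.ofId A K))
  have hρ : ∀ (l : Fin d) (p : MvPolynomial B A), aeval (id : B → B) p = 0 → ρ l p = 0 := by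
    intro l p hp
    by_contra hne
    set a : K := ρ l p with ha
    let pK : MvPolynomial B K := MvPolynomial.map (algebraMap A K) p
    let y : MvPolynomial B K := 1 + C (-a⁻¹) * pK
    have hpr : prB (A := A) B K y = 1 := by
      have h0 : prB (A := A) B K pK = 0 := by
        rw [prB, aeval_map_algebraMap, show (fun b : B => (1 : K) ⊗ₜ[A] b) = fun b => (1 : K) ⊗ₜ[A] (id b) from rfl,
          aeval_one_tmul, hp, TensorProduct.tmul_zero]
      simp [y, h0]
    have h1 := (psi_blockProd G y).symm.trans ((congrArg (G.law.toFun' K) hpr).trans (G.mult K).1)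
    rw [hR K ⟨blockProd d y, isSym_blockProd y⟩, Algebra.TensorProduct.one_def] at h1
    have h2 := congrArg (Algebra.TensorProduct.rid A K K) h1
    simp only [Algebra.TensorProduct.rid_tmul, one_smul, blockProd, map_prod] at h2
    rw [Finset.prod_eq_zero (Finset.mem_univ l)] at h2
    · exact zero_ne_one h2
    · have h3 : aeval (fun v => algebraMap K K (g (X v))) (rename (Prod.mk l) pK) = a := by
        rw [show (fun v => algebraMap K K (g (X v))) = fun v => g (X v) from rfl,
          show (aeval fun v => g (X v)) = g from (aeval_unique g).symm, ha]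
        rfl
      rw [map_add, map_mul, map_add, map_mul, map_one, rename_C, aeval_C, h3, map_one]
      show (1 : K) + -a⁻¹ * a = 0
      rw [neg_mul, inv_mul_cancel₀ hne, add_neg_cancel]
  let pt : Fin d → (B →ₐ[A] K) := fun l =>
    { toFun := fun b => ρ l (X b)
      map_one' := by
        rw [← map_one (ρ l), ← sub_eq_zero, ← map_sub]; exact hρ l _ (by simp)
      map_mul' := fun b c => by
        rw [← map_mul, ← sub_eq_zero, ← map_sub]; exact hρ l _ (by simp)
      map_zero' := hρ l _ (by simp)
      map_add' := fun b c => by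
        rw [← map_add, ← sub_eq_zero, ← map_sub]; exact hρ l _ (by simp)
      commutes' := fun r => by
        rw [← (ρ l).commutes r, ← sub_eq_zero, ← map_sub]; exact hρ l _ (by simp) }
  have hext : ∀ (R : Type u) [CommRing R] [Algebra A R] [Algebra K R] [IsScalarTower A K R] (l : Fin d) (y : MvPolynomial B R),
      aeval (fun v => algebraMap K R (g (X v))) (rename (Prod.mk l) y) = extPt (pt l) R (prB (A := A) B R y) := by
    intro R _ _ _ _ l y
    rw [aeval_rename, prB, ← AlgHom.comp_apply, comp_aeval]
    refine DFunLike.congr_fun (algHom_ext fun b => ?_) y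
    simp only [aeval_X, Function.comp_apply, extPt_tmul, one_mul]
    show algebraMap K R (g (X (l, b))) = algebraMap K R (ρ l (X b))
    simp [ρ]
  refine ⟨⟨pt, fun R _ _ _ _ x => ?_, fun R _ _ _ _ p => ?_⟩⟩
  · obtain ⟨y, rfl⟩ := prB_surjective (A := A) (B := B) R x
    rw [psi_blockProd, hR]
    show aeval _ (blockProd d y) ⊗ₜ[A] (1 : A) = _
    simp only [blockProd, map_prod, hext]
  · ext k
    rw [coeff_chi, hR]
    show aeval _ ((cpoly d p).coeff k) = _
    have : (cpoly d p).map (aeval fun v => algebraMap K R (g (X v))).toRingHom =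
        ∏ l, (Polynomial.C (extPt (pt l) R (prB (A := A) B R p)) - Polynomial.X) := by
      rw [cpoly, Polynomial.map_prod]
      exact Finset.prod_congr rfl fun l _ => by
        rw [Polynomial.map_sub, Polynomial.map_C, Polynomial.map_X, ← hext]; rfl
    rw [← this, Polynomial.coeff_map]
    rfl

variable {G K}

theorem Points.map_eq_zero_of_mem_ker (P : Points G K) (l : Fin d) {b : B} (hb : b ∈ PolLaw.ker G.law) :
    P.pt l b = 0 := by
  by_contra hne
  have h := hb K 1 ((-(P.pt l b)⁻¹ : K) ⊗ₜ[A] (1 : B))
  rw [(G.mult K).1, P.formula K, Algebra.TensorProduct.tmul_mul_tmul, mul_one, one_mul] at h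
  have h2 := congrArg (Algebra.TensorProduct.rid A K K) h
  simp only [Algebra.TensorProduct.rid_tmul, one_smul, map_one] at h2
  rw [Finset.prod_eq_zero (Finset.mem_univ l)] at h2
  · exact zero_ne_one h2
  · rw [map_add, map_one, extPt_tmul, Algebra.algebraMap_self, RingHom.id_apply, neg_mul, inv_mul_cancel₀ hne, add_neg_cancel]

theorem Points.chi_pt (P : Points G K) (b : B) :
    (chi G (S := A) (X b)).map (algebraMap A K) = ∏ l, (Polynomial.C (P.pt l b) - Polynomial.X) := by
  rw [show algebraMap A K = (Algebra.ofId A K).toRingHom from rfl, map_chi, map_X, P.chi_eq K]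
  simp [prB, extPt]

/-- Finitely many elements cut out the points. -/
theorem Points.exists_eq_on (P : Points G K) {n : ℕ} (b : Fin n → B) (ψ : B →ₐ[A] K)
    (h : ∀ c : Polynomial A ⊗[A] B,
      Polynomial.aeval (prB (A := A) B (Polynomial A)
        (∑ i : Fin n, MvPolynomial.C ((Polynomial.X : Polynomial A) ^ (i : ℕ)) * X (b i)))
        (chi G (∑ i : Fin n, MvPolynomial.C ((Polynomial.X : Polynomial A) ^ (i : ℕ)) * (X (b i) : MvPolynomial B (Polynomial A)))) = c →
      Algebra.TensorProduct.map (Polynomial.mapAlgHom (Algebra.ofId A K)) ψ c =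
        (0 : Polynomial K ⊗[A] K)) :
    ∃ l, ∀ i, P.pt l (b i) = ψ (b i) := by
  classical
  set p : MvPolynomial B (Polynomial A) :=
    ∑ i : Fin n, MvPolynomial.C ((Polynomial.X : Polynomial A) ^ (i : ℕ)) * X (b i)
  let j : Polynomial A →ₐ[A] Polynomial K := Polynomial.mapAlgHom (Algebra.ofId A K)
  let e0 : Polynomial A ⊗[A] B →ₐ[A] Polynomial K :=
    Algebra.TensorProduct.productMap j ((IsScalarTower.toAlgHom A K (Polynomial K)).comp ψ)
  have he0 : e0 (Polynomial.aeval (prB (A := A) B (Polynomial A) p) (chi G p)) = 0 := by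
    have := congrArg ((Algebra.TensorProduct.productMap (AlgHom.id A (Polynomial K)) (IsScalarTower.toAlgHom A K (Polynomial K))))
      (h _ rfl)
    rw [map_zero] at this
    rw [show e0 = (Algebra.TensorProduct.productMap (AlgHom.id A (Polynomial K)) (IsScalarTower.toAlgHom A K (Polynomial K))).comp
      (Algebra.TensorProduct.map j ψ) from Algebra.TensorProduct.ext' fun a c => by simp [e0]]
    exact this
  have hz : ∀ (ψ' : B →ₐ[A] K), extPt ψ' (Polynomial K) (prB (A := A) B (Polynomial K) (MvPolynomial.map j.toRingHom p)) =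
      ∑ i : Fin n, Polynomial.C (ψ' (b i)) * Polynomial.X ^ (i : ℕ) := fun ψ' => by
    simp [p, prB, extPt, j, Polynomial.X_pow_mul]
  have he0z : e0 (prB (A := A) B (Polynomial A) p) = ∑ i : Fin n, Polynomial.C (ψ (b i)) * Polynomial.X ^ (i : ℕ) := by
    simp [p, prB, e0, j, Polynomial.X_pow_mul]
  rw [Polynomial.aeval_def, show e0 (Polynomial.eval₂ _ _ _) = e0.toRingHom (Polynomial.eval₂ _ _ _) from rfl,
    Polynomial.hom_eval₂, show e0.toRingHom (prB (A := A) B (Polynomial A) p) = _ from he0z,
    show e0.toRingHom.comp (algebraMap (Polynomial A) (Polynomial A ⊗[A] B)) = j.toRingHom from RingHom.ext fun q => by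
      simp [e0],
    ← Polynomial.eval_map, map_chi, P.chi_eq (Polynomial K), Polynomial.eval_prod, Finset.prod_eq_zero_iff] at he0
  obtain ⟨l, -, hl⟩ := he0
  refine ⟨l, fun i => ?_⟩
  rw [Polynomial.eval_sub, Polynomial.eval_C, Polynomial.eval_X, hz, sub_eq_zero] at hl
  have := congrArg (fun q => Polynomial.coeff q (i : ℕ)) hl
  simpa [Polynomial.coeff_C_mul_X_pow, Fin.val_inj] using this

theorem Points.exists_eq (P : Points G K) (ψ : B →ₐ[A] K) (hψ : ∀ b ∈ PolLaw.ker G.law, ψ b = 0) :
    ∃ l, P.pt l = ψ := by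
  classical
  by_contra hne
  push Not at hne
  have hex : ∀ l, ∃ b, P.pt l b ≠ ψ b := fun l => by
    by_contra h
    push Not at h
    exact hne l (AlgHom.ext h)
  choose b hb using hex
  obtain ⟨l, hl⟩ := P.exists_eq_on b ψ fun c hc => by
    have hmem : c ∈ (PolLaw.ker G.law).map (Algebra.TensorProduct.includeRight : B →ₐ[A] Polynomial A ⊗[A] B) := by
      rw [map_ker_eq_kerBC_polynomial, ← hc]
      exact aeval_chi_mem_kerBC G _
    rw [← RingHom.mem_ker]
    refine (Ideal.map_le_iff_le_comap.mpr fun x hx => ?_) hmem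
    show Algebra.TensorProduct.map _ ψ ((1 : Polynomial A) ⊗ₜ[A] x) = 0
    rw [Algebra.TensorProduct.map_tmul, hψ x hx, TensorProduct.tmul_zero]
  exact hb l (hl l)

end field

end Groth.Agent.PolLawLib
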