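import Mathlib
import Groth.Agent.PolLawLib.Reduced
import Groth.Agent.PolLawLib.GammaGen

/-!
# `Γ^d` of an integral algebra is integral
-/

set_option autoImplicit false

universe u

open scoped TensorProduct
open MvPolynomial

namespace Groth.Agent.PolLawLib

variable {A : Type u} [CommRing A] {B : Type u} [CommRing B] [Algebra A B] {C : Type u} [CommRing C] [Algebra A C]
  {d : ℕ} {σ : Type u}

theorem aeval_join {K : Type u} [CommRing K] [Algebra A K] (f : Fin d × σ → K) (c : Fin d → σ →₀ ℕ) :
    aeval f (monomial (join c) (1 : A)) = ∏ l, aeval (fun s => f (l, s)) (monomial (c l) (1 : A)) := by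
  classical
  have : monomial (join c) (1 : A) = ∏ l, rename (Prod.mk l) (monomial (c l) (1 : A)) := by
    simp only [rename_monomial]
    exact monomial_sum_one _ _
  rw [this, map_prod]
  exact Finset.prod_congr rfl fun l _ => aeval_rename _ _ _

theorem exists_eval_Psi (γ : PolLaw.MulLaw A B C d) (π : MvPolynomial σ A →ₐ[A] B) {K : Type u} [Field K]
    [IsAlgClosed K] [Algebra A K] (χ : C →ₐ[A] K) :
    ∃ p : Fin d → (B →ₐ[A] K), ∀ z : symAlg A σ d,
      χ (Psi (γ.precomp π) z) = aeval (fun v => p v.1 (π (X v.2))) z.1 := by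
  classical
  obtain ⟨P⟩ := exists_points (lawK γ χ) K
  let p : Fin d → (B →ₐ[A] K) := fun l => ((P.pt l).restrictScalars A).comp Algebra.TensorProduct.includeRight
  refine ⟨p, fun z => ?_⟩
  obtain ⟨z, hz⟩ := z
  have h2 : (⟨z, hz⟩ : symAlg A σ d) = ∑ κ ∈ z.support.image (fun e => kap (split e)),
      z.coeff (join (rep κ)) • (⟨_, isSym_orb A κ⟩ : symAlg A σ d) := by
    apply Subtype.ext
    rw [AddSubmonoidClass.coe_finsetSum]
    exact hz.eq_sum.trans (Finset.sum_congr rfl fun κ _ => (smul_eq_C_mul _ _).symm)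
  rw [h2, map_sum, map_sum, AddSubmonoidClass.coe_finsetSum, map_sum]
  refine Finset.sum_congr rfl fun κ _ => ?_
  rw [map_smul, map_smul, SetLike.val_smul, map_smul]
  congr 1
  let M := σ →₀ ℕ
  let R := MvPolynomial M A
  let R' := MvPolynomial M K
  let h : R →ₐ[A] R' := MvPolynomial.mapAlgHom (Algebra.ofId A K)
  have hcoef : ∀ w : R ⊗[A] C, χ (coefA κ w) = (evC χ R' (h.toLinearMap.rTensor C w)).coeff κ := fun w => by
    induction w using TensorProduct.induction_on with
    | zero => simp
    | tmul q c =>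
      rw [coefA_tmul, LinearMap.rTensor_tmul, evC_tmul, map_smul, Algebra.smul_def,
        MvPolynomial.algebraMap_eq, mul_comm _ (MvPolynomial.C (χ c)), coeff_C_mul, mul_comm]
      congr 1
    | add a b ha hb => simp only [map_add, ha, hb]; exact (coeff_add _ _ _).symm
  rw [Psi_orb, hcoef, lawP_precomp, PolynomialLaw.isCompat_apply' (f := γ.law) h]
  have hx : h.toLinearMap.rTensor B (π.toLinearMap.lTensor R ((algebraTensorAlgEquiv A R).symm (gen κ.support))) =
      ∑ m ∈ κ.support, (X m : R') ⊗ₜ[A] π (monomial m 1) := by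
    simp only [gen, map_sum, algebraTensorAlgEquiv_symm_monomial, LinearMap.lTensor_tmul, LinearMap.rTensor_tmul]
    refine Finset.sum_congr rfl fun m _ => ?_
    congr 1
    simp [h, R, R', M]
  rw [hx]
  obtain ⟨x', hx'⟩ := (canB (A := A) (B := B) (K := K) R').surjective (∑ m ∈ κ.support, (X m : R') ⊗ₜ[A] π (monomial m 1))
  rw [← hx']
  have hform := P.formula R' x'
  rw [lawK_apply] at hform
  have hv : valK γ χ R' x' = ∏ l, extPt (P.pt l) R' x' :=
    (TensorProduct.rid K R').symm.injective (by simpa using hform)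
  show (valK γ χ R' x').coeff κ = _
  rw [hv]
  have hl : ∀ l, extPt (P.pt l) R' x' = ∑ m ∈ κ.support, (X m : R') * MvPolynomial.C (p l (π (monomial m 1))) := fun l => by
    rw [show x' = (canB (A := A) (B := B) (K := K) R').symm (∑ m ∈ κ.support, (X m : R') ⊗ₜ[A] π (monomial m 1)) by
      rw [← hx', AlgEquiv.symm_apply_apply], map_sum, map_sum]
    refine Finset.sum_congr rfl fun m _ => ?_
    rw [show (canB (A := A) (B := B) (K := K) R').symm ((X m : R') ⊗ₜ[A] π (monomial m 1)) =
      (X m : R') ⊗ₜ[K] ((1 : K) ⊗ₜ[A] π (monomial m 1)) from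
        Algebra.TensorProduct.cancelBaseChange_symm_tmul A K R' R' B _ _, extPt_tmul, MvPolynomial.algebraMap_eq]
    rfl
  simp only [hl]
  rw [Finset.prod_univ_sum, coeff_sum, orb, map_sum, Finset.sum_filter]
  refine Finset.sum_congr rfl fun c _ => ?_
  have hprod : (∏ l, (X (c l) : R')) = monomial (kap c) 1 := by
    rw [kap, monomial_sum_one]; rfl
  rw [Finset.prod_mul_distrib, hprod, ← map_prod, mul_comm, coeff_C_mul, coeff_monomial, mul_ite, mul_one, mul_zero,
    aeval_join]
  split_ifs with hk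
  · refine Finset.prod_congr rfl fun l _ => ?_
    exact DFunLike.congr_fun (MvPolynomial.aeval_unique ((p l).comp π)) _
  · rfl

theorem isIntegral_of_isGammaD (γ : PolLaw.MulLaw A B C d) (hγ : PolLaw.IsGammaD γ) [Algebra.IsIntegral A B] :
    Algebra.IsIntegral A C := by
  classical
  let π : MvPolynomial B A →ₐ[A] B := aeval id
  refine ⟨fun c => ?_⟩
  obtain ⟨z, rfl⟩ := Psi_surjective hγ (π := π) (fun b => ⟨X b, aeval_X _ _⟩) c
  let P := MvPolynomial (Fin d × B) A
  choose g hg hg0 using fun b : B => Algebra.IsIntegral.isIntegral (R := A) b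
  let J : Ideal P := Ideal.span (Set.range fun v : Fin d × B => Polynomial.aeval (X v : P) (g v.2))
  have hX : ∀ v : Fin d × B, IsIntegral A (Ideal.Quotient.mk J (X v)) := fun v => by
    refine ⟨g v.2, hg v.2, ?_⟩
    rw [← Polynomial.aeval_def]
    show Polynomial.aeval (Ideal.Quotient.mkₐ A J (X v)) (g v.2) = 0
    rw [Polynomial.aeval_algHom_apply]
    exact Ideal.Quotient.eq_zero_iff_mem.mpr (Ideal.subset_span ⟨v, rfl⟩)
  haveI hPJ : Algebra.IsIntegral A (P ⧸ J) := ⟨fun y => by
    obtain ⟨y, rfl⟩ := Ideal.Quotient.mk_surjective y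
    induction y using MvPolynomial.induction_on with
    | C a => exact isIntegral_algebraMap (x := a)
    | add p q hp hq => rw [map_add]; exact hp.add hq
    | mul_X p v hp => rw [map_mul]; exact hp.mul (hX v)⟩
  obtain ⟨f, hf, hf0⟩ := hPJ.isIntegral (Ideal.Quotient.mk J z.1)
  have hmem : (Polynomial.aeval z.1 f : P) ∈ J := by
    rw [← Ideal.Quotient.eq_zero_iff_mem]
    show Ideal.Quotient.mkₐ A J _ = 0
    rw [← Polynomial.aeval_algHom_apply, Polynomial.aeval_def]
    exact hf0
  have hnil : IsNilpotent (Polynomial.aeval (Psi (γ.precomp π) z) f) := by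
    rw [Polynomial.aeval_algHom_apply]
    refine nilpotent_iff_mem_prime.mpr fun Q hQ => ?_
    haveI := hQ
    let K := AlgebraicClosure Q.ResidueField
    let χ : C →ₐ[A] K := IsScalarTower.toAlgHom A C K
    obtain ⟨p, hp⟩ := exists_eval_Psi γ π χ
    have h0 : χ (Psi (γ.precomp π) (Polynomial.aeval z f)) = 0 := by
      rw [hp, show (Polynomial.aeval z f).1 = Polynomial.aeval z.1 f from (Polynomial.aeval_algHom_apply (symAlg A B d).val z f).symm]
      refine (Ideal.span_le (I := RingHom.ker (aeval (R := A) fun v : Fin d × B => p v.1 (π (X v.2)))).mpr ?_) hmem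
      rintro _ ⟨v, rfl⟩
      rw [SetLike.mem_coe, RingHom.mem_ker, ← Polynomial.aeval_algHom_apply, aeval_X, Polynomial.aeval_algHom_apply,
        show π (X v.2) = v.2 from aeval_X _ _, Polynomial.aeval_def, hg0, map_zero]
    have hc' : algebraMap Q.ResidueField K (algebraMap C Q.ResidueField (Psi (γ.precomp π) (Polynomial.aeval z f))) = 0 := by
      rw [← IsScalarTower.algebraMap_apply]; exact h0
    exact Ideal.algebraMap_residueField_eq_zero.mp
      ((map_eq_zero_iff _ (algebraMap Q.ResidueField K).injective).mp hc')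
  obtain ⟨n, hn⟩ := hnil
  exact ⟨f ^ n, hf.pow n, by rw [← Polynomial.aeval_def, map_pow, hn]⟩

end Groth.Agent.PolLawLib
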