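import Mathlib
import Groth.Agent.PolLawLib.Points

/-!
# The image of a multiplicative law: radical, primes, openness
-/

set_option autoImplicit false

universe u

open scoped TensorProduct

namespace Groth.Agent.PolLawLib

variable {A : Type u} [CommRing A] {B : Type u} [CommRing B] [Algebra A B] {d : ℕ} (G : PolLaw.MulLaw A B A d)

variable {K : Type u} [Field K] [IsAlgClosed K] [Algebra A K]

theorem Points.map_eq_zero_of_mem_kerBC (P : Points G K) (A' : Type u) [CommRing A'] [Algebra A A'] [Algebra A' K]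
    [IsScalarTower A A' K] (l : Fin d) {z : A' ⊗[A] B} (hz : z ∈ PolLaw.kerBC G.law A') :
    Algebra.TensorProduct.productMap (IsScalarTower.toAlgHom A A' K) (P.pt l) z = 0 := by
  set a := Algebra.TensorProduct.productMap (IsScalarTower.toAlgHom A A' K) (P.pt l) z with ha
  by_contra hne
  have h := hz K 1 ((-a⁻¹ : K) ⊗ₜ[A] (1 : B))
  rw [(G.mult K).1, P.formula K] at h
  have h2 := congrArg (Algebra.TensorProduct.rid A K K) h
  simp only [Algebra.TensorProduct.rid_tmul, one_smul, map_one] at h2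
  rw [Finset.prod_eq_zero (Finset.mem_univ l)] at h2
  · exact zero_ne_one h2
  · have h3 : ∀ w : A' ⊗[A] B, extPt (P.pt l) K (Algebra.TensorProduct.map (IsScalarTower.toAlgHom A A' K) (AlgHom.id A B) w) =
        Algebra.TensorProduct.productMap (IsScalarTower.toAlgHom A A' K) (P.pt l) w := by
      intro w
      induction w using TensorProduct.induction_on with
      | zero => simp
      | tmul x b => simp [extPt]
      | add x y hx hy => rw [map_add, map_add, hx, hy, map_add]
    rw [map_add, map_one, map_mul, h3, ← ha, extPt_tmul, map_one, map_one, mul_one, neg_mul, inv_mul_cancel₀ hne, add_neg_cancel]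

omit [IsAlgClosed K] in
theorem map_prB_X (ψ : B →ₐ[A] K) (b : B) :
    extPt ψ K (prB (A := A) B K (MvPolynomial.X b)) = ψ b := by
  simp [prB, extPt]

theorem coeff_chi_mem_nilradical_iff {A' : Type u} [CommRing A'] [Algebra A A'] (p : MvPolynomial B A') (k : ℕ) (hk : k < d) :
    IsNilpotent ((chi G p).coeff k) ↔ ∀ q : PrimeSpectrum A', (chi G p).coeff k ∈ q.asIdeal := by
  rw [← mem_nilradical, nilradical_eq_sInf, Submodule.mem_sInf]
  exact ⟨fun h q => h _ q.isPrime, fun h I hI => h ⟨I, hI⟩⟩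

theorem pow_mem_of_coeff_mem {A' : Type u} [CommRing A'] {D : Type u} [CommRing D] [Algebra A' D]
    (Q : Ideal D) (z : D) (q : Polynomial A') (hdeg : q.natDegree ≤ d) (htop : q.coeff d = (-1) ^ d)
    (hcoeff : ∀ k < d, algebraMap A' D (q.coeff k) ∈ Q) (hz : Polynomial.aeval z q ∈ Q) : z ^ d ∈ Q := by
  rw [Polynomial.aeval_eq_sum_range' (Nat.lt_succ_iff.mpr hdeg), Finset.sum_range_succ] at hz
  have h1 : ∑ k ∈ Finset.range d, q.coeff k • z ^ k ∈ Q := Ideal.sum_mem _ fun k hk => by
    rw [Algebra.smul_def]; exact Ideal.mul_mem_right _ _ (hcoeff k (Finset.mem_range.mp hk))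
  rw [Ideal.add_mem_iff_right _ h1, htop, Algebra.smul_def, map_pow, map_neg, map_one] at hz
  have := Ideal.mul_mem_left Q ((-1 : D) ^ d) hz
  rwa [← mul_assoc, ← mul_pow, neg_one_mul, neg_neg, one_pow, one_mul] at this

variable (A) in
/-- An algebraically closed field at a prime of an algebra. -/
abbrev GeomField {A' : Type u} [CommRing A'] [Algebra A A'] (q : PrimeSpectrum A') : Type u :=
  AlgebraicClosure q.asIdeal.ResidueField

omit G in
theorem algebraMap_geomField_eq_zero_iff {A' : Type u} [CommRing A'] [Algebra A A'] (q : PrimeSpectrum A') (a : A') :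
    algebraMap A' (GeomField A q) a = 0 ↔ a ∈ q.asIdeal := by
  rw [IsScalarTower.algebraMap_apply A' q.asIdeal.ResidueField (GeomField A q)]
  rw [map_eq_zero_iff _ (algebraMap q.asIdeal.ResidueField (GeomField A q)).injective]
  exact Ideal.algebraMap_residueField_eq_zero

theorem Points.chi_map (P : Points G K) {A' : Type u} [CommRing A'] [Algebra A A'] [Algebra A' K] [IsScalarTower A A' K]
    (p : MvPolynomial B A') :
    (chi G p).map (algebraMap A' K) = ∏ l, (Polynomial.C
      (Algebra.TensorProduct.productMap (IsScalarTower.toAlgHom A A' K) (P.pt l) (prB (A := A) B A' p)) - Polynomial.X) := by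
  rw [show algebraMap A' K = (IsScalarTower.toAlgHom A A' K).toRingHom from rfl, map_chi, P.chi_eq K]
  refine Finset.prod_congr rfl fun l _ => ?_
  rw [prB_map]
  congr 2
  induction prB (A := A) B A' p using TensorProduct.induction_on with
  | zero => simp
  | tmul x b => simp [extPt]
  | add x y hx hy => rw [map_add, map_add, hx, hy, map_add]

theorem coeff_eq_zero_of_all_zero {R : Type u} [CommRing R] {c : Fin d → R} (hc : ∀ l, c l = 0) {k : ℕ} (hk : k < d) :
    (∏ l, (Polynomial.C (c l) - Polynomial.X)).coeff k = 0 := by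
  simp only [hc, map_zero, zero_sub, Finset.prod_const, Finset.card_univ, Fintype.card_fin]
  rw [neg_pow, show ((-1 : Polynomial R) ^ d) = Polynomial.C ((-1 : R) ^ d) by simp, Polynomial.coeff_C_mul_X_pow,
    if_neg (ne_of_lt hk)]

theorem pow_mem_kerBC_radical {A' : Type u} [CommRing A'] [Algebra A A'] (q : Polynomial A') (z : A' ⊗[A] B)
    (I : Ideal (A' ⊗[A] B)) (hdeg : q.natDegree ≤ d) (htop : q.coeff d = (-1) ^ d)
    (hnil : ∀ k < d, IsNilpotent (q.coeff k)) (hz : Polynomial.aeval z q ∈ I) : z ∈ I.radical := by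
  refine Ideal.mem_radical_of_pow_mem (m := d) (pow_mem_of_coeff_mem I.radical z q hdeg htop (fun k hk => ?_) (Ideal.le_radical hz))
  obtain ⟨m, hm⟩ := hnil k hk
  exact ⟨m, by rw [← map_pow, hm, map_zero]; exact zero_mem _⟩

theorem mem_radical_ker_iff (b : B) :
    b ∈ (PolLaw.ker G.law).radical ↔ ∀ k < d, IsNilpotent ((chi G (S := A) (MvPolynomial.X b)).coeff k) := by
  constructor
  · intro hb k hk
    rw [coeff_chi_mem_nilradical_iff G _ k hk]
    intro q
    obtain ⟨P⟩ := exists_points G (GeomField A q)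
    rw [← algebraMap_geomField_eq_zero_iff (A := A) q, ← Polynomial.coeff_map, P.chi_pt]
    refine coeff_eq_zero_of_all_zero (fun l => ?_) hk
    obtain ⟨m, hm⟩ := hb
    have := P.map_eq_zero_of_mem_ker l hm
    rw [map_pow] at this
    exact eq_zero_of_pow_eq_zero this
  · intro h
    refine Ideal.mem_radical_of_pow_mem (m := d) (pow_mem_of_coeff_mem (PolLaw.ker G.law).radical b
      (chi G (S := A) (MvPolynomial.X b)) (natDegree_chi_le G _) (coeff_chi_top G _) (fun k hk => ?_)
      (Ideal.le_radical (aeval_chi_mem_ker G b)))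
    obtain ⟨m, hm⟩ := h k hk
    exact ⟨m, by rw [← map_pow, hm, map_zero]; exact zero_mem _⟩

theorem radical_ker_precomp {B' : Type u} [CommRing B'] [Algebra A B'] (φ : B' →ₐ[A] B) :
    (PolLaw.ker (G.precomp φ).law).radical = ((PolLaw.ker G.law).comap φ).radical := by
  rw [← Ideal.comap_radical]
  ext b
  rw [Ideal.mem_comap, mem_radical_ker_iff, mem_radical_ker_iff]
  have : chi (G.precomp φ) (S := A) (MvPolynomial.X b) = chi G (S := A) (MvPolynomial.X (φ b)) := by
    rw [chi_eq_rid, chi_eq_rid]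
    show TensorProduct.rid A _ (G.law.toFun' (Polynomial A) (φ.toLinearMap.lTensor (Polynomial A) _)) = _
    rw [map_sub, LinearMap.lTensor_tmul, LinearMap.lTensor_tmul, AlgHom.toLinearMap_apply, AlgHom.toLinearMap_apply, map_one]
  rw [this]

omit G in
/-- An algebraically closed field receiving the quotient by a prime. -/
theorem exists_geom_point {D : Type u} [CommRing D] [Algebra A D] (Q : Ideal D) [Q.IsPrime] :
    ∃ (K : Type u) (_ : Field K) (_ : IsAlgClosed K) (_ : Algebra A K) (ψ : D →ₐ[A] K), RingHom.ker ψ = Q := by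
  refine ⟨AlgebraicClosure Q.ResidueField, inferInstance, inferInstance, inferInstance,
    IsScalarTower.toAlgHom A D _, ?_⟩
  ext x
  rw [RingHom.mem_ker, IsScalarTower.coe_toAlgHom', IsScalarTower.algebraMap_apply D Q.ResidueField,
    map_eq_zero_iff _ (algebraMap Q.ResidueField (AlgebraicClosure Q.ResidueField)).injective]
  exact Ideal.algebraMap_residueField_eq_zero

theorem radical_kerBC (A' : Type u) [CommRing A'] [Algebra A A'] :
    (PolLaw.kerBC G.law A').radical =
      ((PolLaw.ker G.law).map (Algebra.TensorProduct.includeRight : B →ₐ[A] A' ⊗[A] B)).radical := by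
  refine le_antisymm ?_ (Ideal.radical_mono (map_ker_le_kerBC G.law A'))
  rw [Ideal.radical_le_radical_iff]
  intro z hz
  rw [Ideal.radical_eq_sInf, Submodule.mem_sInf]
  rintro Q ⟨hQle, hQ⟩
  haveI := hQ
  obtain ⟨K, _, _, _, ψ, hψ⟩ := exists_geom_point (A := A) Q
  let ι' : A' →ₐ[A] A' ⊗[A] B := Algebra.TensorProduct.includeLeft
  letI : Algebra A' K := (ψ.comp ι').toRingHom.toAlgebra
  haveI : IsScalarTower A A' K := IsScalarTower.of_algebraMap_eq fun a => ((ψ.comp ι').commutes a).symm
  obtain ⟨P⟩ := exists_points G K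
  obtain ⟨l, hl⟩ := P.exists_eq (ψ.comp Algebra.TensorProduct.includeRight) fun b hb => by
    rw [AlgHom.comp_apply, ← RingHom.mem_ker, hψ]
    exact hQle (Ideal.mem_map_of_mem _ hb)
  have := P.map_eq_zero_of_mem_kerBC G A' l hz
  rw [hl] at this
  rw [← hψ, RingHom.mem_ker, ← this]
  refine (DFunLike.congr_fun (?_ : (Algebra.TensorProduct.productMap _ _) = ψ) z).symm
  refine Algebra.TensorProduct.ext' fun a b => ?_
  rw [Algebra.TensorProduct.productMap_apply_tmul, show a ⊗ₜ[A] b = ι' a * Algebra.TensorProduct.includeRight b by simp [ι'],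
    map_mul]
  rfl

theorem le_radical_CH (χ : B → Polynomial A)
    (hχ : ∀ b : B, χ b = TensorProduct.rid A (Polynomial A)
      (G.law.toFun' (Polynomial A) ((1 : Polynomial A) ⊗ₜ[A] b - Polynomial.X ⊗ₜ[A] (1 : B)))) :
    Ideal.span (Set.range fun b : B => Polynomial.aeval b (χ b)) ≤ PolLaw.ker G.law ∧
      PolLaw.ker G.law ≤ (Ideal.span (Set.range fun b : B => Polynomial.aeval b (χ b))).radical := by
  refine ⟨Ideal.span_le.mpr ?_, fun b hb => ?_⟩
  · rintro _ ⟨b, rfl⟩
    show Polynomial.aeval b (χ b) ∈ _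
    rw [hχ, ← chi_eq_rid]; exact aeval_chi_mem_ker G b
  · refine Ideal.mem_radical_of_pow_mem (m := d) (Ideal.le_radical ?_)
    have h : Polynomial.aeval b (χ b) ∈ Ideal.span (Set.range fun b : B => Polynomial.aeval b (χ b)) :=
      Ideal.subset_span ⟨b, rfl⟩
    rw [hχ, ← chi_eq_rid, chi_eq_of_mem_ker G hb, map_pow, map_neg, Polynomial.aeval_X, neg_pow] at h
    have := Ideal.mul_mem_left _ ((-1 : B) ^ d) h
    rwa [← mul_assoc, ← mul_pow, neg_one_mul, neg_neg, one_pow, one_mul] at this

/-- A point over `A'` gives a point of the base-changed image. -/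
noncomputable def Points.imagePt (P : Points G K) (A' : Type u) [CommRing A'] [Algebra A A'] [Algebra A' K] [IsScalarTower A A' K]
    (l : Fin d) : A' ⊗[A] PolLaw.image G.law →ₐ[A] K :=
  Algebra.TensorProduct.productMap (IsScalarTower.toAlgHom A A' K)
    (Ideal.Quotient.liftₐ _ (P.pt l) fun _ hb => P.map_eq_zero_of_mem_ker l hb)

variable (A' : Type u) [CommRing A'] [Algebra A A']

/-- The projection `A' ⊗ B → A' ⊗ image`. -/
noncomputable def toImage : A' ⊗[A] B →ₐ[A'] A' ⊗[A] PolLaw.image G.law :=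
  Algebra.TensorProduct.map (AlgHom.id A' A') (Ideal.Quotient.mkₐ A (PolLaw.ker G.law))

theorem toImage_surjective : Function.Surjective (toImage G A') := by
  intro z
  induction z using TensorProduct.induction_on with
  | zero => exact ⟨0, map_zero _⟩
  | tmul a b =>
    obtain ⟨b, rfl⟩ := Ideal.Quotient.mk_surjective b
    exact ⟨a ⊗ₜ b, rfl⟩
  | add x y hx hy => obtain ⟨u, rfl⟩ := hx; obtain ⟨v, rfl⟩ := hy; exact ⟨u + v, map_add _ _ _⟩

theorem isNilpotent_toImage_aeval_chi (p : MvPolynomial B A') :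
    IsNilpotent (toImage G A' (Polynomial.aeval (prB (A := A) B A' p) (chi G p))) := by
  have h := Ideal.le_radical (aeval_chi_mem_kerBC G p)
  rw [radical_kerBC] at h
  obtain ⟨m, hm⟩ := h
  refine ⟨m, ?_⟩
  rw [← map_pow]
  refine (Ideal.map_le_iff_le_comap.mpr fun b hb => ?_ :
    _ ≤ RingHom.ker (toImage G A')) hm
  show toImage G A' ((1 : A') ⊗ₜ[A] b) = 0
  rw [toImage, Algebra.TensorProduct.map_tmul, show Ideal.Quotient.mkₐ A (PolLaw.ker G.law) b = 0 from
    Ideal.Quotient.eq_zero_iff_mem.mpr hb, TensorProduct.tmul_zero]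

theorem Points.imagePt_toImage [Algebra A' K] [IsScalarTower A A' K] (P : Points G K) (l : Fin d) (z : A' ⊗[A] B) :
    P.imagePt G A' l (toImage G A' z) = Algebra.TensorProduct.productMap (IsScalarTower.toAlgHom A A' K) (P.pt l) z := by
  induction z using TensorProduct.induction_on with
  | zero => simp
  | tmul a b => rfl
  | add x y hx hy => rw [map_add, map_add, hx, hy, map_add]

theorem exists_le_of_specializes {q' : PrimeSpectrum A'} {Q : PrimeSpectrum (A' ⊗[A] PolLaw.image G.law)}
    (h : q'.asIdeal ≤ (PrimeSpectrum.comap (algebraMap A' (A' ⊗[A] PolLaw.image G.law)) Q).asIdeal) :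
    ∃ Q' : PrimeSpectrum (A' ⊗[A] PolLaw.image G.law),
      Q'.asIdeal ≤ Q.asIdeal ∧ PrimeSpectrum.comap (algebraMap A' (A' ⊗[A] PolLaw.image G.law)) Q' = q' := by
  classical
  obtain ⟨P⟩ := exists_points G (GeomField A q')
  let θ := P.imagePt G A'
  suffices ∃ l, RingHom.ker (θ l) ≤ Q.asIdeal by
    obtain ⟨l, hl⟩ := this
    refine ⟨⟨RingHom.ker (θ l), RingHom.ker_isPrime _⟩, hl, PrimeSpectrum.ext (Ideal.ext fun a => ?_)⟩
    show θ l (a ⊗ₜ[A] 1) = 0 ↔ a ∈ q'.asIdeal
    simp only [θ, Points.imagePt, Algebra.TensorProduct.productMap_apply_tmul, map_one, mul_one,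
      IsScalarTower.coe_toAlgHom', algebraMap_geomField_eq_zero_iff]
  by_contra hne
  push Not at hne
  choose z hz hzQ using fun l => SetLike.not_le_iff_exists.mp (hne l)
  obtain ⟨w, hw⟩ := toImage_surjective G A' (∏ l, z l)
  obtain ⟨p, rfl⟩ := prB_surjective (A := A) (B := B) A' w
  have hprod : (∏ l, z l) ∉ Q.asIdeal := fun hm =>
    let ⟨l, _, hl⟩ := Ideal.IsPrime.prod_mem_iff.mp hm
    hzQ l hl
  refine hprod (Q.isPrime.mem_of_pow_mem d (pow_mem_of_coeff_mem Q.asIdeal _ (chi G p) (natDegree_chi_le G p)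
    (coeff_chi_top G p) (fun k hk => ?_) ?_))
  · refine h ?_
    rw [← algebraMap_geomField_eq_zero_iff (A := A) q', ← Polynomial.coeff_map, P.chi_map]
    refine coeff_eq_zero_of_all_zero (fun l => ?_) hk
    rw [← Points.imagePt_toImage G A' P l, hw, map_prod, Finset.prod_eq_zero (Finset.mem_univ l) (show θ l (z l) = 0 from hz l)]
  · rw [← hw, Polynomial.aeval_algHom_apply]
    obtain ⟨m, hm⟩ := isNilpotent_toImage_aeval_chi G A' p
    exact Q.isPrime.mem_of_pow_mem m (hm ▸ zero_mem _)

theorem generalizingMap_baseChange :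
    GeneralizingMap (PrimeSpectrum.comap (algebraMap A' (A' ⊗[A] PolLaw.image G.law))) := by
  intro Q q' hspec
  rw [← PrimeSpectrum.le_iff_specializes] at hspec
  obtain ⟨Q', hle, hQ'⟩ := exists_le_of_specializes G A' (Q := Q) hspec
  exact ⟨Q', (PrimeSpectrum.le_iff_specializes Q' Q).mp hle, hQ'⟩

theorem image_basicOpen (w : A' ⊗[A] B) (p : MvPolynomial B A') (hp : prB (A := A) B A' p = w) :
    PrimeSpectrum.comap (algebraMap A' (A' ⊗[A] PolLaw.image G.law)) ''
        (PrimeSpectrum.basicOpen (toImage G A' w) : Set _) =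
      ⋃ k : Fin d, (PrimeSpectrum.basicOpen ((chi G p).coeff k) : Set (PrimeSpectrum A')) := by
  subst hp
  ext q
  simp only [Set.mem_image, SetLike.mem_coe, PrimeSpectrum.mem_basicOpen, Set.mem_iUnion]
  constructor
  · rintro ⟨Q, hQ, rfl⟩
    by_contra hall
    push Not at hall
    refine hQ (Q.isPrime.mem_of_pow_mem d (pow_mem_of_coeff_mem Q.asIdeal _ (chi G p) (natDegree_chi_le G p)
      (coeff_chi_top G p) (fun k hk => hall ⟨k, hk⟩) ?_))
    rw [Polynomial.aeval_algHom_apply]
    obtain ⟨m, hm⟩ := isNilpotent_toImage_aeval_chi G A' p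
    exact Q.isPrime.mem_of_pow_mem m (hm ▸ zero_mem _)
  · rintro ⟨k, hk⟩
    obtain ⟨P⟩ := exists_points G (GeomField A q)
    have hex : ∃ l, P.imagePt G A' l (toImage G A' (prB (A := A) B A' p)) ≠ 0 := by
      by_contra hall
      push Not at hall
      refine hk ?_
      rw [← algebraMap_geomField_eq_zero_iff (A := A) q, ← Polynomial.coeff_map, P.chi_map]
      exact coeff_eq_zero_of_all_zero (fun l => by rw [← Points.imagePt_toImage G A' P l]; exact hall l) k.isLt
    obtain ⟨l, hl⟩ := hex
    refine ⟨⟨RingHom.ker (P.imagePt G A' l), RingHom.ker_isPrime _⟩, hl, PrimeSpectrum.ext (Ideal.ext fun a => ?_)⟩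
    show P.imagePt G A' l (a ⊗ₜ[A] 1) = 0 ↔ a ∈ q.asIdeal
    simp only [Points.imagePt, Algebra.TensorProduct.productMap_apply_tmul, map_one, mul_one,
      IsScalarTower.coe_toAlgHom', algebraMap_geomField_eq_zero_iff]

theorem isOpenMap_comap :
    IsOpenMap (PrimeSpectrum.comap (algebraMap A' (A' ⊗[A] PolLaw.image G.law))) := by
  refine (PrimeSpectrum.isTopologicalBasis_basic_opens.isOpenMap_iff).mpr ?_
  rintro _ ⟨z, rfl⟩
  obtain ⟨w, rfl⟩ := toImage_surjective G A' z
  obtain ⟨p, hp⟩ := prB_surjective (A := A) (B := B) A' w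
  rw [image_basicOpen G A' w p hp]
  exact isOpen_iUnion fun k => (PrimeSpectrum.basicOpen _).isOpen

omit A' in
theorem universallyOpen :
    AlgebraicGeometry.UniversallyOpen
      (AlgebraicGeometry.Spec.map (CommRingCat.ofHom (algebraMap A (PolLaw.image G.law)))) := by
  open AlgebraicGeometry CategoryTheory CategoryTheory.Limits in
  refine ⟨MorphismProperty.universally_mk' _ _ fun {T} g _ ↦ ?_⟩
  wlog hT : ∃ R, T = Spec R generalizing T
  · refine (IsZariskiLocalAtTarget.iff_of_openCover T.affineCover).mpr fun i ↦ ?_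
    refine (MorphismProperty.cancel_left_of_respectsIso _
      ((pullbackRightPullbackFstIso ..).inv ≫ (pullbackSymmetry ..).hom) _).mp ?_
    simpa [Scheme.Cover.pullbackHom] using! this _ _ ⟨_, rfl⟩
  obtain ⟨R, rfl⟩ := hT
  obtain ⟨ψ, rfl⟩ := Spec.map_surjective g
  algebraize [ψ.hom]
  refine (MorphismProperty.cancel_left_of_respectsIso _ (pullbackSpecIso A R (PolLaw.image G.law)).inv _).mp ?_
  convert_to! topologically _ (Spec.map <| CommRingCat.ofHom (algebraMap R (TensorProduct A R (PolLaw.image G.law))))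
  · exact pullbackSpecIso_inv_fst ..
  exact isOpenMap_comap G R

end Groth.Agent.PolLawLib
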