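import Mathlib
import Groth.Agent.PolLawLib.Gamma

/-!
# Surjectivity of Iversen's map
-/

set_option autoImplicit false

universe u
open scoped TensorProduct

namespace Groth.Agent.PolLawLib

variable {A : Type u} [CommRing A]

section coeff

variable {P : Type u} [CommRing P] [Algebra A P] {Q : Type u} [AddCommGroup Q] [Module A Q]

/-- The `n`-th coefficient of an element of `P[X] ⊗ Q`. -/
noncomputable def tcoeff (n : ℕ) : Polynomial P ⊗[A] Q →ₗ[A] P ⊗[A] Q :=
  ((Polynomial.lcoeff P n).restrictScalars A).rTensor Q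

theorem eq_zero_of_tcoeff (z : Polynomial P ⊗[A] Q) (h : ∀ n, tcoeff n z = 0) : z = 0 := by
  classical
  have key : ∀ z : Polynomial P ⊗[A] Q, ∃ N, z = ∑ n ∈ Finset.range N,
      ((Polynomial.monomial n).restrictScalars A).rTensor Q (tcoeff n z) := by
    intro z
    induction z using TensorProduct.induction_on with
    | zero => exact ⟨0, by simp⟩
    | tmul p q =>
      refine ⟨p.natDegree + 1, ?_⟩
      conv_lhs => rw [p.as_sum_range' (p.natDegree + 1) (Nat.lt_succ_self _), TensorProduct.sum_tmul]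
      exact Finset.sum_congr rfl fun n _ => by simp [tcoeff]
    | add a b ha hb =>
      obtain ⟨N, hN⟩ := ha
      obtain ⟨M, hM⟩ := hb
      have mono : ∀ (w : Polynomial P ⊗[A] Q) (K : ℕ), (w = ∑ n ∈ Finset.range K,
          ((Polynomial.monomial n).restrictScalars A).rTensor Q (tcoeff n w)) → ∀ L, K ≤ L → w = ∑ n ∈ Finset.range L,
          ((Polynomial.monomial n).restrictScalars A).rTensor Q (tcoeff n w) := by
        intro w K hK L hKL
        rw [← Finset.sum_subset (Finset.range_mono hKL) fun n _ hn => ?_]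
        · exact hK
        have h0 : tcoeff n w = 0 := by
          rw [hK, map_sum]
          refine Finset.sum_eq_zero fun m hm => ?_
          rw [tcoeff, ← LinearMap.rTensor_comp_apply]
          have hne : m ≠ n := fun e => hn (e ▸ hm)
          rw [show (Polynomial.lcoeff P n).restrictScalars A ∘ₗ (Polynomial.monomial m).restrictScalars A = 0 from
            LinearMap.ext fun r => by simp [Polynomial.coeff_monomial, hne], LinearMap.rTensor_zero, LinearMap.zero_apply]
        rw [h0, map_zero]
      refine ⟨max N M, ?_⟩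
      conv_lhs => rw [mono a N hN _ (le_max_left N M), mono b M hM _ (le_max_right N M), ← Finset.sum_add_distrib]
      exact Finset.sum_congr rfl fun n _ => by simp only [map_add]
  obtain ⟨N, hN⟩ := key z
  rw [hN]
  exact Finset.sum_eq_zero fun n _ => by rw [h, map_zero]

theorem tcoeff_X_pow_smul (n N : ℕ) (hn : n < N) (z : Polynomial P ⊗[A] Q) :
    tcoeff n ((Polynomial.X : Polynomial P) ^ N • z) = 0 := by
  induction z using TensorProduct.induction_on with
  | zero => simp
  | tmul p q =>
    rw [TensorProduct.smul_tmul', tcoeff, LinearMap.rTensor_tmul, LinearMap.restrictScalars_apply, Polynomial.lcoeff_apply,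
      smul_eq_mul, Polynomial.coeff_X_pow_mul', if_neg (by omega), TensorProduct.zero_tmul]
  | add a b ha hb => rw [smul_add, map_add, ha, hb, add_zero]

end coeff

theorem exists_add_pow_smul {R V : Type*} [CommSemiring R] [CommSemiring V] [Algebra R V] (W : Subalgebra R V) (X Y : R)
    (hXY : Y + X = 0) {a u : V} (hu : u ∈ W) (ha : a * (1 + X • u) ∈ W) :
    ∀ N : ℕ, ∃ w ∈ W, a = w + Y ^ N • (a * u ^ N) := by
  intro N
  induction N with
  | zero => exact ⟨0, W.zero_mem, by simp⟩
  | succ n ih =>
    obtain ⟨w, hw, he⟩ := ih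
    refine ⟨w + (Y ^ n • u ^ n) * (a * (1 + X • u)), W.add_mem hw (W.mul_mem (W.smul_mem (W.pow_mem hu _) _) ha), ?_⟩
    have h0 : (algebraMap R V Y + algebraMap R V X) = 0 := by rw [← map_add, hXY, map_zero]
    refine he.trans ?_
    simp only [Algebra.smul_def, map_pow]
    calc w + algebraMap R V Y ^ n * (a * u ^ n)
        = w + algebraMap R V Y ^ n * (a * u ^ n) + algebraMap R V Y ^ n * (a * u ^ (n + 1)) * (algebraMap R V Y + algebraMap R V X) := by
          rw [h0, mul_zero, add_zero]
      _ = _ := by ring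

variable {B Cd Ce : Type u} [CommRing B] [Algebra A B] [CommRing Cd] [Algebra A Cd] [CommRing Ce] [Algebra A Ce] {e : ℕ}

theorem iversen_surjective (γd : PolLaw.MulLaw A B Cd (e + 1)) (γe : PolLaw.MulLaw A B Ce e) (hγe : PolLaw.IsGammaD γe)
    (ω : Cd ⊗[A] B →ₐ[A] Ce ⊗[A] B)
    (hω : ∀ (S : Type u) [CommSemiring S] [Algebra A S] (x y : S ⊗[A] B),
      ω.toLinearMap.lTensor S
        ((Algebra.TensorProduct.includeLeft : Cd →ₐ[A] Cd ⊗[A] B).toLinearMap.lTensor S (γd.law.toFun' S x) *
          (Algebra.TensorProduct.includeRight : B →ₐ[A] Cd ⊗[A] B).toLinearMap.lTensor S y) =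
      (Algebra.TensorProduct.includeLeft : Ce →ₐ[A] Ce ⊗[A] B).toLinearMap.lTensor S (γe.law.toFun' S x) *
        (Algebra.TensorProduct.includeRight : B →ₐ[A] Ce ⊗[A] B).toLinearMap.lTensor S (x * y)) :
    Function.Surjective ω := by
  classical
  let inclL : Ce →ₐ[A] Ce ⊗[A] B := Algebra.TensorProduct.includeLeft
  let inclR : B →ₐ[A] Ce ⊗[A] B := Algebra.TensorProduct.includeRight
  let π : (Ce ⊗[A] B) →ₗ[A] (Ce ⊗[A] B) ⧸ Subalgebra.toSubmodule ω.range := Submodule.mkQ _
  have hπω : ∀ z, π (ω z) = 0 := fun z => (Submodule.Quotient.mk_eq_zero _).mpr ⟨z, rfl⟩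
  have hR : ∀ b, inclR b ∈ ω.range := fun b => by
    refine ⟨(1 : Cd) ⊗ₜ[A] b, ?_⟩
    have h := congrArg (TensorProduct.lid A (Ce ⊗[A] B)) (hω A 1 ((1 : A) ⊗ₜ[A] b))
    rw [(γd.mult A).1, (γe.mult A).1, one_mul, PolLaw.lTensor_algHom_apply, PolLaw.lTensor_algHom_apply,
      PolLaw.lTensor_algHom_apply, PolLaw.lTensor_algHom_apply, map_one, map_one, one_mul, one_mul] at h
    simpa [inclR] using h
  let T0 : Subalgebra A Ce := ω.range.comap inclL
  have hT0 : T0 = ⊤ := by
    refine eq_top_of_isGammaD γe T0 (fun σ r => ?_) hγe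
    let P := MvPolynomial σ A
    let R := Polynomial P
    let cR : P →ₐ[A] R := (Polynomial.CAlgHom (R := P)).restrictScalars A
    let v : R ⊗[A] B := cR.toLinearMap.rTensor B (r - 1)
    let y : R ⊗[A] B := 1 + (Polynomial.X : R) • v
    let a : R ⊗[A] (Ce ⊗[A] B) := inclL.toLinearMap.lTensor R (γe.law.toFun' R y)
    let u : R ⊗[A] (Ce ⊗[A] B) := inclR.toLinearMap.lTensor R v
    have hy : inclR.toLinearMap.lTensor R y = 1 + (Polynomial.X : R) • u := by
      rw [PolLaw.lTensor_algHom_apply, map_add, map_one, map_smul, ← PolLaw.lTensor_algHom_apply]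
    let W : Subalgebra R (R ⊗[A] (Ce ⊗[A] B)) :=
      (Algebra.TensorProduct.map (AlgHom.id R R) ω.range.val).range
    have hW : ∀ z ∈ W, π.lTensor R z = 0 := by
      rintro _ ⟨z, rfl⟩
      show π.lTensor R (Algebra.TensorProduct.map (AlgHom.id R R) ω.range.val z) = 0
      rw [← PolLaw.lTensor_algHom_apply, ← LinearMap.lTensor_comp_apply,
        show π ∘ₗ ω.range.val.toLinearMap = 0 from LinearMap.ext fun w => (Submodule.Quotient.mk_eq_zero _).mpr w.2,
        LinearMap.lTensor_zero, LinearMap.zero_apply]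
    have hωW : ∀ z, ω.toLinearMap.lTensor R z ∈ W := fun z => ⟨Algebra.TensorProduct.map (AlgHom.id R R) ω.rangeRestrict z, by
      show Algebra.TensorProduct.map (AlgHom.id R R) ω.range.val (Algebra.TensorProduct.map (AlgHom.id R R) ω.rangeRestrict z) = _
      rw [← PolLaw.lTensor_algHom_apply, ← PolLaw.lTensor_algHom_apply, ← LinearMap.lTensor_comp_apply]
      rfl⟩
    have hu : u ∈ W := by
      show inclR.toLinearMap.lTensor R v ∈ W
      induction v using TensorProduct.induction_on with
      | zero => rw [map_zero]; exact W.zero_mem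
      | tmul s b => exact ⟨s ⊗ₜ[A] ⟨inclR b, hR b⟩, by simp⟩
      | add p q hp hq => rw [map_add]; exact W.add_mem hp hq
    have ha : a * (1 + (Polynomial.X : R) • u) ∈ W := by
      have h := hω R y 1
      rw [mul_one] at h
      rw [← hy]
      show inclL.toLinearMap.lTensor R (γe.law.toFun' R y) * inclR.toLinearMap.lTensor R y ∈ W
      rw [← h]
      exact hωW _
    have hXu : (Polynomial.X : R) • u ∈ W := W.smul_mem hu _
    have hz : π.lTensor R a = 0 := by
      refine eq_zero_of_tcoeff _ fun n => ?_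
      obtain ⟨w, hw, he⟩ := exists_add_pow_smul (V := R ⊗[A] (Ce ⊗[A] B)) W Polynomial.X (-Polynomial.X) (neg_add_cancel _) hu ha (n + 1)
      have hc : ∀ (z : R ⊗[A] (Ce ⊗[A] B)) (s : R), π.lTensor R (s • z) = s • π.lTensor R z := fun z s => by
        induction z using TensorProduct.induction_on with
        | zero => simp
        | tmul p q => simp [TensorProduct.smul_tmul']
        | add p q hp hq => simp only [smul_add, map_add, hp, hq]
      rw [he, map_add, hW w hw, zero_add, hc, show (-Polynomial.X : R) ^ (n + 1) = Polynomial.X ^ (n + 1) * (-1) ^ (n + 1) from (neg_pow (Polynomial.X : Polynomial P) (n + 1)).trans (mul_comm _ _), mul_smul, tcoeff_X_pow_smul n (n + 1) (Nat.lt_succ_self n)]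
    let ψ : R →ₐ[A] P := (Polynomial.aeval (1 : P) : R →ₐ[P] P).restrictScalars A
    have hψc : ψ.comp cR = AlgHom.id A P := AlgHom.ext fun p => Polynomial.aeval_C _ _
    have hψy : ψ.toLinearMap.rTensor B y = r := by
      have hs : ∀ (s : R) (z : R ⊗[A] B), ψ.toLinearMap.rTensor B (s • z) = ψ s • ψ.toLinearMap.rTensor B z := fun s z => by
        induction z using TensorProduct.induction_on with
        | zero => simp
        | tmul p q => simp [TensorProduct.smul_tmul']
        | add p q hp hq => simp only [smul_add, map_add, hp, hq]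
      rw [map_add, hs, rTensor_eq_map B ψ 1, map_one, show ψ Polynomial.X = 1 from Polynomial.aeval_X _, one_smul,
        ← LinearMap.rTensor_comp_apply, ← AlgHom.comp_toLinearMap, hψc, AlgHom.toLinearMap_id, LinearMap.rTensor_id,
        LinearMap.id_apply, add_sub_cancel]
    have hres : (π ∘ₗ inclL.toLinearMap).lTensor P (γe.law.toFun' P r) = 0 := by
      rw [← hψy, ← PolynomialLaw.isCompat_apply' (f := γe.law) ψ, ← LinearMap.comp_apply, LinearMap.lTensor_comp_rTensor,
        ← LinearMap.rTensor_comp_lTensor, LinearMap.comp_apply, LinearMap.lTensor_comp_apply, hz, map_zero]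
    have hex : Function.Exact T0.val.toLinearMap (π ∘ₗ inclL.toLinearMap) := fun c =>
      ⟨fun hc => ⟨⟨c, (Submodule.Quotient.mk_eq_zero _).mp hc⟩, rfl⟩,
        fun ⟨z, hz⟩ => by rw [← hz]; exact (Submodule.Quotient.mk_eq_zero _).mpr z.2⟩
    obtain ⟨z, hz⟩ := ((Module.Flat.lTensor_exact P hex) (γe.law.toFun' P r)).mp hres
    exact ⟨z, hz⟩
  intro t
  induction t using TensorProduct.induction_on with
  | zero => exact ⟨0, map_zero _⟩
  | tmul c b =>
    obtain ⟨p, hp⟩ : c ∈ T0 := hT0 ▸ trivial
    obtain ⟨q, hq⟩ := hR b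
    refine ⟨p * q, ?_⟩
    rw [map_mul, show ω p = inclL c from hp, show ω q = inclR b from hq]
    simp [inclL, inclR]
  | add a b ha hb =>
    obtain ⟨p, rfl⟩ := ha
    obtain ⟨q, rfl⟩ := hb
    exact ⟨p + q, map_add _ _ _⟩

end Groth.Agent.PolLawLib
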