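import Mathlib
import Groth.Agent.PolLawLib.SymNorm

/-!
# Symmetric tensors commute with directed colimits
-/

set_option autoImplicit false

universe u

open scoped TensorProduct
open MvPolynomial

namespace Groth.Agent.PolLawLib

variable {A : Type u} [CommRing A] {B : Type u} [CommRing B] [Algebra A B] {d : ℕ}

theorem tmap_ι {C : Type u} [CommRing C] [Algebra A C] (f : B →ₐ[A] C) (l : Fin d) (b : B) :
    SymTen.tmap A d f (ι A B d l b) = ι A C d l (f b) := by
  classical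
  show SymTen.tmap A d f (PiTensorProduct.tprod A (Pi.mulSingle (M := fun _ : Fin d => B) l b)) =
    PiTensorProduct.tprod A (Pi.mulSingle (M := fun _ : Fin d => C) l (f b))
  rw [SymTen.tmap_tprod]
  congr 1
  funext i
  exact Pi.apply_mulSingle (fun _ => f) (fun _ => map_one f) l b i

theorem tmap_ev {σ : Type u} {C : Type u} [CommRing C] [Algebra A C] (f : B →ₐ[A] C) (π : MvPolynomial σ A →ₐ[A] B)
    (w : MvPolynomial (Fin d × σ) A) : SymTen.tmap A d f (ev π w) = ev (f.comp π) w := by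
  rw [← AlgHom.comp_apply]
  congr 1
  refine MvPolynomial.algHom_ext fun v => ?_
  simp [ev, tmap_ι]

theorem ev_rename_map {σ τ : Type u} (π : MvPolynomial τ A →ₐ[A] B) (f : σ → τ) (w : MvPolynomial (Fin d × σ) A) :
    ev π (rename (fun v : Fin d × σ => (v.1, f v.2)) w) = ev (π.comp (rename f)) w := by
  rw [ev, ev, aeval_rename]
  congr 1
  refine MvPolynomial.algHom_ext fun v => ?_
  simp

variable {ι' : Type u} [Preorder ι'] [IsDirected ι' (fun i j => i ≤ j)] [Nonempty ι']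
  {Bi : ι' → Type u} [∀ i, CommRing (Bi i)] [∀ i, Algebra A (Bi i)]
  {t : ∀ i j : ι', i ≤ j → (Bi i →ₐ[A] Bi j)} {φ : ∀ i : ι', Bi i →ₐ[A] B}

theorem exists_good (hcomp : ∀ (i j : ι') (h : i ≤ j), (φ j).comp (t i j h) = φ i)
    (hsurj : ∀ b : B, ∃ (i : ι') (x : Bi i), φ i x = b) (i : ι') (V : Finset B) :
    ∃ (j : ι') (_ : i ≤ j) (s : B → Bi j), ∀ b ∈ V, φ j (s b) = b := by
  classical
  induction V using Finset.induction with
  | empty => exact ⟨i, le_refl i, fun _ => 0, by simp⟩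
  | insert a V ha ih =>
    obtain ⟨j, hij, s, hs⟩ := ih
    obtain ⟨k, x, hx⟩ := hsurj a
    obtain ⟨l, hjl, hkl⟩ := directed_of (fun i j => i ≤ j) j k
    refine ⟨l, hij.trans hjl, Function.update (fun b => t j l hjl (s b)) a (t k l hkl x), fun b hb => ?_⟩
    by_cases h : b = a
    · subst h; rw [Function.update_self, ← AlgHom.comp_apply, hcomp, hx]
    · rw [Function.update_of_ne h, ← AlgHom.comp_apply, hcomp]
      exact hs b ((Finset.mem_insert.mp hb).resolve_left h)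

theorem kill_relIdeal (hcomp : ∀ (i j : ι') (h : i ≤ j), (φ j).comp (t i j h) = φ i)
    (hzero : ∀ (i : ι') (x : Bi i), φ i x = 0 → ∃ (j : ι') (h : i ≤ j), t i j h x = 0)
    (htrans : ∀ (i j k : ι') (hij : i ≤ j) (hjk : j ≤ k), (t j k hjk).comp (t i j hij) = t i k (hij.trans hjk))
    {p : MvPolynomial (Fin d × B) A} (hp : p ∈ relIdeal d (pi0 A B)) :
    ∃ V : Finset B, ∀ (k : ι') (s : B → Bi k), (∀ b ∈ V, φ k (s b) = b) →
      ∃ (j : ι') (h : k ≤ j),
        SymTen.tmap A d (t k j h) (ev (pi0 A (Bi k)) (rename (fun v : Fin d × B => (v.1, s v.2)) p)) = 0 := by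
  classical
  induction hp using Submodule.span_induction with
  | zero => exact ⟨∅, fun k s _ => ⟨k, le_refl k, by simp⟩⟩
  | mem x hx =>
    obtain ⟨l, g, hg, rfl⟩ := hx
    refine ⟨g.vars, fun k s hs => ?_⟩
    have h0 : φ k (aeval s g) = 0 := by
      rw [← AlgHom.comp_apply, MvPolynomial.comp_aeval, ← hg]
      exact MvPolynomial.eval₂Hom_congr' rfl (fun b hb _ => hs b hb) rfl
    obtain ⟨j, hkj, hj⟩ := hzero k _ h0
    refine ⟨j, hkj, ?_⟩
    rw [rename_rename, show ((fun v : Fin d × B => (v.1, s v.2)) ∘ Prod.mk l) = Prod.mk l ∘ s from rfl,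
      ← rename_rename, ev_rename, aeval_rename, tmap_ι]
    rw [show (id : Bi k → Bi k) ∘ s = s from rfl, hj, map_zero]
  | add x y _ _ hx hy =>
    obtain ⟨V, hV⟩ := hx
    obtain ⟨W, hW⟩ := hy
    refine ⟨V ∪ W, fun k s hs => ?_⟩
    obtain ⟨j, hkj, hj⟩ := hV k s fun b hb => hs b (Finset.mem_union_left _ hb)
    obtain ⟨j', hkj', hj'⟩ := hW k s fun b hb => hs b (Finset.mem_union_right _ hb)
    obtain ⟨l, hjl, hjl'⟩ := directed_of (fun i j => i ≤ j) j j'
    refine ⟨l, hkj.trans hjl, ?_⟩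
    have hT : ∀ (j : ι') (h₁ : k ≤ j) (h₂ : j ≤ l) (z : T A (Bi k) d),
        SymTen.tmap A d (t k l (h₁.trans h₂)) z = SymTen.tmap A d (t j l h₂) (SymTen.tmap A d (t k j h₁) z) := by
      intro j h₁ h₂ z
      obtain ⟨w, rfl⟩ := ev_surjective (pi0 A (Bi k)) pi0_surjective z
      rw [tmap_ev, tmap_ev, tmap_ev, ← AlgHom.comp_assoc, htrans]
    rw [map_add, map_add, map_add]
    rw [hT j hkj hjl (ev _ (rename _ x)), hj, map_zero, zero_add]
    rw [show t k l (hkj.trans hjl) = t k l (hkj'.trans hjl') from rfl, hT j' hkj' hjl' (ev _ (rename _ y)), hj', map_zero]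
  | smul a x _ hx =>
    obtain ⟨V, hV⟩ := hx
    refine ⟨V, fun k s hs => ?_⟩
    obtain ⟨j, hkj, hj⟩ := hV k s hs
    exact ⟨j, hkj, by rw [smul_eq_mul, map_mul, map_mul, map_mul, hj, mul_zero]⟩

theorem exists_kill_tmap (hcomp : ∀ (i j : ι') (h : i ≤ j), (φ j).comp (t i j h) = φ i)
    (hsurj : ∀ b : B, ∃ (i : ι') (x : Bi i), φ i x = b)
    (hzero : ∀ (i : ι') (x : Bi i), φ i x = 0 → ∃ (j : ι') (h : i ≤ j), t i j h x = 0)
    (htrans : ∀ (i j k : ι') (hij : i ≤ j) (hjk : j ≤ k), (t j k hjk).comp (t i j hij) = t i k (hij.trans hjk))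
    (i : ι') (y : T A (Bi i) d) (hy : SymTen.tmap A d (φ i) y = 0) :
    ∃ (j : ι') (h : i ≤ j), SymTen.tmap A d (t i j h) y = 0 := by
  classical
  obtain ⟨w, rfl⟩ := ev_surjective (pi0 A (Bi i)) pi0_surjective y
  let p := rename (fun v : Fin d × Bi i => (v.1, φ i v.2)) w
  have hp : p ∈ relIdeal d (pi0 A B) := by
    refine ker_ev_le (pi0 A B) pi0_surjective _ ?_
    rw [← hy, tmap_ev, ev_rename_map]
    congr 2
    refine MvPolynomial.algHom_ext fun v => ?_
    simp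
  obtain ⟨V, hV⟩ := kill_relIdeal hcomp hzero htrans hp
  obtain ⟨k, hik, s, hs⟩ := exists_good hcomp hsurj i (V ∪ (w.vars.image fun v => φ i v.2))
  have hkill : ∀ W : Finset (Bi i), (∀ x ∈ W, φ i x ∈ V ∪ (w.vars.image fun v => φ i v.2)) →
      ∃ (l : ι') (h : k ≤ l), ∀ x ∈ W, t k l h (s (φ i x)) = t i l (hik.trans h) x := by
    intro W
    induction W using Finset.induction with
    | empty => exact fun _ => ⟨k, le_refl k, by simp⟩
    | insert x W _ ih =>
      intro hW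
      obtain ⟨l, hkl, hl⟩ := ih fun z hz => hW z (Finset.mem_insert_of_mem hz)
      have h0 : φ k (s (φ i x) - t i k hik x) = 0 := by
        rw [map_sub, hs _ (hW x (Finset.mem_insert_self _ _)), ← AlgHom.comp_apply, hcomp, sub_self]
      obtain ⟨l', hkl', hl'⟩ := hzero k _ h0
      rw [map_sub, sub_eq_zero, ← AlgHom.comp_apply (φ₁ := t k l' hkl'), htrans] at hl'
      obtain ⟨m, hlm, hlm'⟩ := directed_of (fun i j => i ≤ j) l l'
      refine ⟨m, hkl.trans hlm, fun z hz => ?_⟩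
      rcases Finset.mem_insert.mp hz with rfl | hz
      · rw [← DFunLike.congr_fun (htrans k l' m hkl' hlm') _, AlgHom.comp_apply, hl', ← AlgHom.comp_apply, htrans]
      · rw [← DFunLike.congr_fun (htrans k l m hkl hlm) _, AlgHom.comp_apply, hl z hz, ← AlgHom.comp_apply, htrans]
  obtain ⟨l, hkl, hl⟩ := hkill (w.vars.image Prod.snd) fun x hx => by
    obtain ⟨v, hv, rfl⟩ := Finset.mem_image.mp hx
    exact Finset.mem_union_right _ (Finset.mem_image.mpr ⟨v, hv, rfl⟩)
  let s' : B → Bi l := fun b => t k l hkl (s b)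
  obtain ⟨j, hlj, hj⟩ := hV l s' fun b hb => by
    show φ l (t k l hkl (s b)) = b
    rw [← AlgHom.comp_apply, hcomp]; exact hs b (Finset.mem_union_left _ hb)
  refine ⟨j, (hik.trans hkl).trans hlj, ?_⟩
  have heq : ev (pi0 A (Bi l)) (rename (fun v : Fin d × B => (v.1, s' v.2)) p) =
      SymTen.tmap A d (t i l (hik.trans hkl)) (ev (pi0 A (Bi i)) w) := by
    rw [rename_rename, show ((fun v : Fin d × B => (v.1, s' v.2)) ∘ fun v : Fin d × Bi i => (v.1, φ i v.2)) =
      fun v : Fin d × Bi i => (v.1, s' (φ i v.2)) from rfl, ev_rename_map (pi0 A (Bi l)) (fun x => s' (φ i x)), tmap_ev, ev, ev]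
    refine MvPolynomial.eval₂Hom_congr' rfl (fun v hv _ => ?_) rfl
    simp only [AlgHom.comp_apply, rename_X, pi0, aeval_X, id_eq]
    rw [show s' (φ i v.2) = t i l (hik.trans hkl) v.2 from hl v.2 (Finset.mem_image.mpr ⟨v, hv, rfl⟩)]
  rw [heq, tmap_ev, tmap_ev, ← AlgHom.comp_assoc, htrans, ← tmap_ev] at hj
  exact hj

theorem TS_isDirectLimit (hcomp : ∀ (i j : ι') (h : i ≤ j), (φ j).comp (t i j h) = φ i)
    (hsurj : ∀ b : B, ∃ (i : ι') (x : Bi i), φ i x = b)
    (hzero : ∀ (i : ι') (x : Bi i), φ i x = 0 → ∃ (j : ι') (h : i ≤ j), t i j h x = 0)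
    (htrans : ∀ (i j k : ι') (hij : i ≤ j) (hjk : j ≤ k), (t j k hjk).comp (t i j hij) = t i k (hij.trans hjk)) :
    (∀ z : SymTen.TS A B d, ∃ (i : ι') (y : SymTen.TS A (Bi i) d), SymTen.TSmap A d (φ i) y = z) ∧
      ∀ (i : ι') (y : SymTen.TS A (Bi i) d), SymTen.TSmap A d (φ i) y = 0 →
        ∃ (j : ι') (h : i ≤ j), SymTen.TSmap A d (t i j h) y = 0 := by
  classical
  refine ⟨fun z => ?_, fun i y hy => ?_⟩
  · obtain ⟨w, hw⟩ := ev_surjective (pi0 A B) pi0_surjective z.1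
    obtain ⟨k, -, s, hs⟩ := exists_good hcomp hsurj (Classical.arbitrary ι') (w.vars.image Prod.snd)
    let y0 := ev (pi0 A (Bi k)) (rename (fun v : Fin d × B => (v.1, s v.2)) w)
    have hy0 : SymTen.tmap A d (φ k) y0 = z.1 := by
      rw [← hw, tmap_ev, ev_rename_map, ev, ev]
      refine MvPolynomial.eval₂Hom_congr' rfl (fun v hv _ => ?_) rfl
      simp only [AlgHom.comp_apply, rename_X, pi0, aeval_X, id_eq]
      rw [hs v.2 (Finset.mem_image.mpr ⟨v, hv, rfl⟩)]
    have hfix : ∀ W : Finset (Equiv.Perm (Fin d)), ∃ (l : ι') (h : k ≤ l), ∀ τ ∈ W,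
        PiTensorProduct.reindex A (fun _ : Fin d => Bi l) τ (SymTen.tmap A d (t k l h) y0) =
          SymTen.tmap A d (t k l h) y0 := by
      intro W
      induction W using Finset.induction with
      | empty => exact ⟨k, le_refl k, by simp⟩
      | insert τ W _ ih =>
        obtain ⟨l, hkl, hl⟩ := ih
        have h0 : SymTen.tmap A d (φ k) (PiTensorProduct.reindex A (fun _ : Fin d => Bi k) τ y0 - y0) = 0 := by
          rw [map_sub, SymTen.tmap_reindex, hy0, z.2 τ, sub_self]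
        obtain ⟨l', hkl', hl'⟩ := exists_kill_tmap hcomp hsurj hzero htrans k _ h0
        rw [map_sub, sub_eq_zero, SymTen.tmap_reindex] at hl'
        obtain ⟨m, hlm, hlm'⟩ := directed_of (fun i j => i ≤ j) l l'
        have hT : ∀ (j : ι') (h₁ : k ≤ j) (h₂ : j ≤ m) (u : T A (Bi k) d),
            SymTen.tmap A d (t k m (h₁.trans h₂)) u = SymTen.tmap A d (t j m h₂) (SymTen.tmap A d (t k j h₁) u) := by
          intro j h₁ h₂ u
          obtain ⟨w', rfl⟩ := ev_surjective (pi0 A (Bi k)) pi0_surjective u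
          rw [tmap_ev, tmap_ev, tmap_ev, ← AlgHom.comp_assoc, htrans]
        refine ⟨m, hkl.trans hlm, fun π hπ => ?_⟩
        rcases Finset.mem_insert.mp hπ with rfl | hπ
        · rw [show t k m (hkl.trans hlm) = t k m (hkl'.trans hlm') from rfl, hT l' hkl' hlm', ← SymTen.tmap_reindex, hl']
        · rw [hT l hkl hlm, ← SymTen.tmap_reindex, hl π hπ]
    obtain ⟨l, hkl, hl⟩ := hfix Finset.univ
    refine ⟨l, ⟨SymTen.tmap A d (t k l hkl) y0, (SymTen.mem_TS_iff A (Bi l) d _).mpr fun τ => hl τ (Finset.mem_univ _)⟩,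
      Subtype.ext ?_⟩
    show SymTen.tmap A d (φ l) (SymTen.tmap A d (t k l hkl) y0) = z.1
    rw [← hy0]
    obtain ⟨w', hw'⟩ := ev_surjective (pi0 A (Bi k)) pi0_surjective y0
    rw [← hw', tmap_ev, tmap_ev, tmap_ev, ← AlgHom.comp_assoc, hcomp]
  · obtain ⟨j, h, hj⟩ := exists_kill_tmap hcomp hsurj hzero htrans i y.1 (congrArg Subtype.val hy)
    exact ⟨j, h, Subtype.ext hj⟩

end Groth.Agent.PolLawLib
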