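import Mathlib
import Groth.Agent.PolLawLib.Image
import Groth.Agent.CAlgH3.Components

/-!
# Primes of the image of a multiplicative law
-/

set_option autoImplicit false

universe u

open scoped TensorProduct

namespace Groth.Agent.PolLawLib

variable {A : Type u} [CommRing A] {B : Type u} [CommRing B] [Algebra A B] {d : ℕ} (G : PolLaw.MulLaw A B A d)

theorem exists_ker_pt_eq {K : Type u} [Field K] [IsAlgClosed K] [Algebra A K] (P : Points G K) (Q : Ideal B) [Q.IsPrime]
    (hQ : PolLaw.ker G.law ≤ Q) (hK : ∀ a : A, algebraMap A K a = 0 ↔ algebraMap A B a ∈ Q) :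
    ∃ l, RingHom.ker (P.pt l) = Q := by
  classical
  have hle : ∃ l, RingHom.ker (P.pt l) ≤ Q := by
    by_contra hne
    push Not at hne
    choose z hz hzQ using fun l => SetLike.not_le_iff_exists.mp (hne l)
    have hprod : (∏ l, z l) ∉ Q := fun hm =>
      let ⟨l, _, hl⟩ := Ideal.IsPrime.prod_mem_iff.mp hm
      hzQ l hl
    refine hprod (Ideal.IsPrime.mem_of_pow_mem ‹_› d (pow_mem_of_coeff_mem Q _ (chi G (S := A) (MvPolynomial.X (∏ l, z l)))
      (natDegree_chi_le G _) (coeff_chi_top G _) (fun k hk => ?_) (hQ (aeval_chi_mem_ker G _))))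
    rw [← hK, ← Polynomial.coeff_map, P.chi_pt]
    refine coeff_eq_zero_of_all_zero (fun l => ?_) hk
    rw [map_prod, Finset.prod_eq_zero (Finset.mem_univ l) (show P.pt l (z l) = 0 from hz l)]
  obtain ⟨l, hl⟩ := hle
  refine ⟨l, le_antisymm hl fun b hb => ?_⟩
  by_contra hne
  haveI : (RingHom.ker (P.pt l)).IsPrime := RingHom.ker_isPrime _
  let q : Polynomial A := (-1 : A) ^ d • chi G (S := A) (MvPolynomial.X b)
  have hq : q.Monic := monic_chi G _
  have hq0 : Polynomial.aeval b q ∈ RingHom.ker (P.pt l) := by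
    refine (show PolLaw.ker G.law ≤ RingHom.ker (P.pt l) from fun x hx => P.map_eq_zero_of_mem_ker l hx) ?_
    rw [map_smul, Algebra.smul_def]
    exact Ideal.mul_mem_left _ _ (aeval_chi_mem_ker G b)
  have hlt := Ideal.comap_lt_comap_of_root_mem_sdiff (R := A) (f := algebraMap A B) hl ⟨hb, hne⟩ (p := q) ?_ hq0
  · refine hlt.ne (Ideal.ext fun a => ?_)
    rw [Ideal.mem_comap, Ideal.mem_comap, RingHom.mem_ker, AlgHom.commutes, hK]
  · intro h
    have hdeg : q.coeff q.natDegree = 1 := hq
    exact (Ideal.ne_top_iff_one _).mp (Ideal.IsPrime.ne_top (Ideal.comap_isPrime (algebraMap A B) (RingHom.ker (P.pt l))))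
      (Ideal.Quotient.eq_zero_iff_mem.mp (by rw [← hdeg, ← Polynomial.coeff_map, h, Polynomial.coeff_zero]))

theorem geom_iff {Q : Ideal B} [Q.IsPrime] (a : A) :
    algebraMap A (GeomField A (PrimeSpectrum.comap (algebraMap A B) ⟨Q, ‹_›⟩)) a = 0 ↔ algebraMap A B a ∈ Q :=
  algebraMap_geomField_eq_zero_iff _ a

theorem mem_radical_ker_of_pts {K : Type u} [Field K] [IsAlgClosed K] [Algebra A K] (P : Points G K)
    (hK : Function.Injective (algebraMap A K)) {b : B} (hb : ∀ l, P.pt l b = 0) :
    b ∈ (PolLaw.ker G.law).radical := by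
  rw [mem_radical_ker_iff]
  intro k hk
  have : (chi G (S := A) (MvPolynomial.X b)).coeff k = 0 := by
    refine hK ?_
    rw [map_zero, ← Polynomial.coeff_map, P.chi_pt]
    exact coeff_eq_zero_of_all_zero hb hk
  rw [this]; exact IsNilpotent.zero

theorem comap_minimal [IsDomain A] {P : Ideal B} (hP : P ∈ (PolLaw.ker G.law).minimalPrimes) :
    P.comap (algebraMap A B) = ⊥ ∧
      ∀ q : Ideal A, q.IsPrime → ∃ Q : Ideal B, Q.IsPrime ∧ P ≤ Q ∧ Q.comap (algebraMap A B) = q := by
  classical
  haveI := hP.1.1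
  let K := AlgebraicClosure (FractionRing A)
  have hinj : Function.Injective (algebraMap A K) := by
    rw [IsScalarTower.algebraMap_eq A (FractionRing A) K]
    exact (algebraMap (FractionRing A) K).injective.comp (IsFractionRing.injective A (FractionRing A))
  obtain ⟨Pt⟩ := exists_points G K
  have hle : ∃ l, RingHom.ker (Pt.pt l) ≤ P := by
    by_contra hne
    push Not at hne
    choose z hz hzQ using fun l => SetLike.not_le_iff_exists.mp (hne l)
    have hm : (∏ l, z l) ∈ (PolLaw.ker G.law).radical := mem_radical_ker_of_pts G Pt hinj fun l => by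
      rw [map_prod, Finset.prod_eq_zero (Finset.mem_univ l) (show Pt.pt l (z l) = 0 from hz l)]
    obtain ⟨l, _, hl⟩ := Ideal.IsPrime.prod_mem_iff.mp ((Ideal.IsPrime.radical_le_iff hP.1.1).mpr hP.1.2 hm)
    exact hzQ l hl
  obtain ⟨l, hl⟩ := hle
  have heq : P ≤ RingHom.ker (Pt.pt l) :=
    hP.2 ⟨RingHom.ker_isPrime _, fun x hx => Pt.map_eq_zero_of_mem_ker l hx⟩ hl
  have hbot : P.comap (algebraMap A B) = ⊥ := le_bot_iff.mp fun a ha => by
    have : Pt.pt l (algebraMap A B a) = 0 := heq ha
    rw [AlgHom.commutes] at this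
    exact (Submodule.mem_bot A).mpr (hinj (by rw [this, map_zero]))
  refine ⟨hbot, fun q hq => ?_⟩
  haveI : Algebra.IsIntegral A (PolLaw.image G.law) := isIntegral_image G
  haveI := hq
  have hmapP : (P.map (Ideal.Quotient.mk (PolLaw.ker G.law))).comap (Ideal.Quotient.mk (PolLaw.ker G.law)) = P := by
    rw [Ideal.comap_map_of_surjective _ Ideal.Quotient.mk_surjective, ← RingHom.ker_eq_comap_bot, Ideal.mk_ker,
      sup_eq_left.mpr hP.1.2]
  obtain ⟨Q', hQ'ge, hQ', hQ'c⟩ := Ideal.exists_ideal_over_prime_of_isIntegral q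
    (P.map (Ideal.Quotient.mk (PolLaw.ker G.law))) (by
      intro a ha
      rw [Ideal.mem_comap, IsScalarTower.algebraMap_apply A B (PolLaw.image G.law)] at ha
      have : algebraMap A B a ∈ P := by rw [← hmapP]; exact ha
      rw [← Ideal.mem_comap, hbot, Submodule.mem_bot] at this
      rw [this]; exact zero_mem _)
  refine ⟨Q'.comap (Ideal.Quotient.mk (PolLaw.ker G.law)), Ideal.IsPrime.comap _, ?_, ?_⟩
  · rw [← hmapP]; exact Ideal.comap_mono hQ'ge
  · rw [← hQ'c, Ideal.comap_comap]; rfl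

theorem exists_fg_le_ker [Algebra.FiniteType A B] :
    ∃ J : Ideal B, J.FG ∧ J ≤ PolLaw.ker G.law ∧ J.radical = (PolLaw.ker G.law).radical := by
  classical
  obtain ⟨s, hs⟩ := Algebra.FiniteType.out (R := A) (A := B)
  let n := s.card
  let b : Fin n → B := fun i => (s.equivFin.symm i : B)
  set p : MvPolynomial B (Polynomial A) :=
    ∑ i : Fin n, MvPolynomial.C ((Polynomial.X : Polynomial A) ^ (i : ℕ)) * MvPolynomial.X (b i) with hp
  obtain ⟨m, β, hβ⟩ := exists_sum_powers (Polynomial.aeval (prB (A := A) B (Polynomial A) p) (chi G p))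
  have hmem : ∀ j : Fin m, β j ∈ PolLaw.ker G.law := fun j => by
    refine mem_ker_of_mem_kerBC_polynomial G.law (fun j : Fin m => β j) ?_ j
    rw [← Finset.sum_range (fun i => ((Polynomial.X : Polynomial A) ^ i) ⊗ₜ[A] β i), ← hβ]
    exact aeval_chi_mem_kerBC G p
  refine ⟨Ideal.span (Set.range fun j : Fin m => β j), ⟨Finset.univ.image fun j : Fin m => β j, by simp⟩,
    Ideal.span_le.mpr (Set.range_subset_iff.mpr hmem), le_antisymm (Ideal.radical_mono (Ideal.span_le.mpr (Set.range_subset_iff.mpr hmem))) ?_⟩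
  rw [Ideal.radical_le_radical_iff]
  intro x hx
  rw [Ideal.radical_eq_sInf, Submodule.mem_sInf]
  rintro Q ⟨hJQ, hQ⟩
  haveI := hQ
  obtain ⟨K, _, _, _, ψ, hψ⟩ := exists_geom_point (A := A) Q
  obtain ⟨P⟩ := exists_points G K
  obtain ⟨l, hl⟩ := P.exists_eq_on b ψ fun c hc => by
    rw [← hc, hβ, map_sum]
    refine Finset.sum_eq_zero fun i hi => ?_
    have : ψ (β i) = 0 := by
      rw [← RingHom.mem_ker, hψ]
      exact hJQ (Ideal.subset_span ⟨⟨i, Finset.mem_range.mp hi⟩, rfl⟩)
    rw [Algebra.TensorProduct.map_tmul, this, TensorProduct.tmul_zero]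
  have hpt : P.pt l = ψ := AlgHom.ext_of_adjoin_eq_top hs fun y hy => by
    have := hl (s.equivFin ⟨y, hy⟩)
    simpa [b] using this
  rw [← hψ, RingHom.mem_ker, ← hpt]
  exact P.map_eq_zero_of_mem_ker l hx

section fibre

variable (p : PrimeSpectrum A)

theorem finite_fibre : ∃ f : Fin d → Ideal B, ∀ Q : Ideal B, Q.IsPrime → PolLaw.ker G.law ≤ Q →
    Q.comap (algebraMap A B) = p.asIdeal → ∃ l, f l = Q := by
  obtain ⟨P⟩ := exists_points G (GeomField A p)
  refine ⟨fun l => RingHom.ker (P.pt l), fun Q hQ hle hc => ?_⟩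
  haveI := hQ
  exact exists_ker_pt_eq G P Q hle fun a => by rw [algebraMap_geomField_eq_zero_iff, ← hc]; exact Ideal.mem_comap

theorem finite_fibre_image : ∃ f : {Q : PrimeSpectrum (PolLaw.image G.law) //
      PrimeSpectrum.comap (algebraMap A (PolLaw.image G.law)) Q = p} → Fin d, Function.Injective f := by
  obtain ⟨g, hg⟩ := finite_fibre G p
  have : ∀ Q : {Q : PrimeSpectrum (PolLaw.image G.law) //
      PrimeSpectrum.comap (algebraMap A (PolLaw.image G.law)) Q = p},
      ∃ l, g l = Q.1.asIdeal.comap (Ideal.Quotient.mk (PolLaw.ker G.law)) := fun ⟨Q, hQ⟩ => by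
    refine hg _ (Ideal.IsPrime.comap _) (fun x hx => ?_) ?_
    · rw [Ideal.mem_comap, Ideal.Quotient.eq_zero_iff_mem.mpr hx]; exact zero_mem _
    · exact (Ideal.comap_comap _ _).trans (congrArg PrimeSpectrum.asIdeal hQ)
  choose f hf using this
  refine ⟨f, fun Q Q' h => ?_⟩
  have h2 := (hf Q).symm.trans ((congrArg g h).trans (hf Q'))
  exact Subtype.ext (PrimeSpectrum.ext (Ideal.comap_injective_of_surjective _ Ideal.Quotient.mk_surjective h2))

end fibre

theorem finite_maximalSpectrum [Finite (MaximalSpectrum A)] : Finite (MaximalSpectrum (PolLaw.image G.law)) := by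
  haveI : Algebra.IsIntegral A (PolLaw.image G.law) := isIntegral_image G
  choose f hf using fun m : MaximalSpectrum A => finite_fibre_image G m.toPrimeSpectrum
  let c : MaximalSpectrum (PolLaw.image G.law) → MaximalSpectrum A := fun M =>
    ⟨M.asIdeal.comap (algebraMap A (PolLaw.image G.law)),
      haveI := M.isMaximal; Ideal.isMaximal_comap_of_isIntegral_of_isMaximal M.asIdeal⟩
  refine Finite.of_injective (fun M => (⟨c M, f (c M) ⟨M.toPrimeSpectrum, rfl⟩⟩ : Σ _ : MaximalSpectrum A, Fin d)) ?_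
  intro M M' h
  simp only [Sigma.mk.injEq] at h
  obtain ⟨h1, h2⟩ := h
  have key : ∀ (m : MaximalSpectrum A) (x : {Q : PrimeSpectrum (PolLaw.image G.law) //
      PrimeSpectrum.comap (algebraMap A (PolLaw.image G.law)) Q = m.toPrimeSpectrum}) (m' : MaximalSpectrum A)
      (x' : {Q : PrimeSpectrum (PolLaw.image G.law) //
      PrimeSpectrum.comap (algebraMap A (PolLaw.image G.law)) Q = m'.toPrimeSpectrum}),
      m = m' → HEq (f m x) (f m' x') → x.1 = x'.1 := by
    rintro m x m' x' rfl h
    exact congrArg Subtype.val (hf m (eq_of_heq h))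
  exact MaximalSpectrum.toPrimeSpectrum_injective (key _ _ _ _ h1 h2)

theorem connectedComponents_le [ConnectedSpace (PrimeSpectrum A)] :
    Finite (ConnectedComponents (PrimeSpectrum (PolLaw.image G.law))) ∧
      Nat.card (ConnectedComponents (PrimeSpectrum (PolLaw.image G.law))) ≤ d := by
  classical
  haveI : Algebra.IsIntegral A (PolLaw.image G.law) := isIntegral_image G
  obtain ⟨p⟩ : Nonempty (PrimeSpectrum A) := inferInstance
  obtain ⟨f, hf⟩ := finite_fibre_image G p
  let T := {Q : PrimeSpectrum (PolLaw.image G.law) // PrimeSpectrum.comap (algebraMap A (PolLaw.image G.law)) Q = p}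
  haveI : Finite T := Finite.of_injective f hf
  have hopen : IsOpenMap (PrimeSpectrum.comap (algebraMap A (PolLaw.image G.law))) := by
    have h := isOpenMap_comap G A
    let e : A ⊗[A] PolLaw.image G.law ≃ₐ[A] PolLaw.image G.law := Algebra.TensorProduct.lid A _
    have he : PrimeSpectrum.comap (algebraMap A (PolLaw.image G.law)) =
        PrimeSpectrum.comap (algebraMap A (A ⊗[A] PolLaw.image G.law)) ∘
          (PrimeSpectrum.homeomorphOfRingEquiv e.toRingEquiv).symm := by
      funext Q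
      refine PrimeSpectrum.ext (Ideal.ext fun a => ?_)
      show algebraMap A (PolLaw.image G.law) a ∈ Q.asIdeal ↔ e (algebraMap A _ a) ∈ Q.asIdeal
      rw [AlgEquiv.commutes]
    rw [he]
    exact h.comp (Homeomorph.isOpenMap _)
  have hclosed : IsClosedMap (PrimeSpectrum.comap (algebraMap A (PolLaw.image G.law))) :=
    PrimeSpectrum.isClosedMap_comap_of_isIntegral _ (algebraMap_isIntegral_iff.mpr inferInstance)
  have hsurj : Function.Surjective (fun t : T => ConnectedComponents.mk t.1) := by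
    intro C
    obtain ⟨x, rfl⟩ := ConnectedComponents.surjective_coe C
    by_contra hne
    push Not at hne
    have hsep : ∀ t : T, ∃ e, e ∈ CAlgH3.idemIn x ∧ e ∉ t.1.asIdeal := fun t => by
      have h1 : t.1 ∉ connectedComponent x := fun h => hne t (ConnectedComponents.coe_eq_coe'.mpr h)
      rw [CAlgH3.connectedComponent_eq_zeroLocus, PrimeSpectrum.mem_zeroLocus, Set.not_subset] at h1
      exact h1
    choose e he het using hsep
    let U := ⋂ t : T, PrimeSpectrum.zeroLocus ({e t} : Set (PolLaw.image G.law))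
    have hU : IsClopen U := isClopen_iInter_of_finite fun t => CAlgH3.isClopen_zeroLocus_idem (he t).1
    have hne' : U.Nonempty := ⟨x, Set.mem_iInter.mpr fun t => by simpa [PrimeSpectrum.mem_zeroLocus] using (he t).2⟩
    have himg : PrimeSpectrum.comap (algebraMap A (PolLaw.image G.law)) '' U = Set.univ :=
      IsClopen.eq_univ ⟨hclosed _ hU.1, hopen _ hU.2⟩ (hne'.image _)
    obtain ⟨y, hyU, hy⟩ : p ∈ PrimeSpectrum.comap (algebraMap A (PolLaw.image G.law)) '' U := by rw [himg]; trivial
    have := Set.mem_iInter.mp hyU ⟨y, hy⟩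
    exact het ⟨y, hy⟩ (by simpa [PrimeSpectrum.mem_zeroLocus] using this)
  refine ⟨Finite.of_surjective _ hsurj, (Nat.card_le_card_of_surjective _ hsurj).trans ?_⟩
  exact (Nat.card_le_card_of_injective f hf).trans (by simp)

section field

variable (K0 : Type u) [Field K0] [Algebra A K0]

theorem field_baseChange :
    Finite (PrimeSpectrum (K0 ⊗[A] PolLaw.image G.law)) ∧
      Nat.card (PrimeSpectrum (K0 ⊗[A] PolLaw.image G.law)) ≤ d := by
  classical
  haveI : Algebra.IsIntegral A (PolLaw.image G.law) := isIntegral_image G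
  let D := K0 ⊗[A] PolLaw.image G.law
  haveI : Algebra.IsIntegral K0 D := inferInstance
  let K := AlgebraicClosure K0
  obtain ⟨P⟩ := exists_points G K
  have h : ∀ Q : PrimeSpectrum D, ∃ l, Q.asIdeal = RingHom.ker (P.imagePt G K0 l) := by
    intro Q
    haveI : IsDomain (D ⧸ Q.asIdeal) := Ideal.Quotient.isDomain _
    haveI : Algebra.IsAlgebraic K0 (D ⧸ Q.asIdeal) := Algebra.IsIntegral.isAlgebraic
    let σ : D →ₐ[K0] K := (IsAlgClosed.lift (R := K0) (M := K) (S := D ⧸ Q.asIdeal)).comp (Ideal.Quotient.mkₐ K0 _)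
    have hmax : Q.asIdeal.IsMaximal := Ideal.isMaximal_of_isIntegral_of_isMaximal_comap (R := K0) Q.asIdeal
      (by rw [Ideal.eq_bot_of_prime (Q.asIdeal.comap (algebraMap K0 D))]; exact Ideal.bot_isMaximal)
    have hker : Q.asIdeal = RingHom.ker σ := hmax.eq_of_le (RingHom.ker_ne_top _) fun x hx => by
      rw [RingHom.mem_ker, AlgHom.comp_apply, show Ideal.Quotient.mkₐ K0 Q.asIdeal x = 0 from
        Ideal.Quotient.eq_zero_iff_mem.mpr hx, map_zero]
    obtain ⟨l, hl⟩ := P.exists_eq (((σ.restrictScalars A).comp Algebra.TensorProduct.includeRight).comp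
      (Ideal.Quotient.mkₐ A (PolLaw.ker G.law))) fun b hb => by
        rw [AlgHom.comp_apply, show Ideal.Quotient.mkₐ A (PolLaw.ker G.law) b = 0 from Ideal.Quotient.eq_zero_iff_mem.mpr hb,
          map_zero]
    refine ⟨l, hker.trans ?_⟩
    have : (σ.restrictScalars A) = P.imagePt G K0 l := by
      refine Algebra.TensorProduct.ext' fun a y => ?_
      obtain ⟨b, rfl⟩ := Ideal.Quotient.mk_surjective y
      rw [Points.imagePt, Algebra.TensorProduct.productMap_apply_tmul, show Ideal.Quotient.liftₐ _ (P.pt l) _ (Ideal.Quotient.mk _ b) = P.pt l b from rfl,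
        hl, show a ⊗ₜ[A] Ideal.Quotient.mk (PolLaw.ker G.law) b = algebraMap K0 D a * Algebra.TensorProduct.includeRight (Ideal.Quotient.mkₐ A _ b) by simp [D]]
      rw [map_mul, AlgHom.restrictScalars_apply, AlgHom.commutes]; rfl
    rw [← this]; rfl
  choose f hf using h
  have hinj : Function.Injective f := fun Q Q' hQQ => PrimeSpectrum.ext (by rw [hf Q, hf Q', hQQ])
  exact ⟨Finite.of_injective f hinj, (Nat.card_le_card_of_injective f hinj).trans (by simp)⟩

end field

theorem over_field {k : Type u} [Field k] {B : Type u} [CommRing B] [Algebra k B] (F : PolLaw.MulLaw k B k d) :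
    Finite (PrimeSpectrum (PolLaw.image F.law)) ∧ Nat.card (PrimeSpectrum (PolLaw.image F.law)) ≤ d ∧
      ∀ P : PrimeSpectrum (PolLaw.image F.law), P.asIdeal.IsMaximal ∧
        Finite (Field.Emb k P.asIdeal.ResidueField) := by
  classical
  haveI : Algebra.IsIntegral k (PolLaw.image F.law) := isIntegral_image F
  obtain ⟨f, hf⟩ := finite_fibre_image F (⊥ : PrimeSpectrum k)
  have hall : ∀ Q : PrimeSpectrum (PolLaw.image F.law), PrimeSpectrum.comap (algebraMap k _) Q = (⊥ : PrimeSpectrum k) :=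
    fun Q => Subsingleton.elim _ _
  have hinj : Function.Injective fun Q => f ⟨Q, hall Q⟩ := fun Q Q' h => congrArg Subtype.val (hf h)
  refine ⟨Finite.of_injective _ hinj, (Nat.card_le_card_of_injective _ hinj).trans (by simp), fun Q => ?_⟩
  haveI : IsDomain (PolLaw.image F.law ⧸ Q.asIdeal) := Ideal.Quotient.isDomain _
  refine ⟨Ideal.Quotient.maximal_of_isField _ (isField_of_isIntegral_of_isField' (R := k) (Semifield.toIsField k)), ?_⟩
  let K := AlgebraicClosure Q.asIdeal.ResidueField
  let L := Q.asIdeal.ResidueField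
  obtain ⟨P⟩ := exists_points F K
  have h : ∀ σ : L →ₐ[k] K, ∃ l, P.pt l = σ.comp ((IsScalarTower.toAlgHom k (PolLaw.image F.law) L).comp
      (Ideal.Quotient.mkₐ k (PolLaw.ker F.law))) := fun σ => P.exists_eq _ fun b hb => by
    rw [AlgHom.comp_apply, AlgHom.comp_apply, show Ideal.Quotient.mkₐ k (PolLaw.ker F.law) b = 0 from
      Ideal.Quotient.eq_zero_iff_mem.mpr hb, map_zero, map_zero]
  choose g hg using h
  refine Finite.of_injective g fun σ τ hστ => ?_
  have h1 : σ.comp ((IsScalarTower.toAlgHom k (PolLaw.image F.law) L).comp (Ideal.Quotient.mkₐ k (PolLaw.ker F.law))) =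
      τ.comp ((IsScalarTower.toAlgHom k (PolLaw.image F.law) L).comp (Ideal.Quotient.mkₐ k (PolLaw.ker F.law))) := by
    rw [← hg, ← hg, hστ]
  refine AlgHom.coe_ringHom_injective (IsLocalization.ringHom_ext (nonZeroDivisors (PolLaw.image F.law ⧸ Q.asIdeal))
    (RingHom.ext fun x => ?_))
  obtain ⟨y, rfl⟩ := Ideal.Quotient.mk_surjective x
  obtain ⟨z, rfl⟩ := Ideal.Quotient.mk_surjective y
  exact DFunLike.congr_fun h1 z

end Groth.Agent.PolLawLib
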