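import Mathlib
import Groth.Prelude.Def_SymTen
import Groth.Agent.ZeroCyc.GradedGen
import Groth.Agent.PolLawLib.DPSpan

/-!
# The symmetric product of a projective scheme is covered by `D_+` of norms
-/

set_option autoImplicit false

universe u

open scoped TensorProduct

namespace Groth.Agent.PolLawLib.SymGraded

variable {A B : Type u} [CommRing A] [CommRing B] [Algebra A B] (𝒜 : ℕ → Submodule A B) [GradedAlgebra 𝒜] {d : ℕ}

/-- Product of homogeneous elements. -/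
def hmul {n m : ℕ} (a : 𝒜 n) (b : 𝒜 m) : 𝒜 (n + m) := ⟨a * b, SetLike.mul_mem_graded a.2 b.2⟩

/-- A point of the `d`-fold product, seen on its homogeneous coordinates. -/
structure Pt (L : Type u) [Field L] [Algebra A L] (d : ℕ) where
  ψ : ∀ n, MultilinearMap A (fun _ : Fin d => 𝒜 n) L
  mul : ∀ {n m} (x : Fin d → 𝒜 n) (y : Fin d → 𝒜 m), ψ (n + m) (fun i => hmul 𝒜 (x i) (y i)) = ψ n x * ψ m y
  one : ψ 0 (fun _ => ⟨1, SetLike.one_mem_graded 𝒜⟩) = 1

variable {L : Type u} [Field L] [Algebra A L] (P : Pt 𝒜 L d)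

namespace Pt

theorem exchange {n : ℕ} (x y x' y' : Fin d → 𝒜 n) (h : ∀ i, (x i : B) * y i = (x' i : B) * y' i) :
    P.ψ n x * P.ψ n y = P.ψ n x' * P.ψ n y' := by
  rw [← P.mul, ← P.mul]
  exact congrArg _ (funext fun i => Subtype.ext (h i))

/-- The coordinates at `i`. -/
noncomputable def u {n : ℕ} (z : Fin d → 𝒜 n) (i : Fin d) : 𝒜 n →ₗ[A] L := (P.ψ n).toLinearMap z i

theorem u_apply {n : ℕ} (z : Fin d → 𝒜 n) (i : Fin d) (a : 𝒜 n) : P.u 𝒜 z i a = P.ψ n (Function.update z i a) := rfl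

theorem rank_one {n : ℕ} (z x : Fin d → 𝒜 n) :
    P.ψ n x * P.ψ n z ^ d = P.ψ n z * ∏ i, P.u 𝒜 z i (x i) := by
  classical
  suffices h : ∀ s : Finset (Fin d), P.ψ n (fun i => if i ∈ s then x i else z i) * P.ψ n z ^ s.card =
      P.ψ n z * ∏ i ∈ s, P.u 𝒜 z i (x i) by
    have := h Finset.univ
    simpa using this
  intro s
  induction s using Finset.induction with
  | empty => simp
  | insert a s ha ih =>
    have e := P.exchange 𝒜 (fun i => if i ∈ insert a s then x i else z i) z (fun i => if i ∈ s then x i else z i)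
      (Function.update z a (x a)) fun i => by
        by_cases h : i = a
        · subst h; simp [ha, mul_comm]
        · simp [h]
    rw [Finset.card_insert_of_notMem ha, Finset.prod_insert ha, pow_succ',
      ← mul_assoc, e, mul_right_comm, ih, u_apply]
    ring

theorem u_ne_zero {n : ℕ} {z : Fin d → 𝒜 n} (hz : P.ψ n z ≠ 0) (i : Fin d) : P.u 𝒜 z i (z i) ≠ 0 := by
  rwa [u_apply, Function.update_eq_self]

theorem ne_zero_of_forall {n : ℕ} {z x : Fin d → 𝒜 n} (hz : P.ψ n z ≠ 0) (hx : ∀ i, P.u 𝒜 z i (x i) ≠ 0) :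
    P.ψ n x ≠ 0 := fun h => by
  have := P.rank_one 𝒜 z x
  rw [h, zero_mul] at this
  exact mul_ne_zero hz (Finset.prod_ne_zero_iff.mpr fun i _ => hx i) this.symm

theorem exists_deg_one {k : ℕ}
    (hspan : 𝒜 (1 + k) ≤ Submodule.span A {x | ∃ (a : 𝒜 1) (c : 𝒜 k), x = (a : B) * c})
    (x : Fin d → 𝒜 (1 + k)) (hx : P.ψ (1 + k) x ≠ 0) : ∃ z : Fin d → 𝒜 1, P.ψ 1 z ≠ 0 := by
  classical
  have h : ∀ i, ∃ (a : 𝒜 1) (c : 𝒜 k), P.u 𝒜 x i (hmul 𝒜 a c) ≠ 0 := fun i => by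
    by_contra hne
    push Not at hne
    refine P.u_ne_zero 𝒜 hx i ?_
    suffices ∀ w ∈ Submodule.span A {x | ∃ (a : 𝒜 1) (c : 𝒜 k), x = (a : B) * c}, ∀ hw : w ∈ 𝒜 (1 + k),
        P.u 𝒜 x i ⟨w, hw⟩ = 0 from this _ (hspan (x i).2) (x i).2
    have hle : Submodule.span A {x | ∃ (a : 𝒜 1) (c : 𝒜 k), x = (a : B) * c} ≤
        (LinearMap.ker (P.u 𝒜 x i)).map (𝒜 (1 + k)).subtype := by
      refine Submodule.span_le.mpr ?_
      rintro _ ⟨a, c, rfl⟩
      exact ⟨hmul 𝒜 a c, hne a c, rfl⟩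
    intro w hw hw'
    obtain ⟨v, hv, rfl⟩ := hle hw
    exact hv
  choose a c hac using h
  refine ⟨a, fun h0 => P.ne_zero_of_forall 𝒜 hx hac ?_⟩
  rw [P.mul, h0, zero_mul]

/-- `z ^ n`. -/
noncomputable def zpw (z : Fin d → 𝒜 1) (n : ℕ) : Fin d → 𝒜 n := fun i =>
  ⟨(z i : B) ^ n, by simpa using SetLike.pow_mem_graded n (z i).2⟩

theorem ψ_zpw (z : Fin d → 𝒜 1) (n : ℕ) : P.ψ n (zpw 𝒜 z n) = P.ψ 1 z ^ n := by
  induction n with
  | zero =>
    rw [pow_zero, ← P.one]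
    exact congrArg _ (funext fun i => Subtype.ext (pow_zero _))
  | succ n ih =>
    rw [pow_succ, ← ih, ← P.mul]
    exact congrArg _ (funext fun i => Subtype.ext (pow_succ _ _))

theorem u_mul (z : Fin d → 𝒜 1) (i : Fin d) {n m : ℕ} (a : 𝒜 n) (b : 𝒜 m) :
    P.u 𝒜 (zpw 𝒜 z (n + m)) i (hmul 𝒜 a b) = P.u 𝒜 (zpw 𝒜 z n) i a * P.u 𝒜 (zpw 𝒜 z m) i b := by
  classical
  rw [u_apply, u_apply, u_apply, ← P.mul]
  refine congrArg _ (funext fun j => Subtype.ext ?_)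
  by_cases h : j = i
  · subst h; simp [hmul]
  · simp [hmul, zpw, h, pow_add]

theorem exists_pow (z : Fin d → 𝒜 1) {n : ℕ} (f : 𝒜 n) : ∀ M : ℕ, 0 < M → ∃ g : 𝒜 (n * M),
    ∀ i, P.u 𝒜 (zpw 𝒜 z (n * M)) i g = P.u 𝒜 (zpw 𝒜 z n) i f ^ M := by
  intro M hM
  induction M with
  | zero => omega
  | succ M ih =>
    rcases M.eq_zero_or_pos with rfl | hM0
    · have : n * (0 + 1) = n := by simp
      rw [this]
      exact ⟨f, fun i => by simp⟩
    · obtain ⟨g, hg⟩ := ih hM0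
      have : n * (M + 1) = n * M + n := by ring
      rw [this]
      exact ⟨hmul 𝒜 g f, fun i => by rw [P.u_mul, hg, pow_succ]⟩

theorem exists_avoid (z : Fin d → 𝒜 1) (hz : P.ψ 1 z ≠ 0) : ∀ (s : ℕ) (S : Finset (Fin d)), S.card = s →
    ∃ n, 0 < n ∧ ∃ f : 𝒜 n, ∀ i ∈ S, P.u 𝒜 (zpw 𝒜 z n) i f ≠ 0 := by
  classical
  intro s
  induction s with
  | zero => intro S hS; exact ⟨1, one_pos, 0, fun i hi => by simp [Finset.card_eq_zero.mp hS] at hi⟩
  | succ s ih =>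
    intro S hS
    obtain ⟨j, hj⟩ := Finset.card_pos.mp (by omega : 0 < S.card)
    have hS' : (S.erase j).card = s := by rw [Finset.card_erase_of_mem hj]; omega
    by_cases hA : ∀ i ∈ S.erase j, ∃ m, 0 < m ∧ ∃ a : 𝒜 m, P.u 𝒜 (zpw 𝒜 z m) i a = 0 ∧ P.u 𝒜 (zpw 𝒜 z m) j a ≠ 0
    · obtain ⟨n, hn, f, hf⟩ := ih (S.erase j) hS'
      by_cases hfj : P.u 𝒜 (zpw 𝒜 z n) j f = 0
      swap
      · refine ⟨n, hn, f, fun i hi => ?_⟩
        by_cases h : i = j
        · subst h; exact hfj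
        · exact hf i (Finset.mem_erase.mpr ⟨h, hi⟩)
      have hprod : ∀ R : Finset (Fin d), R ⊆ S.erase j → ∃ M, 0 < M ∧ ∃ h : 𝒜 M,
          P.u 𝒜 (zpw 𝒜 z M) j h ≠ 0 ∧ ∀ i ∈ R, P.u 𝒜 (zpw 𝒜 z M) i h = 0 := by
        intro R
        induction R using Finset.induction with
        | empty =>
          intro _
          refine ⟨1, one_pos, z j, ?_, by simp⟩
          have : zpw 𝒜 z 1 = z := funext fun i => Subtype.ext (pow_one _)
          rw [this]
          exact P.u_ne_zero 𝒜 hz j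
        | insert a R _ ihR =>
          intro hR
          obtain ⟨M, hM, h, hh, hR0⟩ := ihR ((Finset.subset_insert _ _).trans hR)
          obtain ⟨m, hm, b, hb0, hbj⟩ := hA a (hR (Finset.mem_insert_self _ _))
          refine ⟨M + m, by omega, hmul 𝒜 h b, ?_, fun i hi => ?_⟩
          · rw [P.u_mul]; exact mul_ne_zero hh hbj
          · rw [P.u_mul]
            rcases Finset.mem_insert.mp hi with rfl | hi
            · rw [hb0, mul_zero]
            · rw [hR0 i hi, zero_mul]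
      obtain ⟨M, hM, h, hhj, hh0⟩ := hprod _ (subset_refl _)
      obtain ⟨g1, hg1⟩ := P.exists_pow 𝒜 z f M hM
      obtain ⟨g2, hg2⟩ := P.exists_pow 𝒜 z h n hn
      obtain ⟨g2', hg2'⟩ : ∃ g2' : 𝒜 (n * M), ∀ i, P.u 𝒜 (zpw 𝒜 z (n * M)) i g2' = P.u 𝒜 (zpw 𝒜 z M) i h ^ n := by
        rw [mul_comm]; exact ⟨g2, hg2⟩
      refine ⟨n * M, Nat.mul_pos hn hM, g1 + g2', fun i hi => ?_⟩
      rw [map_add, hg1, hg2']
      by_cases hij : i = j
      · subst hij
        rw [hfj, zero_pow hM.ne', zero_add]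
        exact pow_ne_zero _ hhj
      · have hi' := Finset.mem_erase.mpr ⟨hij, hi⟩
        rw [hh0 i hi', zero_pow hn.ne', add_zero]
        exact pow_ne_zero _ (hf i hi')
    · push Not at hA
      obtain ⟨i0, hi0, hA⟩ := hA
      obtain ⟨hne, hi0S⟩ := Finset.mem_erase.mp hi0
      obtain ⟨n, hn, f, hf⟩ := ih (S.erase i0) (by rw [Finset.card_erase_of_mem hi0S]; omega)
      refine ⟨n, hn, f, fun i hi => ?_⟩
      by_cases h : i = i0
      · subst h
        intro h0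
        exact hf j (Finset.mem_erase.mpr ⟨Ne.symm hne, hj⟩) (hA n hn f h0)
      · exact hf i (Finset.mem_erase.mpr ⟨h, hi⟩)

theorem exists_tpow_ne_zero (z : Fin d → 𝒜 1) (hz : P.ψ 1 z ≠ 0) :
    ∃ n, 0 < n ∧ ∃ f : 𝒜 n, P.ψ n (fun _ => f) ≠ 0 := by
  obtain ⟨n, hn, f, hf⟩ := P.exists_avoid 𝒜 z hz _ Finset.univ rfl
  exact ⟨n, hn, f, P.ne_zero_of_forall 𝒜 (by rw [ψ_zpw]; exact pow_ne_zero _ hz) fun i => hf i (Finset.mem_univ _)⟩

theorem exists_tpow_ne_zero_deg_one (z : Fin d → 𝒜 1) (hz : P.ψ 1 z ≠ 0) (c : Fin d → A)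
    (hc : ∀ i j, algebraMap A L (c i) = algebraMap A L (c j) → i = j) : ∃ f : 𝒜 1, P.ψ 1 (fun _ => f) ≠ 0 := by
  classical
  suffices h : ∀ S : Finset (Fin d), ∃ f : 𝒜 1, ∀ i ∈ S, P.u 𝒜 z i f ≠ 0 by
    obtain ⟨f, hf⟩ := h Finset.univ
    exact ⟨f, P.ne_zero_of_forall 𝒜 hz fun i => hf i (Finset.mem_univ _)⟩
  intro S
  induction S using Finset.induction with
  | empty => exact ⟨0, by simp⟩
  | insert j S hj ih =>
    obtain ⟨f, hf⟩ := ih
    let cand : Option (Fin d) → 𝒜 1 := fun o => o.elim (z j) (fun a => f + c a • z j)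
    by_contra hne
    push Not at hne
    choose bad hbad hbad0 using fun o => hne (cand o)
    obtain ⟨o1, -, o2, -, ho, he⟩ := Finset.exists_ne_map_eq_of_card_lt_of_maps_to
      (s := (Finset.univ : Finset (Option (Fin d)))) (t := insert j S) (f := bad)
      (by
        rw [Finset.card_univ, Fintype.card_option, Fintype.card_fin]
        exact Nat.lt_succ_of_le ((Finset.card_le_univ _).trans_eq (Fintype.card_fin d)))
      (fun o _ => hbad o)
    have key : ∀ o1 o2, o1 ≠ o2 → bad o1 = bad o2 →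
        P.u 𝒜 z (bad o1) (z j) = 0 ∧ P.u 𝒜 z (bad o1) f = 0 := by
      intro o1 o2 ho he
      have h1 := hbad0 o1
      have h2 := hbad0 o2
      rw [← he] at h2
      rcases o1 with _ | a <;> rcases o2 with _ | b
      · exact absurd rfl ho
      · refine ⟨h1, ?_⟩
        simp only [cand, Option.elim_some, Option.elim_none, map_add, map_smul] at h1 h2
        rwa [h1, smul_zero, add_zero] at h2
      · refine ⟨h2, ?_⟩
        simp only [cand, Option.elim_some, Option.elim_none, map_add, map_smul] at h1 h2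
        rwa [h2, smul_zero, add_zero] at h1
      · simp only [cand, Option.elim_some, map_add, map_smul, Algebra.smul_def] at h1 h2
        have hdiff : (algebraMap A L (c a) - algebraMap A L (c b)) * P.u 𝒜 z (bad (some a)) (z j) = 0 := by
          linear_combination h1 - h2
        have hab : algebraMap A L (c a) - algebraMap A L (c b) ≠ 0 := fun h =>
          ho (congrArg some (hc a b (sub_eq_zero.mp h)))
        have hu := (mul_eq_zero.mp hdiff).resolve_left hab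
        exact ⟨hu, by rwa [hu, mul_zero, add_zero] at h1⟩
    obtain ⟨k1, k2⟩ := key o1 o2 ho he
    rcases Finset.mem_insert.mp (hbad o1) with h | h
    · rw [h] at k1
      exact P.u_ne_zero 𝒜 hz j k1
    · exact hf _ h k2

theorem exists_orbit_ne_zero {r : ℕ} (e : Fin r → 𝒜 1) (he : ∀ a : 𝒜 1, a ∈ Submodule.span A (Set.range e))
    (z : Fin d → 𝒜 1) (hz : P.ψ 1 z ≠ 0) :
    ∃ κ : Fin r →₀ ℕ, ∑ g ∈ (Finset.univ : Finset (Fin d → Fin r)).filter (fun g => (∑ i, Finsupp.single (g i) 1) = κ),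
      P.ψ 1 (fun i => e (g i)) ≠ 0 := by
  classical
  let Q : MvPolynomial (Fin r) L := ∏ i : Fin d, ∑ a, MvPolynomial.monomial (Finsupp.single a 1) (P.u 𝒜 z i (e a))
  have hQ : Q ≠ 0 := Finset.prod_ne_zero_iff.mpr fun i _ h => by
    refine P.u_ne_zero 𝒜 hz i ?_
    have hle : Submodule.span A (Set.range e) ≤ LinearMap.ker (P.u 𝒜 z i) := by
      refine Submodule.span_le.mpr ?_
      rintro _ ⟨a, rfl⟩
      have := congrArg (MvPolynomial.coeff (Finsupp.single a 1)) h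
      rw [MvPolynomial.coeff_sum, Finset.sum_eq_single a] at this
      · show P.u 𝒜 z i (e a) = 0
        simpa using this
      · intro b _ hb
        rw [MvPolynomial.coeff_monomial, if_neg]
        exact fun he => hb (Finsupp.single_left_injective one_ne_zero he)
      · simp
    exact hle (he (z i))
  obtain ⟨κ, hκ⟩ := MvPolynomial.ne_zero_iff.mp hQ
  refine ⟨κ, fun h => hκ ?_⟩
  have hQe : Q = ∑ g : Fin d → Fin r,
      MvPolynomial.monomial (∑ i, Finsupp.single (g i) 1) (∏ i, P.u 𝒜 z i (e (g i))) := by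
    simp only [Q, Finset.prod_univ_sum, Fintype.piFinset_univ]
    exact Finset.sum_congr rfl fun g _ => (MvPolynomial.monomial_sum_index _ _ _).trans (by
      rw [map_prod, ← Finset.prod_mul_distrib]
      simp [MvPolynomial.C_mul_monomial]) |>.symm
  have h' := congrArg (· * P.ψ 1 z ^ d) h
  simp only [Finset.sum_mul, zero_mul, P.rank_one 𝒜 z, ← Finset.mul_sum, mul_eq_zero, hz, false_or] at h'
  rw [hQe, MvPolynomial.coeff_sum]
  simp only [MvPolynomial.coeff_monomial]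
  rw [← Finset.sum_filter]
  exact h'

end Pt

section main

theorem exists_point {R : Type u} [CommRing R] [Algebra A R] (Q : Ideal R) [Q.IsPrime] :
    ∃ (L : Type u) (_ : Field L) (_ : Algebra A L) (χ : R →ₐ[A] L), ∀ x, χ x = 0 ↔ x ∈ Q :=
  ⟨FractionRing (R ⧸ Q), inferInstance, inferInstance,
    (IsScalarTower.toAlgHom A (R ⧸ Q) (FractionRing (R ⧸ Q))).comp (Ideal.Quotient.mkₐ A Q), fun x => by
      show algebraMap (R ⧸ Q) (FractionRing (R ⧸ Q)) (Ideal.Quotient.mk Q x) = 0 ↔ _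
      rw [map_eq_zero_iff _ (IsFractionRing.injective _ (FractionRing (R ⧸ Q))), Ideal.Quotient.eq_zero_iff_mem]⟩

variable (A B)

/-- The algebra generated by homogeneous tensors of balanced degree. -/
noncomputable def C (d : ℕ) : Subalgebra A (⨂[A] _ : Fin d, B) :=
  Algebra.adjoin A {t | ∃ (k : ℕ) (b : Fin d → B), (∀ i, b i ∈ 𝒜 k) ∧ t = PiTensorProduct.tprod A b}

variable {A B}

theorem tprod_mem_C {n : ℕ} (x : Fin d → 𝒜 n) : PiTensorProduct.tprod A (fun i => (x i : B)) ∈ C A B 𝒜 d :=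
  Algebra.subset_adjoin ⟨n, _, fun i => (x i).2, rfl⟩

/-- The multilinear map into `C`. -/
noncomputable def tp (d n : ℕ) : MultilinearMap A (fun _ : Fin d => 𝒜 n) (C A B 𝒜 d) :=
  ((PiTensorProduct.tprod A).compLinearMap fun _ => (𝒜 n).subtype).codRestrict
    (Subalgebra.toSubmodule (C A B 𝒜 d)) (tprod_mem_C 𝒜)

theorem val_tp {n : ℕ} (x : Fin d → 𝒜 n) : (tp 𝒜 d n x).1 = PiTensorProduct.tprod A (fun i => (x i : B)) := rfl

theorem perm_mem_C (σ : Equiv.Perm (Fin d)) {x : ⨂[A] _ : Fin d, B} (hx : x ∈ C A B 𝒜 d) :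
    SymTen.perm A B d σ x ∈ C A B 𝒜 d := by
  have h : C A B 𝒜 d ≤ (C A B 𝒜 d).comap (SymTen.perm A B d σ) := by
    refine Algebra.adjoin_le ?_
    rintro _ ⟨k, b, hb, rfl⟩
    show SymTen.perm A B d σ _ ∈ C A B 𝒜 d
    rw [SymTen.perm_tprod]
    exact Algebra.subset_adjoin ⟨k, _, fun i => hb _, rfl⟩
  exact h hx

/-- The permutation acting on `C`. -/
noncomputable def permC (σ : Equiv.Perm (Fin d)) : C A B 𝒜 d →ₐ[A] C A B 𝒜 d :=
  ((SymTen.perm A B d σ).comp (C A B 𝒜 d).val).codRestrict _ fun x => perm_mem_C 𝒜 σ x.2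

theorem permC_permC (σ τ : Equiv.Perm (Fin d)) (x : C A B 𝒜 d) : permC 𝒜 σ (permC 𝒜 τ x) = permC 𝒜 (σ * τ) x := by
  refine Subtype.ext ?_
  show SymTen.perm A B d σ (SymTen.perm A B d τ x.1) = SymTen.perm A B d (σ * τ) x.1
  generalize x.1 = t
  induction t using PiTensorProduct.induction_on with
  | smul_tprod r f => simp only [map_smul, SymTen.perm_tprod]; rfl
  | add x y hx hy => simp only [map_add, hx, hy]

variable {D : Subalgebra A (⨂[A] _ : Fin d, B)} (hD : D = C A B 𝒜 d ⊓ SymTen.TS A B d)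

include hD in
theorem exists_prime_over (P : Ideal D) [P.IsPrime] :
    ∃ Q : Ideal (C A B 𝒜 d), Q.IsPrime ∧ ∀ (x : D) (hx : x.1 ∈ C A B 𝒜 d), (⟨x.1, hx⟩ ∈ Q ↔ x ∈ P) := by
  classical
  have hle : D ≤ C A B 𝒜 d := hD ▸ inf_le_left
  letI : Algebra D (C A B 𝒜 d) := (Subalgebra.inclusion hle).toRingHom.toAlgebra
  haveI : Algebra.IsIntegral D (C A B 𝒜 d) := ⟨fun x => by
    let q : Polynomial (C A B 𝒜 d) := ∏ σ : Equiv.Perm (Fin d), (Polynomial.X - Polynomial.C (permC 𝒜 σ x))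
    have hfix : ∀ τ : Equiv.Perm (Fin d), q.map (permC 𝒜 τ).toRingHom = q := fun τ => by
      simp only [q, Polynomial.map_prod, Polynomial.map_sub, Polynomial.map_X, Polynomial.map_C]
      refine Fintype.prod_equiv (Equiv.mulLeft τ) _ _ fun σ => ?_
      simp [permC_permC]
    have hlift : q ∈ Polynomial.lifts (algebraMap D (C A B 𝒜 d)) := by
      refine (Polynomial.lifts_iff_coeff_lifts q).mpr fun k => ?_
      refine ⟨⟨(q.coeff k).1, hD ▸ ⟨(q.coeff k).2, fun τ => ?_⟩⟩, Subtype.ext rfl⟩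
      have := congrArg (fun p => (p.coeff k).1) (hfix τ)
      simp only [Polynomial.coeff_map] at this
      rw [← SymTen.perm_apply]
      exact this
    have hmon : q.Monic := Polynomial.monic_prod_of_monic _ _ fun σ _ => Polynomial.monic_X_sub_C _
    rcases subsingleton_or_nontrivial (C A B 𝒜 d) with hs | hn
    · rw [Subsingleton.elim x 0]; exact isIntegral_zero
    obtain ⟨p, hp, -, hpm⟩ := Polynomial.lifts_and_degree_eq_and_monic hlift hmon
    refine ⟨p, hpm, ?_⟩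
    rw [← Polynomial.eval_map, hp]
    simp only [q, Polynomial.eval_prod, Polynomial.eval_sub, Polynomial.eval_X, Polynomial.eval_C]
    refine Finset.prod_eq_zero (Finset.mem_univ 1) (sub_eq_zero.mpr (Subtype.ext ?_))
    show x.1 = SymTen.perm A B d 1 x.1
    generalize x.1 = t
    induction t using PiTensorProduct.induction_on with
    | smul_tprod r f => simp only [map_smul, SymTen.perm_tprod]; rfl
    | add x y hx hy => rw [map_add, ← hx, ← hy]⟩
  have hinj : Function.Injective (algebraMap D (C A B 𝒜 d)) := Subalgebra.inclusion_injective hle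
  obtain ⟨Q, -, hQ, hQP⟩ := Ideal.exists_ideal_over_prime_of_isIntegral P (⊥ : Ideal (C A B 𝒜 d))
    (fun x hx => by
      rw [Ideal.mem_comap, Ideal.mem_bot] at hx
      rw [hinj (hx.trans (map_zero _).symm)]
      exact zero_mem _)
  refine ⟨Q, hQ, fun x hx => ?_⟩
  rw [← hQP, Ideal.mem_comap]
  exact Iff.rfl

variable (hgen : Algebra.adjoin A (𝒜 1 : Set B) = ⊤) (hfg : (𝒜 1).FG)

include hfg in
theorem exists_gen : ∃ (r : ℕ) (e : Fin r → 𝒜 1), ∀ a : 𝒜 1, a ∈ Submodule.span A (Set.range e) := by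
  haveI : Module.Finite A (𝒜 1) := Module.Finite.iff_fg.mpr hfg
  obtain ⟨r, e, he⟩ := Module.Finite.exists_fin (R := A) (M := 𝒜 1)
  exact ⟨r, e, fun a => he ▸ trivial⟩

include hgen hfg in
theorem le_span_mul (k : ℕ) : 𝒜 (1 + k) ≤ Submodule.span A {x | ∃ (a : 𝒜 1) (c : 𝒜 k), x = (a : B) * c} := by
  classical
  obtain ⟨r, e, he⟩ := exists_gen 𝒜 hfg
  have hg : Algebra.adjoin A (Set.range fun i => (e i : B)) = ⊤ := by
    rw [← top_le_iff, ← hgen]
    refine Algebra.adjoin_le fun a ha => ?_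
    have h := Submodule.mem_map_of_mem (f := (𝒜 1).subtype) (he ⟨a, ha⟩)
    rw [Submodule.map_span, ← Set.range_comp] at h
    exact Algebra.span_le_adjoin _ _ h
  refine (ZeroCyc.homogeneous_le_span 𝒜 (fun i => (e i : B)) (fun _ => 1) (fun i => (e i).2) hg (1 + k)).trans
    (Submodule.span_le.mpr ?_)
  rintro _ ⟨a, ha, rfl⟩
  simp only [mul_one] at ha
  obtain ⟨i, -, hi⟩ := Finset.exists_ne_zero_of_sum_ne_zero (s := Finset.univ) (f := a) (by omega)
  let a' : Fin r → ℕ := Function.update a i (a i - 1)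
  have hsum : ∑ j, a' j = k := by
    rw [Finset.sum_update_of_mem (Finset.mem_univ i)]
    have := Finset.sum_eq_add_sum_sdiff_singleton_of_mem (Finset.mem_univ i) a
    omega
  refine Submodule.subset_span ⟨e i, ⟨∏ j, (e j : B) ^ a' j, ?_⟩, ?_⟩
  · have := ZeroCyc.monomial_mem 𝒜 (fun j => (e j : B)) (fun _ => 1) (fun j => (e j).2) a'
    simpa [hsum] using this
  · show ∏ j, (e j : B) ^ a j = (e i : B) * ∏ j, (e j : B) ^ a' j
    rw [← Finset.mul_prod_erase _ _ (Finset.mem_univ i), ← Finset.mul_prod_erase _ (fun j => (e j : B) ^ a' j) (Finset.mem_univ i),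
      ← mul_assoc]
    congr 1
    · simp only [a', Function.update_self]
      rw [← pow_succ']; congr 1; omega
    · exact Finset.prod_congr rfl fun j hj => by simp [a', Function.update_of_ne (Finset.mem_erase.mp hj).1]

include hD hgen hfg in
theorem pow_mem (G : Set D)
    (hG : ∀ (L : Type u) [Field L] [Algebra A L] (χ : C A B 𝒜 d →ₐ[A] L) (P : Pt 𝒜 L d),
      (∀ n x, P.ψ n x = χ (tp 𝒜 d n x)) → ∀ z : Fin d → 𝒜 1, P.ψ 1 z ≠ 0 →
        ∃ x : D, x ∈ G ∧ ∃ hx : x.1 ∈ C A B 𝒜 d, χ ⟨x.1, hx⟩ ≠ 0)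
    (k : ℕ) (hk : 0 < k) (t : ⨂[A] _ : Fin d, B) (htD : t ∈ D)
    (htk : t ∈ Submodule.span A {s | ∃ b : Fin d → B, (∀ i, b i ∈ 𝒜 k) ∧ s = PiTensorProduct.tprod A b}) :
    ∃ m : ℕ, 0 < m ∧ (⟨t, htD⟩ : D) ^ m ∈ Ideal.span G := by
  classical
  suffices h : (⟨t, htD⟩ : D) ∈ (Ideal.span G).radical by
    obtain ⟨m, hm⟩ := h
    exact ⟨m + 1, Nat.succ_pos m, by rw [pow_succ]; exact Ideal.mul_mem_right _ _ hm⟩
  rw [Ideal.radical_eq_sInf, Ideal.mem_sInf]
  rintro P ⟨hGP, hP⟩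
  obtain ⟨Q, hQ, hQP⟩ := exists_prime_over 𝒜 hD P
  have htC : t ∈ C A B 𝒜 d := ((hD ▸ htD : t ∈ C A B 𝒜 d ⊓ SymTen.TS A B d)).1
  rw [← hQP ⟨t, htD⟩ htC]
  obtain ⟨L, _, _, χ, hχ⟩ := exists_point (A := A) Q
  let R : Pt 𝒜 L d :=
    { ψ := fun n => χ.toLinearMap.compMultilinearMap (tp 𝒜 d n)
      mul := fun x y => by
        show χ (tp 𝒜 d _ _) = χ (tp 𝒜 d _ x) * χ (tp 𝒜 d _ y)
        rw [← map_mul]
        exact congrArg χ (Subtype.ext (by
          show _ = (PiTensorProduct.tprod A _) * (PiTensorProduct.tprod A _)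
          rw [PiTensorProduct.tprod_mul_tprod]; rfl))
      one := by
        show χ (tp 𝒜 d 0 _) = 1
        rw [← map_one χ]
        exact congrArg χ (Subtype.ext PiTensorProduct.one_def.symm) }
  by_contra hne
  obtain ⟨z, hz⟩ : ∃ z : Fin d → 𝒜 1, R.ψ 1 z ≠ 0 := by
    obtain ⟨k', rfl⟩ : ∃ k', k = 1 + k' := ⟨k - 1, by omega⟩
    obtain ⟨x, hx⟩ : ∃ x : Fin d → 𝒜 (1 + k'), R.ψ (1 + k') x ≠ 0 := by
      by_contra hall
      push Not at hall
      refine hne ?_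
      have hle : Submodule.span A {s | ∃ b : Fin d → B, (∀ i, b i ∈ 𝒜 (1 + k')) ∧ s = PiTensorProduct.tprod A b} ≤
          (LinearMap.ker χ.toLinearMap).map (C A B 𝒜 d).val.toLinearMap := by
        refine Submodule.span_le.mpr ?_
        rintro _ ⟨b, hb, rfl⟩
        exact ⟨tp 𝒜 d _ fun i => ⟨b i, hb i⟩, hall _, rfl⟩
      obtain ⟨w, hw, hwt⟩ := hle htk
      rw [show (⟨t, htC⟩ : C A B 𝒜 d) = w from Subtype.ext hwt.symm, ← hχ]
      exact hw
    exact R.exists_deg_one 𝒜 (le_span_mul 𝒜 hgen hfg k') x hx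
  obtain ⟨x, hxG, hxC, hx⟩ := hG L χ R (fun n x => rfl) z hz
  exact hx ((hχ _).mpr ((hQP x hxC).mpr (hGP (Ideal.subset_span hxG))))

include hD hgen hfg in
theorem pow_mem_tpow (k : ℕ) (hk : 0 < k) (t : ⨂[A] _ : Fin d, B) (htD : t ∈ D)
    (htk : t ∈ Submodule.span A {s | ∃ b : Fin d → B, (∀ i, b i ∈ 𝒜 k) ∧ s = PiTensorProduct.tprod A b}) :
    ∃ m : ℕ, 0 < m ∧ (⟨t, htD⟩ : D) ^ m ∈
      Ideal.span {x : D | ∃ (n : ℕ) (f : B), 0 < n ∧ f ∈ 𝒜 n ∧
        (x : ⨂[A] _ : Fin d, B) = PiTensorProduct.tprod A (fun _ : Fin d => f)} := by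
  refine pow_mem 𝒜 hD hgen hfg _ (fun L _ _ χ P hP z hz => ?_) k hk t htD htk
  obtain ⟨n, hn, f, hf⟩ := P.exists_tpow_ne_zero 𝒜 z hz
  rw [hP] at hf
  refine ⟨⟨_, hD ▸ ⟨(tp 𝒜 d n fun _ => f).2, fun σ => ?_⟩⟩, ⟨n, f.1, hn, f.2, rfl⟩, (tp 𝒜 d n fun _ => f).2, hf⟩
  exact (SymTen.tpow A B d f.1).2 σ

include hD hgen hfg in
theorem pow_mem_tpow_degOne (hres : ∀ p : PrimeSpectrum A, (d : Cardinal) ≤ Cardinal.mk p.asIdeal.ResidueField)
    (k : ℕ) (hk : 0 < k) (t : ⨂[A] _ : Fin d, B) (htD : t ∈ D)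
    (htk : t ∈ Submodule.span A {s | ∃ b : Fin d → B, (∀ i, b i ∈ 𝒜 k) ∧ s = PiTensorProduct.tprod A b}) :
    ∃ m : ℕ, 0 < m ∧ (⟨t, htD⟩ : D) ^ m ∈
      Ideal.span {x : D | ∃ f : B, f ∈ 𝒜 1 ∧
        (x : ⨂[A] _ : Fin d, B) = PiTensorProduct.tprod A (fun _ : Fin d => f)} := by
  refine pow_mem 𝒜 hD hgen hfg _ (fun L _ _ χ P hP z hz => ?_) k hk t htD htk
  let p : PrimeSpectrum A := ⟨RingHom.ker (algebraMap A L), RingHom.ker_isPrime _⟩
  obtain ⟨c, hc⟩ := exists_distinct p d (hres p) d le_rfl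
  obtain ⟨f, hf⟩ := P.exists_tpow_ne_zero_deg_one 𝒜 z hz c fun i j h => hc i j (by
    show algebraMap A L (c i - c j) = 0
    rw [map_sub, h, sub_self])
  rw [hP] at hf
  refine ⟨⟨_, hD ▸ ⟨(tp 𝒜 d 1 fun _ => f).2, fun σ => ?_⟩⟩, ⟨f.1, f.2, rfl⟩, (tp 𝒜 d 1 fun _ => f).2, hf⟩
  exact (SymTen.tpow A B d f.1).2 σ

include hD hgen hfg in
theorem pow_mem_degOne (k : ℕ) (hk : 0 < k) (t : ⨂[A] _ : Fin d, B) (htD : t ∈ D)
    (htk : t ∈ Submodule.span A {s | ∃ b : Fin d → B, (∀ i, b i ∈ 𝒜 k) ∧ s = PiTensorProduct.tprod A b}) :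
    ∃ m : ℕ, 0 < m ∧ (⟨t, htD⟩ : D) ^ m ∈
      Ideal.span {x : D | (x : ⨂[A] _ : Fin d, B) ∈
        Submodule.span A {s | ∃ b : Fin d → B, (∀ i, b i ∈ 𝒜 1) ∧ s = PiTensorProduct.tprod A b}} := by
  classical
  refine pow_mem 𝒜 hD hgen hfg _ (fun L _ _ χ P hP z hz => ?_) k hk t htD htk
  obtain ⟨r, e, he⟩ := exists_gen 𝒜 hfg
  obtain ⟨κ, hκ⟩ := P.exists_orbit_ne_zero 𝒜 e he z hz
  simp only [hP, ← map_sum] at hκ
  set w := ∑ g ∈ (Finset.univ : Finset (Fin d → Fin r)).filter (fun g => (∑ i, Finsupp.single (g i) 1) = κ),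
    tp 𝒜 d 1 (fun i => e (g i)) with hw
  have hval : w.1 = ∑ g ∈ (Finset.univ : Finset (Fin d → Fin r)).filter (fun g => (∑ i, Finsupp.single (g i) 1) = κ),
      PiTensorProduct.tprod A (fun i => (e (g i) : B)) := by
    rw [hw, AddSubmonoidClass.coe_finsetSum]; rfl
  refine ⟨⟨w.1, hD ▸ ⟨w.2, fun σ => ?_⟩⟩, ?_, w.2, hκ⟩
  · rw [hval, map_sum]
    refine Finset.sum_equiv (Equiv.arrowCongr σ (Equiv.refl _)) (fun g => ?_) (fun g _ => ?_)
    · simp only [Finset.mem_filter, Finset.mem_univ, true_and]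
      rw [Fintype.sum_equiv σ.symm (fun i => Finsupp.single ((Equiv.arrowCongr σ (Equiv.refl (Fin r))) g i) 1)
        (fun i => Finsupp.single (g i) 1) fun i => rfl]
    · rw [PiTensorProduct.reindex_tprod]; rfl
  · simp only [Set.mem_setOf_eq]
    rw [hval]
    exact Submodule.sum_mem _ fun g _ => Submodule.subset_span ⟨_, fun i => (e (g i)).2, rfl⟩

end main

end Groth.Agent.PolLawLib.SymGraded
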