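import Mathlib
import Groth.Prelude.Def_Flat
import Groth.Agent.UnivHomeo.Scheme
import Groth.Agent.PolLawLib.SymFlat

/-!
# `Spec TS^d → Spec Γ^d` is a universal homeomorphism with trivial residue extensions
-/

set_option autoImplicit false

universe u

open scoped TensorProduct
open MvPolynomial

namespace Groth.Agent.PolLawLib

variable {A : Type u} [CommRing A] {B : Type u} [CommRing B] [Algebra A B] {C : Type u} [CommRing C] [Algebra A C] {d : ℕ}

theorem isIntegral_val_TS : (SymTen.TS A B d).val.toRingHom.IsIntegral := by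
  classical
  intro t
  let p : Polynomial (T A B d) := ∏ τ : Equiv.Perm (Fin d), (Polynomial.X - Polynomial.C (SymTen.perm A B d τ t))
  have hperm : ∀ (π τ : Equiv.Perm (Fin d)) (x : T A B d),
      SymTen.perm A B d π (SymTen.perm A B d τ x) = SymTen.perm A B d (π * τ) x := fun π τ x => by
    obtain ⟨w, rfl⟩ := ev_surjective (pi0 A B) pi0_surjective x
    rw [perm_ev, perm_ev, perm_ev, rename_rename]
    rfl
  have hcoef : ∀ k, p.coeff k ∈ SymTen.TS A B d := fun k => (SymTen.mem_TS_iff A B d _).mpr fun π => by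
    rw [← SymTen.perm_apply, show SymTen.perm A B d π (p.coeff k) = (SymTen.perm A B d π).toRingHom (p.coeff k) from rfl,
      ← Polynomial.coeff_map]
    congr 1
    simp only [p, Polynomial.map_prod, Polynomial.map_sub, Polynomial.map_X, Polynomial.map_C, AlgHom.toRingHom_eq_coe,
      RingHom.coe_coe]
    refine Fintype.prod_equiv (Equiv.mulLeft π) _ _ fun τ => ?_
    rw [hperm]; rfl
  obtain ⟨q, hq⟩ := (Polynomial.mem_map_range (SymTen.TS A B d).val.toRingHom).mpr fun k => ⟨⟨_, hcoef k⟩, rfl⟩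
  refine ⟨q, (Function.Injective.monic_map_iff (f := (SymTen.TS A B d).val.toRingHom) Subtype.val_injective).mpr ?_, ?_⟩
  · show (Polynomial.map (SymTen.TS A B d).val.toRingHom q).Monic
    rw [show Polynomial.map (SymTen.TS A B d).val.toRingHom q = p from hq]
    exact Polynomial.monic_prod_of_monic _ _ fun τ _ => Polynomial.monic_X_sub_C _
  · rw [← Polynomial.eval_map, show Polynomial.map (SymTen.TS A B d).val.toRingHom q = p from hq, Polynomial.eval_prod]
    refine Finset.prod_eq_zero (Finset.mem_univ 1) ?_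
    obtain ⟨w, rfl⟩ := ev_surjective (pi0 A B) pi0_surjective t
    rw [Polynomial.eval_sub, Polynomial.eval_X, Polynomial.eval_C, perm_ev]
    exact sub_eq_zero.mpr (congrArg _ (rename_id_apply w).symm)

section residue

variable (K : Type u) [Field K] [Algebra A K]

/-- The tensor power over the field from that over `A`. -/
noncomputable def jHom : K ⊗[A] T A B d →ₐ[K] T K (K ⊗[A] B) d :=
  Algebra.TensorProduct.lift (Algebra.ofId K _)
    (PiTensorProduct.liftAlgHom (((PiTensorProduct.tprod K (s := fun _ : Fin d => K ⊗[A] B)).restrictScalars A).compLinearMap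
      fun _ => (Algebra.TensorProduct.includeRight : B →ₐ[A] K ⊗[A] B).toLinearMap)
      (by simp [PiTensorProduct.one_def, Algebra.TensorProduct.one_def]; rfl)
      (fun x y => by simp [PiTensorProduct.tprod_mul_tprod, Pi.mul_def]))
    fun _ _ => Commute.all _ _

theorem jHom_tprod (f : Fin d → B) :
    (jHom (A := A) (B := B) (d := d) K) ((1 : K) ⊗ₜ[A] PiTensorProduct.tprod A f) =
      PiTensorProduct.tprod K fun l => (1 : K) ⊗ₜ[A] f l := by
  simp [jHom]

theorem jHom_injective : Function.Injective (jHom (A := A) (B := B) (d := d) K) := by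
  classical
  let inv : T K (K ⊗[A] B) d →ₐ[K] K ⊗[A] T A B d :=
    PiTensorProduct.liftAlgHom ((MultilinearMap.mkPiAlgebra K (Fin d) (K ⊗[A] T A B d)).compLinearMap
      fun l => (Algebra.TensorProduct.map (AlgHom.id K K) (ι A B d l)).toLinearMap)
      (by simp only [MultilinearMap.compLinearMap_apply, MultilinearMap.mkPiAlgebra_apply, AlgHom.toLinearMap_apply,
        Pi.one_apply, map_one, Finset.prod_const_one])
      (fun x y => by simp only [MultilinearMap.compLinearMap_apply, MultilinearMap.mkPiAlgebra_apply,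
        AlgHom.toLinearMap_apply, Pi.mul_apply, map_mul, Finset.prod_mul_distrib])
  refine Function.LeftInverse.injective (g := inv) fun x => ?_
  induction x using TensorProduct.induction_on with
  | zero => simp
  | add a b ha hb => simp only [map_add, ha, hb]
  | tmul k t =>
    rw [show k ⊗ₜ[A] t = k • ((1 : K) ⊗ₜ[A] t) by rw [TensorProduct.smul_tmul', smul_eq_mul, mul_one], map_smul, map_smul]
    congr 1
    induction t using PiTensorProduct.induction_on with
    | add a b ha hb => simp only [TensorProduct.tmul_add, map_add, ha, hb]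
    | smul_tprod r f =>
      rw [TensorProduct.tmul_smul]
      rw [show (jHom (A := A) (B := B) (d := d) K) (r • ((1 : K) ⊗ₜ[A] PiTensorProduct.tprod A f)) = r • (jHom (A := A) (B := B) (d := d) K) ((1 : K) ⊗ₜ[A] PiTensorProduct.tprod A f) from
        map_smul (((jHom (A := A) (B := B) (d := d) K)).restrictScalars A) r _, jHom_tprod,
        show inv (r • PiTensorProduct.tprod K fun l => (1 : K) ⊗ₜ[A] f l) =
          r • inv (PiTensorProduct.tprod K fun l => (1 : K) ⊗ₜ[A] f l) from map_smul (inv.restrictScalars A) r _]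
      congr 1
      simp only [inv, PiTensorProduct.liftAlgHom_apply, PiTensorProduct.lift.tprod, MultilinearMap.compLinearMap_apply,
        MultilinearMap.mkPiAlgebra_apply, AlgHom.toLinearMap_apply, Algebra.TensorProduct.map_tmul, AlgHom.coe_id, id_eq]
      rw [← prod_ι A B d f]
      exact (map_prod (Algebra.TensorProduct.includeRight : T A B d →ₐ[A] K ⊗[A] T A B d) _ _).symm

theorem jHom_evS : ((jHom (A := A) (B := B) (d := d) K)).comp (evS (d := d) (pi0 A B) K) = ev (piK K) := by
  classical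
  refine MvPolynomial.algHom_ext fun v => ?_
  rw [AlgHom.comp_apply, show ev (piK K) (X v : MvPolynomial (Fin d × B) K) = ι K (K ⊗[A] B) d v.1 (piK K (X v.2)) from aeval_X _ _,
    show evS (pi0 A B) K (X v : MvPolynomial (Fin d × B) K) = (1 : K) ⊗ₜ[A] ι A B d v.1 (pi0 A B (X v.2)) by
      rw [show (X v : MvPolynomial (Fin d × B) K) = MvPolynomial.map (algebraMap A K) (X v) from (map_X _ _).symm, evS_map]
      exact congrArg _ (aeval_X _ _)]
  show (jHom (A := A) (B := B) (d := d) K) ((1 : K) ⊗ₜ[A] PiTensorProduct.tprod A (Pi.mulSingle (M := fun _ : Fin d => B) v.1 (pi0 A B (X v.2)))) = _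
  rw [jHom_tprod]
  show PiTensorProduct.tprod K _ = PiTensorProduct.tprod K _
  congr 1
  funext i
  by_cases h : i = v.1
  · subst h; simp [pi0]
  · rw [Pi.mulSingle_eq_of_ne h]; exact (Pi.mulSingle_eq_of_ne (M := fun _ : Fin d => K ⊗[A] B) h _).symm

theorem jHom_mem_TS (t : SymTen.TS A B d) : (jHom (A := A) (B := B) (d := d) K) ((1 : K) ⊗ₜ[A] t.1) ∈ SymTen.TS K (K ⊗[A] B) d := by
  classical
  obtain ⟨σ, _, b, u, hu⟩ := exists_tev t.1
  have hj : ∀ u : (Fin d → σ) → A, (jHom (A := A) (B := B) (d := d) K) ((1 : K) ⊗ₜ[A] tev b u) =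
      tev (fun s => (1 : K) ⊗ₜ[A] b s) fun c => algebraMap A K (u c) := fun u => by
    simp only [tev, TensorProduct.tmul_sum, map_sum, TensorProduct.tmul_smul]
    refine Finset.sum_congr rfl fun c _ => ?_
    rw [show (jHom (A := A) (B := B) (d := d) K) (u c • ((1 : K) ⊗ₜ[A] PiTensorProduct.tprod A fun l => b (c l))) =
      u c • (jHom (A := A) (B := B) (d := d) K) ((1 : K) ⊗ₜ[A] PiTensorProduct.tprod A fun l => b (c l)) from map_smul (((jHom (A := A) (B := B) (d := d) K)).restrictScalars A) _ _,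
      jHom_tprod, algebraMap_smul]
  refine (SymTen.mem_TS_iff K _ d _).mpr fun τ => ?_
  rw [← hu, hj, reindex_tev, ← hj, ← reindex_tev, hu, t.2 τ, ← hu, hj]

variable {K}

theorem exists_lift_field {γ : PolLaw.MulLaw A B C d} {φ : C →ₐ[A] SymTen.TS A B d}
    (hφ : ∀ (S : Type u) [CommSemiring S] [Algebra A S] (n : ℕ) (s : Fin n → S) (b : Fin n → B),
      ((SymTen.TS A B d).val.comp φ).toLinearMap.lTensor S (γ.law.toFun' S (∑ j, s j ⊗ₜ[A] b j)) =
        ∑ c : Fin d → Fin n, (∏ i, s (c i)) ⊗ₜ[A] PiTensorProduct.tprod A (fun i => b (c i)))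
    (t : SymTen.TS A B d) :
    ∃ c : K ⊗[A] C, ((SymTen.TS A B d).val.comp φ).toLinearMap.lTensor K c = (1 : K) ⊗ₜ[A] t.1 := by
  have hsurj : Function.Surjective (piK (A := A) (B := B) K) := prB_surjective (A := A) (B := B) K
  obtain ⟨z, hz⟩ := Psi_surjective (isGammaD_tauLaw (A := K) (B := K ⊗[A] B) (d := d) (Or.inl inferInstance)) hsurj
    (⟨_, jHom_mem_TS K t⟩ : SymTen.TS K (K ⊗[A] B) d)
  refine ⟨Phi (γ.precomp (pi0 A B)) K z.1, ?_⟩
  rw [lTensor_Phi hφ K z.2]
  apply jHom_injective K
  rw [← AlgHom.comp_apply, jHom_evS, ← val_Psi_tau, hz]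

end residue

theorem exists_common_denom (p : Ideal A) [p.IsPrime] (c : p.ResidueField ⊗[A] C) :
    ∃ s, s ∉ p ∧ ∃ c₀ : C, algebraMap A p.ResidueField s • c = (1 : p.ResidueField) ⊗ₜ[A] c₀ := by
  induction c using TensorProduct.induction_on with
  | zero => exact ⟨1, fun h => (Ideal.ne_top_iff_one _).mp (Ideal.IsPrime.ne_top ‹_›) h, 0, by simp⟩
  | add x y hx hy =>
    obtain ⟨s, hs, c, hc⟩ := hx
    obtain ⟨t, ht, e, he⟩ := hy
    refine ⟨s * t, fun h => (Ideal.IsPrime.mem_or_mem ‹_› h).elim hs ht, t • c + s • e, ?_⟩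
    rw [smul_add, TensorProduct.tmul_add, TensorProduct.tmul_smul, TensorProduct.tmul_smul, map_mul]
    conv_lhs => arg 1; rw [mul_comm, mul_smul, hc, algebraMap_smul]
    conv_lhs => arg 2; rw [mul_smul, he, algebraMap_smul]
  | tmul k c =>
    obtain ⟨⟨a, s⟩, h⟩ := IsLocalization.surj (nonZeroDivisors (A ⧸ p)) k
    obtain ⟨a, rfl⟩ := Ideal.Quotient.mk_surjective a
    obtain ⟨s, hs⟩ := s
    obtain ⟨s, rfl⟩ := Ideal.Quotient.mk_surjective s
    refine ⟨s, fun hmem => nonZeroDivisors.ne_zero hs (Ideal.Quotient.eq_zero_iff_mem.mpr hmem), a • c, ?_⟩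
    rw [TensorProduct.smul_tmul', smul_eq_mul, TensorProduct.tmul_smul, TensorProduct.smul_tmul', mul_comm]
    congr 1
    rw [Algebra.smul_def, mul_one]
    exact h

variable {γ : PolLaw.MulLaw A B C d} {φ : C →ₐ[A] SymTen.TS A B d}
  (hφ : ∀ (S : Type u) [CommSemiring S] [Algebra A S] (n : ℕ) (s : Fin n → S) (b : Fin n → B),
      ((SymTen.TS A B d).val.comp φ).toLinearMap.lTensor S (γ.law.toFun' S (∑ j, s j ⊗ₜ[A] b j)) =
        ∑ c : Fin d → Fin n, (∏ i, s (c i)) ⊗ₜ[A] PiTensorProduct.tprod A (fun i => b (c i)))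

include hφ in
theorem triv_phi : UnivHomeo.Triv φ.toRingHom := by
  intro q hq y
  letI : Algebra (SymTen.TS A B d) (T A B d) := (SymTen.TS A B d).val.toRingHom.toAlgebra
  haveI : Algebra.IsIntegral (SymTen.TS A B d) (T A B d) := ⟨isIntegral_val_TS⟩
  obtain ⟨Q, -, hQ, hQc⟩ := Ideal.exists_ideal_over_prime_of_isIntegral q (⊥ : Ideal (T A B d)) (by
    rw [← RingHom.ker_eq_comap_bot, (RingHom.injective_iff_ker_eq_bot _).mp
      (show Function.Injective (algebraMap (SymTen.TS A B d) (T A B d)) from Subtype.val_injective)]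
    exact bot_le)
  let p : Ideal A := q.comap (algebraMap A (SymTen.TS A B d))
  haveI : p.IsPrime := Ideal.comap_isPrime _ _
  haveI := hQ
  obtain ⟨c, hc⟩ := exists_lift_field (K := p.ResidueField) hφ y
  obtain ⟨s, hs, c₀, hsc⟩ := exists_common_denom p c
  refine ⟨c₀, algebraMap A C s, ?_, ?_⟩
  · show φ (algebraMap A C s) ∉ q
    rw [AlgHom.commutes]; exact hs
  · show φ (algebraMap A C s) * y - φ c₀ ∈ q
    rw [AlgHom.commutes, ← hQc, Ideal.mem_comap, map_sub, sub_mem_comm_iff]
    -- read the identity at the point `Q`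
    let L := Q.ResidueField
    let P : T A B d →ₐ[A] L := IsScalarTower.toAlgHom A _ L
    have hmem : ∀ a : A, a ∈ p ↔ P (algebraMap A (T A B d) a) = 0 := fun a => by
      show algebraMap A (SymTen.TS A B d) a ∈ q ↔ _
      rw [← hQc, Ideal.mem_comap]
      exact Ideal.algebraMap_residueField_eq_zero.symm
    let e : p.ResidueField →ₐ[A] L := Ideal.ResidueField.liftₐ p (Algebra.ofId A L)
      (fun a ha => by rw [RingHom.mem_ker]; exact (P.commutes a).symm.trans ((hmem a).mp ha))
      (fun a ha => IsUnit.mk0 _ fun h0 => ha ((hmem a).mpr ((P.commutes a).trans h0)))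
    have h0 : ((SymTen.TS A B d).val.comp φ).toLinearMap.lTensor p.ResidueField (algebraMap A p.ResidueField s • c) =
        algebraMap A p.ResidueField s • ((1 : p.ResidueField) ⊗ₜ[A] y.1) := by
      rw [PolLaw.lTensor_algHom_apply, map_smul, ← PolLaw.lTensor_algHom_apply, hc]
    rw [hsc, LinearMap.lTensor_tmul, TensorProduct.smul_tmul', smul_eq_mul, mul_one] at h0
    have h1 := congrArg (Algebra.TensorProduct.productMap e P) h0
    rw [Algebra.TensorProduct.productMap_apply_tmul, Algebra.TensorProduct.productMap_apply_tmul, map_one, one_mul,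
      AlgHom.commutes, ← P.commutes s] at h1
    refine Ideal.algebraMap_residueField_eq_zero.mp ?_
    rw [map_sub, map_mul, sub_eq_zero, map_mul]
    exact h1

include hφ in
theorem univHomeo_phi (hγ : PolLaw.IsGammaD γ) :
    FlatMor.IsUnivHomeo (AlgebraicGeometry.Spec.map (CommRingCat.ofHom φ.toRingHom)) ∧
      ∀ x : ↥(AlgebraicGeometry.Spec (CommRingCat.of (SymTen.TS A B d))),
        Function.Surjective ((AlgebraicGeometry.Spec.map (CommRingCat.ofHom φ.toRingHom)).residueFieldMap x).hom := by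
  obtain ⟨hker, hpow⟩ := pow_factorial hφ hγ
  refine ⟨(UnivHomeo.isUnivHomeo_iff _).mpr ⟨fun y => ?_, fun K _ g₁ g₂ h => ?_, fun x hx => ⟨_, hker x hx⟩⟩,
    (UnivHomeo.residueFieldMap_surjective_iff _).mpr (triv_phi hφ)⟩
  · obtain ⟨c, hc⟩ := hpow y
    refine ⟨Polynomial.X ^ d.factorial - Polynomial.C c, Polynomial.monic_X_pow_sub_C c (Nat.factorial_ne_zero d), ?_⟩
    rw [Polynomial.eval₂_sub, Polynomial.eval₂_X_pow, Polynomial.eval₂_C]
    exact sub_eq_zero.mpr hc.symm
  · have hzero : ∀ y, g₁ y = 0 ↔ g₂ y = 0 := fun y => by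
      obtain ⟨c, hc⟩ := hpow y
      have e : ∀ g : SymTen.TS A B d →+* K, g y = 0 ↔ g (φ c) = 0 := fun g => by
        rw [show g (φ c) = g y ^ d.factorial from (congrArg g hc).trans (map_pow g y _),
          pow_eq_zero_iff (Nat.factorial_ne_zero d)]
      rw [e, e]
      have := congrArg (fun g : C →+* K => g c) h
      simp only [RingHom.comp_apply, AlgHom.toRingHom_eq_coe, RingHom.coe_coe] at this
      rw [this]
    refine RingHom.ext fun y => ?_
    obtain ⟨a, s, hs, ha⟩ := triv_phi hφ (RingHom.ker g₁) (RingHom.ker_isPrime _) y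
    have h2 : g₂ (φ.toRingHom s * y - φ.toRingHom a) = 0 := (hzero _).mp ha
    have ha' : g₁ (φ.toRingHom s) * g₁ y = g₁ (φ.toRingHom a) := by
      rw [← map_mul, ← sub_eq_zero, ← map_sub]; exact ha
    rw [map_sub, map_mul, sub_eq_zero, ← RingHom.comp_apply g₂, ← RingHom.comp_apply g₂, ← h, RingHom.comp_apply,
      RingHom.comp_apply, ← ha'] at h2
    exact (mul_left_cancel₀ hs h2).symm

end Groth.Agent.PolLawLib
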